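import Cfsg.Agent.Sporadic96.M24.FixValues

/-!
The normaliser in `Cfsg.M24` of a subgroup of order 7.

Main result: `seven_normalizer`.
-/

set_option autoImplicit false

namespace Cfsg.Agent.Sporadic96

open scoped Pointwise
open Cfsg.Agent.Golay (idx pt Tab comp idTab isPermTab checkAut fixedPts fixCount)

def seven7Tab : List ℕ :=
  [0, 1, 22, 7, 20, 3, 15, 9, 8, 14, 4, 2, 21, 23, 13, 12, 6, 19, 10, 16, 11, 17, 18, 5]
def seven2Tab : List ℕ :=
  [1, 0, 17, 3, 15, 5, 10, 7, 8, 9, 6, 21, 20, 13, 14, 4, 18, 2, 16, 22, 12, 11, 19, 23]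
def seven3Tab : List ℕ :=
  [1, 8, 3, 17, 13, 21, 10, 19, 0, 16, 14, 5, 20, 15, 6, 4, 18, 2, 9, 22, 23, 11, 7, 12]
def sevenNTab : List ℕ :=
  [0, 1, 2, 3, 22, 23, 21, 9, 8, 13, 11, 20, 6, 7, 5, 19, 15, 17, 4, 16, 10, 12, 18, 14]

set_option maxRecDepth 40000 in
theorem seven_facts :
    ([seven7Tab, seven2Tab, seven3Tab, sevenNTab].all fun l => isPermTab l && checkAut l) = true ∧
    (List.range 7).foldl (fun a _ => comp seven7Tab a) idTab = idTab ∧
    seven7Tab ≠ idTab ∧ seven7Tab.length = 24 ∧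
    fixCount seven7Tab = 3 ∧
    (comp seven2Tab seven7Tab = comp seven7Tab seven2Tab ∧
      comp seven3Tab seven7Tab = comp seven7Tab seven3Tab ∧
      comp sevenNTab seven7Tab = comp (comp seven7Tab seven7Tab) sevenNTab) ∧
    comp seven7Tab seven7Tab ≠ seven7Tab ∧
    (List.range 24).all (fun i => (seven7Tab.getD i 0).beq i == [0, 1, 8].contains i) = true ∧
    ([0, 1, 8].map fun i => (seven2Tab.getD i 0, seven3Tab.getD i 0,
      seven2Tab.getD (seven2Tab.getD i 0) 0, seven3Tab.getD (seven3Tab.getD (seven3Tab.getD i 0) 0) 0))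
      = [(1, 1, 0, 0), (0, 8, 1, 1), (8, 0, 8, 8)] ∧
    comp seven2Tab seven3Tab ≠ comp seven3Tab seven2Tab ∧
    fixedCount 3 3795 trioP seven7Tab = 1 := by
  decide +kernel

theorem seven7_perm : isPermTab seven7Tab = true := by decide +kernel

theorem seven7_aut : checkAut seven7Tab = true := by decide +kernel

/-- An element of order 7. -/
noncomputable def sevenEl : ↥Cfsg.M24 :=
  ⟨Golay.permOf seven7Tab seven7_perm, (Golay.tab_permOf seven7_perm).mem_M24 seven7_aut⟩

theorem tab_sevenEl : Tab (sevenEl : Equiv.Perm GolayPt) seven7Tab := Golay.tab_permOf seven7_perm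

theorem tab_pow_foldl {g : Equiv.Perm GolayPt} {l : List ℕ} (t : Tab g l) :
    ∀ n, Tab (g ^ n) ((List.range n).foldl (fun a _ => comp l a) idTab)
  | 0 => by rw [pow_zero]; exact Golay.tab_one
  | n + 1 => by
    rw [List.range_succ, List.foldl_append, List.foldl_cons, List.foldl_nil, pow_succ']
    exact t.mul (tab_pow_foldl t n)

theorem orderOf_sevenEl : orderOf (sevenEl : Equiv.Perm GolayPt) = 7 := by
  haveI : Fact (Nat.Prime 7) := ⟨by norm_num⟩
  refine orderOf_eq_prime ?_ fun e => ?_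
  · exact Golay.tab_unique (seven_facts.2.1 ▸ tab_pow_foldl tab_sevenEl 7) Golay.tab_one
  · have h : (fixedPts (sevenEl : Equiv.Perm GolayPt)).card = 3 :=
      tab_sevenEl.card_fixedPts.trans seven_facts.2.2.2.2.1
    rw [e, show fixedPts 1 = Finset.univ by ext; simp, Finset.card_univ, Golay.card_golayPt] at h
    omega

/-- An element that inverts `x` fixes at most one point of each cycle of `x`. -/
theorem seven_mul_card_le {x h : Equiv.Perm GolayPt} (hx : x ^ 7 = 1) {S : Finset GolayPt}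
    (hS : ∀ p ∈ S, h p = p ∧ x p ≠ p) (hh : h * x = x⁻¹ * h) :
    7 * S.card + (fixedPts x).card ≤ 24 := by
  have hinv : ∀ i : ℕ, h * x ^ i = (x ^ i)⁻¹ * h := by
    intro i
    induction i with
    | zero => simp
    | succ i ih =>
      calc h * x ^ (i + 1) = (h * x ^ i) * x := by rw [pow_succ]; group
        _ = (x ^ i)⁻¹ * (h * x) := by rw [ih]; group
        _ = _ := by rw [hh, pow_succ']; group
  have hper : ∀ (p : GolayPt) (n : ℕ), x p ≠ p → (x ^ n) p = p → 7 ∣ n := by
    intro p n hp hn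
    by_contra h7
    have hc : Nat.Coprime n 7 := Nat.coprime_comm.1 ((by norm_num : Nat.Prime 7).coprime_iff_not_dvd.2 h7)
    obtain ⟨m, hm⟩ := exists_pow_eq_self_of_coprime (x := x)
      (hc.coprime_dvd_right (orderOf_dvd_of_pow_eq_one hx))
    apply hp
    rw [← hm]
    exact Equiv.Perm.pow_apply_eq_self_of_apply_eq_self hn m
  set f : GolayPt × ℕ → GolayPt := fun q => (x ^ q.2) q.1
  have hinj : Set.InjOn f (S ×ˢ Finset.range 7 : Finset _) := by
    rintro ⟨p, i⟩ hp ⟨q, j⟩ hq e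
    simp only [Finset.coe_product, Set.mem_prod, Finset.mem_coe, Finset.mem_range] at hp hq
    simp only [f] at e
    obtain ⟨k, hk, hqk⟩ : ∃ k < 7, (x ^ k) p = q := by
      refine ⟨(i + (7 - j)) % 7, Nat.mod_lt _ (by norm_num), ?_⟩
      rw [← pow_eq_pow_mod _ hx, Nat.add_comm, pow_add, Equiv.Perm.mul_apply, e,
        ← Equiv.Perm.mul_apply, ← pow_add, Nat.sub_add_cancel hq.2.le, hx, Equiv.Perm.one_apply]
    have hk0 : (x ^ (k + k)) p = p := by
      have h1 := DFunLike.congr_fun (hinv k) p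
      rw [Equiv.Perm.mul_apply, Equiv.Perm.mul_apply, hqk, (hS q hq.1).1, (hS p hp.1).1,
        Equiv.Perm.coe_inv, eq_comm, Equiv.symm_apply_eq] at h1
      rw [pow_add, Equiv.Perm.mul_apply, hqk, ← h1]
    have : 7 ∣ k + k := hper p _ (hS p hp.1).2 hk0
    obtain rfl : k = 0 := by omega
    rw [pow_zero, Equiv.Perm.one_apply] at hqk
    subst hqk
    have hij : i = j := by
      rcases le_total i j with hle | hle
      · have : 7 ∣ j - i := hper p _ (hS p hp.1).2 (by
          apply (x ^ i).injective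
          rw [← Equiv.Perm.mul_apply, ← pow_add, Nat.add_sub_cancel' hle, e])
        omega
      · have : 7 ∣ i - j := hper p _ (hS p hp.1).2 (by
          apply (x ^ j).injective
          rw [← Equiv.Perm.mul_apply, ← pow_add, Nat.add_sub_cancel' hle, e])
        omega
    rw [hij]
  have hsub : (S ×ˢ Finset.range 7).image f ⊆ (fixedPts x)ᶜ := by
    intro p hp
    obtain ⟨⟨q, i⟩, hq, rfl⟩ := Finset.mem_image.1 hp
    rw [Finset.mem_product] at hq
    rw [Finset.mem_compl, Golay.mem_fixedPts]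
    intro e
    apply (hS q hq.1).2
    simp only [f] at e
    apply (x ^ i).injective
    rw [← Equiv.Perm.mul_apply, ← pow_succ, pow_succ', Equiv.Perm.mul_apply, e]
  have h1 := Finset.card_le_card hsub
  rw [Finset.card_image_of_injOn hinj, Finset.card_product, Finset.card_range, Finset.card_compl,
    Golay.card_golayPt] at h1
  have := Finset.card_le_univ (fixedPts x)
  rw [Golay.card_golayPt] at this
  omega

/-- The elements of `M24` commuting with `sevenEl` and fixing its fixed points are its powers. -/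
theorem seven_kernel {y : Equiv.Perm GolayPt} (hy : y ∈ Cfsg.M24)
    (hc : y * sevenEl = sevenEl * y) (hfix : ∀ p ∈ fixedPts (sevenEl : Equiv.Perm GolayPt), y p = p) :
    y ∈ Subgroup.zpowers (sevenEl : Equiv.Perm GolayPt) := by
  set x : Equiv.Perm GolayPt := ↑sevenEl
  have hx7 : x ^ 7 = 1 := by rw [← orderOf_sevenEl]; exact pow_orderOf_eq_one x
  have hF : (fixedPts x).card = 3 := tab_sevenEl.card_fixedPts.trans seven_facts.2.2.2.2.1
  have semi : ∀ z ∈ Cfsg.M24, z * x = x * z → (∀ p ∈ fixedPts x, z p = p) → ∀ a, x a ≠ a →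
      z a = a → z = 1 := by
    intro z hz hzc hzF a ha hza
    by_contra h1
    have hle := Golay.card_fixedPts_le hz h1
    have hsub : fixedPts x ∪ (Finset.range 7).image (fun i => (x ^ i) a) ⊆ fixedPts z := by
      intro p hp
      rw [Golay.mem_fixedPts]
      rcases Finset.mem_union.1 hp with hp | hp
      · exact hzF p hp
      · obtain ⟨i, -, rfl⟩ := Finset.mem_image.1 hp
        have hci : z * x ^ i = x ^ i * z := (Commute.pow_right hzc i).eq
        rw [← Equiv.Perm.mul_apply, hci, Equiv.Perm.mul_apply, hza]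
    have hinj : Set.InjOn (fun i => (x ^ i) a) (Finset.range 7 : Finset ℕ) := by
      intro i hi j hj e
      simp only [Finset.coe_range, Set.mem_Iio] at hi hj
      simp only at e
      by_contra hij
      obtain ⟨d, hd0, hd7, hd⟩ : ∃ d, 0 < d ∧ d < 7 ∧ (x ^ d) a = a := by
        rcases lt_or_gt_of_ne hij with hlt | hlt
        · refine ⟨j - i, by omega, by omega, (x ^ i).injective ?_⟩
          rw [← Equiv.Perm.mul_apply, ← pow_add, Nat.add_sub_cancel' hlt.le, e]
        · refine ⟨i - j, by omega, by omega, (x ^ j).injective ?_⟩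
          rw [← Equiv.Perm.mul_apply, ← pow_add, Nat.add_sub_cancel' hlt.le, e]
      have hd1 : Nat.Coprime d (orderOf x) := by
        rw [orderOf_sevenEl, Nat.coprime_comm, (by norm_num : Nat.Prime 7).coprime_iff_not_dvd]
        omega
      obtain ⟨m, hm⟩ := exists_pow_eq_self_of_coprime hd1
      exact ha (by rw [← hm]; exact Equiv.Perm.pow_apply_eq_self_of_apply_eq_self hd m)
    have hdisj : Disjoint (fixedPts x) ((Finset.range 7).image fun i => (x ^ i) a) := by
      rw [Finset.disjoint_left]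
      intro p hp hp'
      obtain ⟨i, -, rfl⟩ := Finset.mem_image.1 hp'
      rw [Golay.mem_fixedPts] at hp
      apply ha
      apply (x ^ i).injective
      rw [← Equiv.Perm.mul_apply, ← pow_succ, pow_succ', Equiv.Perm.mul_apply, hp]
    have := Finset.card_le_card hsub
    rw [Finset.card_union_of_disjoint hdisj, Finset.card_image_of_injOn hinj, Finset.card_range,
      hF] at this
    omega
  let K : Subgroup (Equiv.Perm GolayPt) :=
    Cfsg.M24 ⊓ Subgroup.centralizer {x} ⊓
      fixingSubgroup (Equiv.Perm GolayPt) (fixedPts x : Set GolayPt)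
  have hmem : ∀ z, z ∈ K ↔ z ∈ Cfsg.M24 ∧ z * x = x * z ∧ ∀ p ∈ fixedPts x, z p = p := fun z => by
    simp only [K, Subgroup.mem_inf, Subgroup.mem_centralizer_singleton_iff,
      mem_fixingSubgroup_iff, Finset.mem_coe, Equiv.Perm.smul_def, and_assoc]
  obtain ⟨a, ha⟩ : ∃ a, x a ≠ a := by
    by_contra h
    push Not at h
    have : x = 1 := Equiv.ext h
    have ho := orderOf_sevenEl
    rw [show (sevenEl : Equiv.Perm GolayPt) = x from rfl, this, orderOf_one] at ho
    omega
  have hle : Nat.card ↥K ≤ 21 := by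
    have hinj : Function.Injective (fun z : ↥K =>
        (⟨(z : Equiv.Perm GolayPt) a, by
          rw [Finset.mem_compl, Golay.mem_fixedPts]
          intro e
          apply ha
          apply (z : Equiv.Perm GolayPt).injective
          rw [← Equiv.Perm.mul_apply, ((hmem z).1 z.2).2.1, Equiv.Perm.mul_apply, e]⟩ :
          ↥((fixedPts x)ᶜ : Finset GolayPt))) := by
      intro z w e
      have e' : (z : Equiv.Perm GolayPt) a = (w : Equiv.Perm GolayPt) a := congrArg Subtype.val e
      obtain ⟨h1, h2, h3⟩ := (hmem _).1 (K.mul_mem (K.inv_mem w.2) z.2)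
      have := semi _ h1 h2 h3 a ha (by
        rw [Equiv.Perm.mul_apply, e', Equiv.Perm.coe_inv, Equiv.symm_apply_apply])
      exact Subtype.ext (inv_mul_eq_one.1 this).symm
    have := Nat.card_le_card_of_injective _ hinj
    rwa [Nat.card_eq_fintype_card (α := ↥((fixedPts x)ᶜ : Finset GolayPt)), Fintype.card_coe,
      Finset.card_compl, Golay.card_golayPt, hF] at this
  have hxK : x ∈ K := (hmem x).2 ⟨sevenEl.2, rfl, fun p hp => Golay.mem_fixedPts.1 hp⟩
  haveI : Finite ↥K := Subtype.finite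
  have hprime : ∀ p : ℕ, p.Prime → p ∣ Nat.card ↥K → p = 7 := by
    intro p hp hdvd
    haveI := Fact.mk hp
    obtain ⟨z, hz⟩ := exists_prime_orderOf_dvd_card' p hdvd
    obtain ⟨h1, h2, h3⟩ := (hmem z).1 z.2
    have ho : orderOf (z : Equiv.Perm GolayPt) = p := by rw [Subgroup.orderOf_coe, hz]
    have hne : (z : Equiv.Perm GolayPt) ≠ 1 := fun e => by
      rw [e, orderOf_one] at ho; exact hp.one_lt.ne ho
    have hzF : fixedPts (z : Equiv.Perm GolayPt) = fixedPts x := by
      refine Finset.Subset.antisymm (fun q hq => ?_) fun q hq => Golay.mem_fixedPts.2 (h3 q hq)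
      rw [Golay.mem_fixedPts] at hq ⊢
      by_contra hqx
      exact hne (semi _ h1 h2 h3 q hqx hq)
    have hcard : (fixedPts (z : Equiv.Perm GolayPt)).card = 3 := by rw [hzF, hF]
    have h2' : p ≠ 2 := by
      rintro rfl
      rcases exists_rep_two h1 ho with ⟨h, -⟩ | ⟨h, -⟩ <;> omega
    have h3' : p ≠ 3 := by
      rintro rfl
      rcases card_fixedPts_three h1 ho with h | h <;> omega
    have h5' : p ≠ 5 := by
      rintro rfl
      have := Golay.card_fixedPts_five h1 ho
      omega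
    have hpdvd : p ∣ 244823040 := by
      rw [← Golay.card_M24]
      exact hdvd.trans (Subgroup.card_dvd_of_le fun z hz => ((hmem z).1 hz).1)
    have hp21 : p ≤ 21 := (Nat.le_of_dvd Nat.card_pos hdvd).trans hle
    have h11' : p ≠ 11 := by
      rintro rfl
      have := Golay.card_fixedPts_eleven h1 ho
      omega
    have hp2 := hp.two_le
    interval_cases p <;> first | rfl | omega | (norm_num at hp) | (norm_num at hpdvd)
  have hpow : Nat.card ↥K = 7 := by
    have h7 : 7 ∣ Nat.card ↥K := by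
      rw [← orderOf_sevenEl]
      exact (Subgroup.orderOf_mk (H := K) x hxK) ▸ orderOf_dvd_natCard (⟨x, hxK⟩ : ↥K)
    obtain ⟨m, hm⟩ := h7
    have hpos : 0 < Nat.card ↥K := Nat.card_pos
    have hm3 : m ≤ 3 := by omega
    rcases (by omega : m = 1 ∨ m = 2 ∨ m = 3) with rfl | rfl | rfl
    · omega
    · exact absurd (hprime 2 Nat.prime_two (by rw [hm]; norm_num)) (by norm_num)
    · exact absurd (hprime 3 Nat.prime_three (by rw [hm]; norm_num)) (by norm_num)
  have heq : Subgroup.zpowers x = K :=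
    Subgroup.eq_of_le_of_card_ge (Subgroup.zpowers_le.2 hxK)
      (by rw [Nat.card_zpowers, orderOf_sevenEl, hpow])
  rw [heq, hmem]
  exact ⟨hy, hc, hfix⟩

/-- Nothing in `M24` inverts `sevenEl` and fixes its fixed points. -/
theorem seven_not_inverted {g : Equiv.Perm GolayPt} (hg : g ∈ Cfsg.M24)
    (hinv : g * sevenEl = (sevenEl : Equiv.Perm GolayPt)⁻¹ * g)
    (hfix : ∀ p ∈ fixedPts (sevenEl : Equiv.Perm GolayPt), g p = p) : False := by
  set x : Equiv.Perm GolayPt := ↑sevenEl
  have hx7 : x ^ 7 = 1 := by rw [← orderOf_sevenEl]; exact pow_orderOf_eq_one x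
  have hxinv : g * x⁻¹ = x * g := by
    rw [mul_inv_eq_iff_eq_mul, mul_assoc, hinv, mul_inv_cancel_left]
  have hsq : g * g * x = x * (g * g) := by
    rw [mul_assoc, hinv, ← mul_assoc, hxinv, mul_assoc]
  have hmemK := seven_kernel (Cfsg.M24.mul_mem hg hg) hsq fun p hp => by
    rw [Equiv.Perm.mul_apply, hfix p hp, hfix p hp]
  obtain ⟨i, hi⟩ := Subgroup.mem_zpowers_iff.1 hmemK
  set h := g * (g * g) ^ 3 with hh
  have hhM : h ∈ Cfsg.M24 :=
    Cfsg.M24.mul_mem hg (Cfsg.M24.pow_mem (Cfsg.M24.mul_mem hg hg) 3)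
  have hhinv : h * x = x⁻¹ * h := by
    rw [hh, mul_assoc, (Commute.pow_left hsq 3).eq, ← mul_assoc, hinv, mul_assoc]
  have h2 : h * h = 1 := by
    have hgg : (g * g) ^ 7 = 1 := by
      rw [← hi, ← zpow_natCast, ← zpow_mul, mul_comm, zpow_mul, zpow_natCast, hx7, one_zpow]
    calc h * h = (g * g) ^ 7 := by
          rw [hh]
          have hc : Commute g (g * g) := (Commute.refl g).mul_right (Commute.refl g)
          calc g * (g * g) ^ 3 * (g * (g * g) ^ 3) = g * ((g * g) ^ 3 * g) * (g * g) ^ 3 := by group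
            _ = g * (g * (g * g) ^ 3) * (g * g) ^ 3 := by rw [(hc.pow_right 3).eq]
            _ = (g * g) * ((g * g) ^ 3 * (g * g) ^ 3) := by group
            _ = (g * g) ^ 7 := by rw [← pow_add, ← pow_succ']
      _ = 1 := hgg
  have hne : h ≠ 1 := by
    intro e
    rw [e, one_mul, mul_one, eq_inv_iff_mul_eq_one] at hhinv
    have h2x : x ^ 2 = 1 := by rw [pow_two]; exact hhinv
    have := orderOf_dvd_of_pow_eq_one h2x
    rw [orderOf_sevenEl] at this
    omega
  haveI : Fact (Nat.Prime 2) := ⟨Nat.prime_two⟩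
  have ho : orderOf h = 2 := orderOf_eq_prime (by rw [pow_two, h2]) hne
  have hF : (fixedPts x).card = 3 := tab_sevenEl.card_fixedPts.trans seven_facts.2.2.2.2.1
  have hsubF : fixedPts x ⊆ fixedPts h := fun p hp => by
    rw [Golay.mem_fixedPts, hh, Equiv.Perm.mul_apply,
      Equiv.Perm.pow_apply_eq_self_of_apply_eq_self
        (by rw [Equiv.Perm.mul_apply, hfix p hp, hfix p hp]) 3, hfix p hp]
  have h8 : (fixedPts h).card = 8 := by
    rcases exists_rep_two hhM ho with ⟨e, -⟩ | ⟨e, -⟩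
    · exact e
    · have := Finset.card_le_card hsubF; omega
  have := seven_mul_card_le hx7 (S := fixedPts h \ fixedPts x) (fun p hp => by
    rw [Finset.mem_sdiff, Golay.mem_fixedPts, Golay.mem_fixedPts] at hp
    exact hp) hhinv
  rw [Finset.card_sdiff_of_subset hsubF, h8, hF] at this
  omega

theorem seven_tabs_mem {l : List ℕ} (h : l ∈ [seven7Tab, seven2Tab, seven3Tab, sevenNTab]) :
    ∃ g : ↥Cfsg.M24, Tab (g : Equiv.Perm GolayPt) l := by
  have hl := List.all_eq_true.1 seven_facts.1 l h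
  rw [Bool.and_eq_true] at hl
  exact ⟨⟨_, (Golay.tab_permOf hl.1).mem_M24 hl.2⟩, Golay.tab_permOf hl.1⟩

theorem seven_rep :
    Nat.card ↥(Subgroup.normalizer (Subgroup.zpowers sevenEl : Set ↥Cfsg.M24)) = 126 ∧
    Nat.card ↥(Subgroup.centralizer (Subgroup.zpowers sevenEl : Set ↥Cfsg.M24)) = 42 ∧
    (∃ x ∈ Subgroup.centralizer (Subgroup.zpowers sevenEl : Set ↥Cfsg.M24),
      ∃ y ∈ Subgroup.centralizer (Subgroup.zpowers sevenEl : Set ↥Cfsg.M24), x * y ≠ y * x) ∧
    ∃ T ∈ trios, ∀ n ∈ Subgroup.normalizer (Subgroup.zpowers sevenEl : Set ↥Cfsg.M24),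
      ((n : ↥Cfsg.M24) : Equiv.Perm GolayPt) • T = T := by
  obtain ⟨-, -, -, -, -, ⟨hc2, hc3, hcN⟩, hne2, hFix, hperm, hnc, htrio⟩ := seven_facts
  obtain ⟨s, ts⟩ := seven_tabs_mem (l := seven2Tab) (by simp)
  obtain ⟨u, tu⟩ := seven_tabs_mem (l := seven3Tab) (by simp)
  obtain ⟨w, tw⟩ := seven_tabs_mem (l := sevenNTab) (by simp)
  set S := Subgroup.zpowers sevenEl with hSdef
  set x : Equiv.Perm GolayPt := ↑sevenEl
  set C := Subgroup.centralizer (S : Set ↥Cfsg.M24) with hCdef
  have hcent : ∀ g : ↥Cfsg.M24, g ∈ C ↔ (g : Equiv.Perm GolayPt) * x = x * g := by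
    intro g
    rw [hCdef, hSdef, Subgroup.zpowers_eq_closure, Subgroup.centralizer_closure,
      Subgroup.mem_centralizer_singleton_iff, Subtype.ext_iff]
    exact Iff.rfl
  have hsC : s ∈ C :=
    (hcent s).2 (Golay.tab_unique (hc2 ▸ ts.mul tab_sevenEl) (tab_sevenEl.mul ts))
  have huC : u ∈ C :=
    (hcent u).2 (Golay.tab_unique (hc3 ▸ tu.mul tab_sevenEl) (tab_sevenEl.mul tu))
  have hmaps : ∀ (g : ↥C) (p : GolayPt),
      (p ∈ fixedPts x ↔ ((g : ↥Cfsg.M24) : Equiv.Perm GolayPt) p ∈ fixedPts x) := by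
    intro g p
    rw [Golay.mem_fixedPts, Golay.mem_fixedPts, ← Equiv.Perm.mul_apply x,
      ← (hcent g).1 g.2, Equiv.Perm.mul_apply, EmbeddingLike.apply_eq_iff_eq]
  let f : ↥C →* Equiv.Perm ↥(fixedPts x) :=
    MonoidHom.mk' (fun g => ((g : ↥Cfsg.M24) : Equiv.Perm GolayPt).subtypePerm
      fun p => (hmaps g p).symm) fun a b => by ext p; rfl
  have hF : (fixedPts x).card = 3 := tab_sevenEl.card_fixedPts.trans seven_facts.2.2.2.2.1
  have hmemF : ∀ p, p ∈ fixedPts x ↔ idx p ∈ [0, 1, 8] := by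
    intro p
    have h := List.all_eq_true.1 hFix (idx p) (List.mem_range.2 (Golay.idx_lt p))
    rw [beq_iff_eq] at h
    rw [Golay.mem_fixedPts, tab_sevenEl.apply, ← List.contains_iff_mem, ← h, Nat.beq_eq]
    exact ⟨fun e => by rw [← Golay.idx_pt (tab_sevenEl.lt (Golay.idx_lt p)), e],
      fun e => by rw [e, Golay.pt_idx]⟩
  simp only [List.map_cons, List.map_nil, List.cons.injEq, Prod.mk.injEq, and_true] at hperm
  obtain ⟨⟨a0, b0, a0', b0'⟩, ⟨a1, b1, a1', b1'⟩, a8, b8, a8', b8'⟩ := hperm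
  have hkerC : Nat.card ↥f.ker = 7 := by
    rw [← orderOf_sevenEl, ← Nat.card_zpowers]
    refine Nat.card_congr
      { toFun := fun g => ⟨((g.1 : ↥Cfsg.M24) : Equiv.Perm GolayPt),
          seven_kernel (g.1 : ↥Cfsg.M24).2 ((hcent g.1).1 g.1.2)
            fun p hp => congrArg Subtype.val (Equiv.Perm.ext_iff.1 g.2 ⟨p, hp⟩)⟩
        invFun := fun g => ⟨⟨⟨g.1, ?_⟩, ?_⟩, ?_⟩
        left_inv := fun _ => rfl
        right_inv := fun _ => rfl }
    · exact Subgroup.zpowers_le.2 sevenEl.2 g.2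
    · obtain ⟨i, hi⟩ := Subgroup.mem_zpowers_iff.1 g.2
      refine (hcent _).2 ?_
      show g.1 * x = x * g.1
      rw [← hi]
      exact (Commute.refl x).zpow_left i
    · refine Equiv.ext fun p => Subtype.ext ?_
      obtain ⟨i, hi⟩ := Subgroup.mem_zpowers_iff.1 g.2
      show g.1 p = p
      rw [← hi]
      exact Equiv.Perm.zpow_apply_eq_self_of_apply_eq_self (Golay.mem_fixedPts.1 p.2) i
  have hp0 : pt 0 ∈ fixedPts x := (hmemF _).2 (by rw [Golay.idx_pt (by norm_num)]; simp)
  have hsurj : Function.Surjective f := by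
    have hs2 : orderOf (f ⟨s, hsC⟩) = 2 := by
      haveI : Fact (Nat.Prime 2) := ⟨Nat.prime_two⟩
      refine orderOf_eq_prime (Equiv.ext fun p => Subtype.ext ?_) fun e => ?_
      · rw [pow_two]
        show ((s : Equiv.Perm GolayPt)) ((s : Equiv.Perm GolayPt) p) = p
        apply Golay.idx_injective
        rw [ts.apply, Golay.idx_pt (ts.lt (Golay.idx_lt _)), ts.apply,
          Golay.idx_pt (ts.lt (Golay.idx_lt _))]
        have := (hmemF p).1 p.2
        simp only [List.mem_cons, List.not_mem_nil, or_false] at this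
        rcases this with h | h | h <;> rw [h] <;> assumption
      · have h : (s : Equiv.Perm GolayPt) (pt 0) = pt 0 :=
          congrArg Subtype.val (Equiv.Perm.ext_iff.1 e ⟨pt 0, hp0⟩)
        have h' := congrArg idx h
        rw [ts 0 (by norm_num), a0, Golay.idx_pt (by norm_num)] at h'
        omega
    have hu3 : orderOf (f ⟨u, huC⟩) = 3 := by
      haveI : Fact (Nat.Prime 3) := ⟨Nat.prime_three⟩
      refine orderOf_eq_prime (Equiv.ext fun p => Subtype.ext ?_) fun e => ?_
      · rw [pow_three]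
        show ((u : Equiv.Perm GolayPt)) ((u : Equiv.Perm GolayPt) ((u : Equiv.Perm GolayPt) p)) = p
        apply Golay.idx_injective
        rw [tu.apply, Golay.idx_pt (tu.lt (Golay.idx_lt _)), tu.apply,
          Golay.idx_pt (tu.lt (Golay.idx_lt _)), tu.apply, Golay.idx_pt (tu.lt (Golay.idx_lt _))]
        have := (hmemF p).1 p.2
        simp only [List.mem_cons, List.not_mem_nil, or_false] at this
        rcases this with h | h | h <;> rw [h] <;> assumption
      · have h : (u : Equiv.Perm GolayPt) (pt 0) = pt 0 :=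
          congrArg Subtype.val (Equiv.Perm.ext_iff.1 e ⟨pt 0, hp0⟩)
        have h' := congrArg idx h
        rw [tu 0 (by norm_num), b0, Golay.idx_pt (by norm_num)] at h'
        omega
    have hsix : Nat.card (Equiv.Perm ↥(fixedPts x)) = 6 := by
      rw [Nat.card_eq_fintype_card, Fintype.card_perm, Fintype.card_coe, hF]; rfl
    rw [← MonoidHom.range_eq_top]
    refine Subgroup.eq_top_of_card_eq _ ?_
    have h2 : 2 ∣ Nat.card ↥f.range := by
      rw [← hs2, ← Subgroup.orderOf_mk (H := f.range) _ ⟨_, rfl⟩]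
      exact orderOf_dvd_natCard _
    have h3 : 3 ∣ Nat.card ↥f.range := by
      rw [← hu3, ← Subgroup.orderOf_mk (H := f.range) _ ⟨_, rfl⟩]
      exact orderOf_dvd_natCard _
    have h6 := Subgroup.card_subgroup_dvd_card f.range
    have hle : Nat.card ↥f.range ≤ 6 := hsix ▸ Nat.le_of_dvd Nat.card_pos h6
    have h0 : 0 < Nat.card ↥f.range := Nat.card_pos
    rw [hsix]
    omega
  have hC42 : Nat.card ↥C = 42 := by
    have h1 := Subgroup.card_mul_index f.ker
    rw [hkerC, Subgroup.index_ker, MonoidHom.range_eq_top.2 hsurj, Subgroup.card_top,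
      Nat.card_eq_fintype_card, Fintype.card_perm, Fintype.card_coe, hF] at h1
    rw [← h1]; rfl
  set N := Subgroup.normalizer (S : Set ↥Cfsg.M24)
  haveI : Finite ↥N := Subtype.finite
  have hS7 : Nat.card ↥S = 7 := by
    rw [Nat.card_zpowers, ← Subgroup.orderOf_coe]; exact orderOf_sevenEl
  haveI : IsCyclic ↥S := by rw [hSdef]; infer_instance
  let φ : ↥N →* MulAut ↥S := S.normalizerMonoidHom
  have hφ : ∀ (g : ↥N) (y : ↥S),
      ((φ g y : ↥S) : ↥Cfsg.M24) = (g : ↥Cfsg.M24) * y * (g : ↥Cfsg.M24)⁻¹ := fun _ _ => rfl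
  set X : ↥S := ⟨sevenEl, Subgroup.mem_zpowers _⟩
  have hkerφ : Nat.card ↥φ.ker = 42 := by
    rw [show φ.ker = _ from S.normalizerMonoidHom_ker, ← hC42]
    exact Nat.card_congr (Subgroup.subgroupOfEquivOfLe (Subgroup.centralizer_le_normalizer _)).toEquiv
  have hsix : Nat.card (MulAut ↥S) = 6 := by
    rw [IsCyclic.card_mulAut, hS7, Nat.totient_prime (by norm_num)]
  have hwxw : w * sevenEl * w⁻¹ = sevenEl ^ 2 := by
    refine Subtype.ext ?_
    rw [Subgroup.coe_mul, Subgroup.coe_mul, Subgroup.coe_inv, mul_inv_eq_iff_eq_mul,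
      Subgroup.coe_pow, pow_two]
    exact Golay.tab_unique (hcN ▸ tw.mul tab_sevenEl) ((tab_sevenEl.mul tab_sevenEl).mul tw)
  have hwN : w ∈ N := by
    have hle : MulAut.conj w • S = S := by
      rw [hSdef]
      show Subgroup.map (MulAut.conj w).toMonoidHom (Subgroup.zpowers sevenEl) = _
      rw [MonoidHom.map_zpowers]
      refine Subgroup.eq_of_le_of_card_ge (Subgroup.zpowers_le.2 ?_) ?_
      · show w * sevenEl * w⁻¹ ∈ _
        rw [hwxw]
        exact Subgroup.pow_mem _ (Subgroup.mem_zpowers _) 2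
      · rw [Nat.card_zpowers, Nat.card_zpowers]
        exact (MulEquiv.orderOf_eq (MulAut.conj w) sevenEl).ge
    refine Subgroup.mem_normalizer_iff.2 fun n => ?_
    conv_rhs => rw [← hle]
    rw [Subgroup.mem_pointwise_smul_iff_inv_smul_mem, ← map_inv, MulAut.smul_def,
      MulAut.conj_apply, inv_inv]
    simp [mul_assoc]
  have hord3 : orderOf (φ ⟨w, hwN⟩) = 3 := by
    have happ : φ ⟨w, hwN⟩ X = X ^ 2 := by
      refine Subtype.ext ?_
      rw [hφ, Subgroup.coe_pow]
      exact hwxw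
    haveI : Fact (Nat.Prime 3) := ⟨Nat.prime_three⟩
    refine orderOf_eq_prime ?_ fun e => ?_
    · refine MulEquiv.ext fun y => ?_
      obtain ⟨i, hi⟩ := Subgroup.mem_zpowers_iff.1 y.2
      obtain rfl : y = X ^ i := Subtype.ext (by rw [Subgroup.coe_zpow]; exact hi.symm)
      have h8 : X ^ 8 = X := by
        have h7 : X ^ 7 = 1 := by rw [← hS7]; exact pow_card_eq_one'
        rw [pow_succ, h7, one_mul]
      rw [map_zpow, MulAut.one_apply, pow_three, MulAut.mul_apply, MulAut.mul_apply, happ,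
        map_pow, happ, ← pow_mul, map_pow, happ, ← pow_mul, h8]
    · rw [e, MulAut.one_apply, pow_two, eq_comm] at happ
      have h1 : X = 1 := mul_eq_left.1 happ
      have ho := orderOf_sevenEl
      rw [show (sevenEl : Equiv.Perm GolayPt) = ((X : ↥Cfsg.M24) : Equiv.Perm GolayPt) from rfl, h1]
        at ho
      simp at ho
  have hrange : Nat.card ↥φ.range = 3 := by
    have h3 : 3 ∣ Nat.card ↥φ.range := by
      rw [← hord3, ← Subgroup.orderOf_mk (H := φ.range) _ ⟨_, rfl⟩]
      exact orderOf_dvd_natCard _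
    have h6 : Nat.card ↥φ.range ∣ 6 := hsix ▸ Subgroup.card_subgroup_dvd_card φ.range
    have hle : Nat.card ↥φ.range ≤ 6 := Nat.le_of_dvd (by norm_num) h6
    have hpos : 0 < Nat.card ↥φ.range := Nat.card_pos
    rcases (by omega : Nat.card ↥φ.range = 3 ∨ Nat.card ↥φ.range = 6) with h | h
    · exact h
    exfalso
    haveI : Fact (Nat.Prime 2) := ⟨Nat.prime_two⟩
    obtain ⟨⟨ψ, g, hg⟩, hψ⟩ := exists_prime_orderOf_dvd_card' (G := ↥φ.range) 2 (by rw [h]; norm_num)
    replace hψ : orderOf ψ = 2 := hψ ▸ Subgroup.orderOf_coe (⟨ψ, g, hg⟩ : ↥φ.range)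
    obtain ⟨i, hi⟩ := Subgroup.mem_zpowers_iff.1 (φ g X).2
    have hgX : φ g X = X ^ i := Subtype.ext (by rw [Subgroup.coe_zpow]; exact hi.symm)
    have h2 : φ g (φ g X) = X := by
      rw [← MulAut.mul_apply, ← pow_two, hg, ← hψ, pow_orderOf_eq_one, MulAut.one_apply]
    have hXo : orderOf X = 7 := by
      rw [← orderOf_sevenEl,
        show (sevenEl : Equiv.Perm GolayPt) = ((X : ↥Cfsg.M24) : Equiv.Perm GolayPt) from rfl,
        Subgroup.orderOf_coe, Subgroup.orderOf_coe]
    rw [hgX, map_zpow, hgX, ← zpow_mul] at h2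
    have hdvd : (7 : ℤ) ∣ i * i - 1 := by
      rw [show (7 : ℤ) = ((orderOf X : ℕ) : ℤ) by rw [hXo]; rfl,
        orderOf_dvd_iff_zpow_eq_one, zpow_sub, zpow_one, h2, mul_inv_cancel]
    have hfac : (7 : ℤ) ∣ (i - 1) * (i + 1) := by
      rw [show (i - 1) * (i + 1) = i * i - 1 by ring]; exact hdvd
    rcases (Nat.prime_iff_prime_int.1 (by norm_num : Nat.Prime 7)).dvd_or_dvd hfac with h' | h'
    · have hone : φ g = 1 := by
        have e : X ^ i = X := by
          rw [← mul_inv_eq_one]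
          have : X ^ (i - 1) = 1 := orderOf_dvd_iff_zpow_eq_one.1 (by rw [hXo]; exact h')
          rwa [zpow_sub, zpow_one] at this
        refine MulEquiv.ext fun y => ?_
        obtain ⟨j, hj⟩ := Subgroup.mem_zpowers_iff.1 y.2
        obtain rfl : y = X ^ j := Subtype.ext (by rw [Subgroup.coe_zpow]; exact hj.symm)
        rw [map_zpow, hgX, e, MulAut.one_apply]
      rw [← hg, hone, orderOf_one] at hψ
      omega
    · have e : X ^ i = X⁻¹ := by
        rw [← mul_eq_one_iff_eq_inv]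
        have : X ^ (i + 1) = 1 := orderOf_dvd_iff_zpow_eq_one.1 (by rw [hXo]; exact h')
        rwa [zpow_add_one] at this
      set b : Equiv.Perm GolayPt := ((g : ↥Cfsg.M24) : Equiv.Perm GolayPt)
      have hb : b * x = x⁻¹ * b := by
        rw [← mul_inv_eq_iff_eq_mul]
        have := hφ g X
        rw [hgX, e] at this
        exact (congrArg (fun z : ↥Cfsg.M24 => (z : Equiv.Perm GolayPt)) this).symm
      have hbF : ∀ p, p ∈ fixedPts x ↔ b p ∈ fixedPts x := by
        intro p
        rw [Golay.mem_fixedPts, Golay.mem_fixedPts]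
        have h1 := DFunLike.congr_fun hb p
        rw [Equiv.Perm.mul_apply, Equiv.Perm.mul_apply, Equiv.Perm.coe_inv] at h1
        constructor
        · intro hp
          rw [hp, eq_comm, Equiv.symm_apply_eq] at h1
          exact h1.symm
        · intro hp
          apply b.injective
          rw [h1, Equiv.symm_apply_eq, hp]
      obtain ⟨c, hc⟩ := hsurj (b.subtypePerm fun p => (hbF p).symm)
      refine seven_not_inverted (g := ((c : ↥Cfsg.M24) : Equiv.Perm GolayPt)⁻¹ * b)
        (Cfsg.M24.mul_mem (Cfsg.M24.inv_mem (c : ↥Cfsg.M24).2) (g : ↥Cfsg.M24).2) ?_ fun p hp => ?_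
      · have hcc := (hcent c).1 c.2
        have hci : ((c : ↥Cfsg.M24) : Equiv.Perm GolayPt)⁻¹ * x⁻¹ =
            x⁻¹ * ((c : ↥Cfsg.M24) : Equiv.Perm GolayPt)⁻¹ := by
          rw [← mul_inv_rev, ← mul_inv_rev, hcc]
        rw [mul_assoc, hb, ← mul_assoc, hci, mul_assoc]
      · have h1 : ((c : ↥Cfsg.M24) : Equiv.Perm GolayPt) p = b p :=
          congrArg Subtype.val (Equiv.Perm.ext_iff.1 hc ⟨p, hp⟩)
        rw [Equiv.Perm.mul_apply, ← h1, Equiv.Perm.coe_inv, Equiv.symm_apply_apply]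
  refine ⟨?_, hC42, ⟨s, hsC, u, huC, fun e => hnc ?_⟩, ?_⟩
  · have h1 := Subgroup.card_mul_index φ.ker
    rw [hkerφ, Subgroup.index_ker, hrange] at h1
    rw [← h1]
  · have e' : (s : Equiv.Perm GolayPt) * (u : Equiv.Perm GolayPt) = u * s :=
      congrArg Subtype.val e
    have t1 := ts.mul tu
    rw [e'] at t1
    refine List.ext_getElem (by simp [comp]) fun i hi hi' => ?_
    have hi24 : i < 24 := by simpa [comp] using hi
    rw [← List.getD_eq_getElem _ 0 hi, ← List.getD_eq_getElem _ 0 hi', ← t1 i hi24,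
      ← (tu.mul ts) i hi24]
  · have hn : {T | T ∈ trios ∧ x • T = T}.ncard = 1 :=
      (ncard_fixed_trios tab_sevenEl seven_facts.2.2.2.1).trans htrio
    obtain ⟨T, hT⟩ := Set.ncard_eq_one.1 hn
    have hTm : T ∈ trios ∧ x • T = T := by
      have h : T ∈ ({T} : Set _) := rfl
      rwa [← hT] at h
    refine ⟨T, hTm.1, fun g hg => ?_⟩
    have hmem : ((g : Equiv.Perm GolayPt)) • T ∈ ({T | T ∈ trios ∧ x • T = T} : Set _) := by
      refine ⟨smul_trio g hTm.1, ?_⟩
      obtain ⟨i, hi⟩ := Subgroup.mem_zpowers_iff.1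
        ((Subgroup.mem_normalizer_iff.1 (N.inv_mem hg) sevenEl).1 (Subgroup.mem_zpowers sevenEl))
      have hpe : x * (g : Equiv.Perm GolayPt) = (g : Equiv.Perm GolayPt) * x ^ i := by
        have h1 := congrArg Subtype.val hi
        simp only [Subgroup.coe_zpow, Subgroup.coe_mul, Subgroup.coe_inv, inv_inv] at h1
        rw [h1]
        group
        rfl
      rw [← mul_smul, hpe, mul_smul]
      have hmem : x ^ i ∈ MulAction.stabilizer (Equiv.Perm GolayPt) T := Subgroup.zpow_mem _ hTm.2 i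
      exact congrArg (fun z => (g : Equiv.Perm GolayPt) • z) (MulAction.mem_stabilizer_iff.1 hmem)
    rw [hT] at hmem
    exact hmem

theorem seven_normalizer (S : Subgroup ↥Cfsg.M24) (hS : Nat.card S = 7) :
    Nat.card ↥(Subgroup.normalizer (S : Set ↥Cfsg.M24)) = 126 ∧
    Nat.card ↥(Subgroup.centralizer (S : Set ↥Cfsg.M24)) = 42 ∧
    (∃ x ∈ Subgroup.centralizer (S : Set ↥Cfsg.M24),
      ∃ y ∈ Subgroup.centralizer (S : Set ↥Cfsg.M24), x * y ≠ y * x) ∧
    ∃ T ∈ trios, ∀ n ∈ Subgroup.normalizer (S : Set ↥Cfsg.M24),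
      ((n : ↥Cfsg.M24) : Equiv.Perm GolayPt) • T = T := by
  haveI : Fact (Nat.Prime 7) := ⟨by norm_num⟩
  have h49 : ¬ 7 ^ 2 ∣ Nat.card ↥Cfsg.M24 := by rw [Golay.card_M24]; norm_num
  obtain ⟨P, hP⟩ := Golay.zpowers_sylow h49 (y := sevenEl)
    (by rw [← Subgroup.orderOf_coe]; exact orderOf_sevenEl)
  have hSP : IsPGroup 7 ↥S := IsPGroup.of_card (n := 1) (by rw [hS, pow_one])
  obtain ⟨Q, hQ⟩ := hSP.exists_le_sylow
  obtain ⟨c, hc⟩ := MulAction.exists_smul_eq ↥Cfsg.M24 P Q
  have hS' : MulAut.conj c • Subgroup.zpowers sevenEl = S := by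
    rw [← hP]
    show MulAut.conj c • (P : Subgroup ↥Cfsg.M24) = S
    rw [← Sylow.coe_subgroup_smul]
    show ((c • P : Sylow 7 ↥Cfsg.M24) : Subgroup ↥Cfsg.M24) = S
    rw [hc]
    refine (Subgroup.eq_of_le_of_card_ge hQ ?_).symm
    rw [hS, ← hc]
    show Nat.card ↥(MulAut.conj c • (P : Subgroup ↥Cfsg.M24)) ≤ 7
    rw [hP, ← Nat.card_congr (Subgroup.equivSMul _ _).toEquiv, Nat.card_zpowers,
      ← Subgroup.orderOf_coe, orderOf_sevenEl]
  set S0 := Subgroup.zpowers sevenEl
  have hmemS : ∀ y, y ∈ S ↔ c⁻¹ * y * c ∈ S0 := fun y => by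
    rw [← hS', Subgroup.mem_pointwise_smul_iff_inv_smul_mem, ← map_inv, MulAut.smul_def,
      MulAut.conj_apply, inv_inv]
  have hN : ∀ g, g ∈ Subgroup.normalizer (S : Set ↥Cfsg.M24) ↔
      c⁻¹ * g * c ∈ Subgroup.normalizer (S0 : Set ↥Cfsg.M24) := by
    intro g
    rw [Subgroup.mem_normalizer_iff, Subgroup.mem_normalizer_iff]
    simp only [hmemS]
    constructor
    · intro h n
      have := h (c * n * c⁻¹)
      simpa [mul_assoc] using this
    · intro h n
      have := h (c⁻¹ * n * c)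
      simpa [mul_assoc] using this
  have hC : ∀ g, g ∈ Subgroup.centralizer (S : Set ↥Cfsg.M24) ↔
      c⁻¹ * g * c ∈ Subgroup.centralizer (S0 : Set ↥Cfsg.M24) := by
    intro g
    simp only [Subgroup.mem_centralizer_iff, SetLike.mem_coe, hmemS]
    constructor
    · intro h n hn
      have := h (c * n * c⁻¹) (by simpa [mul_assoc] using hn)
      calc n * (c⁻¹ * g * c) = c⁻¹ * (c * n * c⁻¹ * g) * c := by group
        _ = _ := by rw [this]; group
    · intro h n hn
      have := h _ hn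
      calc n * g = c * (c⁻¹ * n * c * (c⁻¹ * g * c)) * c⁻¹ := by group
        _ = _ := by rw [this]; group
  obtain ⟨h126, h42, ⟨a, ha, b, hb, hab⟩, T, hT, hfix⟩ := seven_rep
  refine ⟨?_, ?_, ⟨c * a * c⁻¹, ?_, c * b * c⁻¹, ?_, fun e => hab ?_⟩, c • T, smul_trio c hT, ?_⟩
  · rw [← h126]
    exact Nat.card_congr ((MulAut.conj c⁻¹).toEquiv.subtypeEquiv fun g => by
      rw [hN]; simp [S0])
  · rw [← h42]
    exact Nat.card_congr ((MulAut.conj c⁻¹).toEquiv.subtypeEquiv fun g => by
      rw [hC]; simp [S0])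
  · rw [hC]; simpa [mul_assoc] using ha
  · rw [hC]; simpa [mul_assoc] using hb
  · calc a * b = c⁻¹ * (c * a * c⁻¹ * (c * b * c⁻¹)) * c := by group
      _ = _ := by rw [e]; group
  · intro n hn
    have h1 := hfix _ ((hN n).1 hn)
    show n • (c • T) = c • T
    have h2 : (c⁻¹ * n * c) • T = T := h1
    rwa [mul_smul, mul_smul, inv_smul_eq_iff] at h2

end Cfsg.Agent.Sporadic96
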