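import Mathlib

/-!
A natural number as a vector of 24-bit lanes, with lane-wise operations that cost a few GMP
operations on the whole number: `lane`, `pack`, `unitMask`, `tabLanes`, `smear`, `selBlend`.
-/

set_option autoImplicit false

namespace Cfsg.Agent.Sporadic96

/-- The mask of all 24 points. -/
def allN : ℕ := 16777215

theorem testBit_allN_nat (i : ℕ) : allN.testBit i = decide (i < 24) := by
  rw [show allN = 2 ^ 24 - 1 from rfl, Nat.testBit_two_pow_sub_one]

/-- The `j`-th lane. -/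
def lane (X j : ℕ) : ℕ := Nat.land (Nat.shiftRight X (24 * j)) allN

theorem testBit_lane (X j i : ℕ) :
    (lane X j).testBit i = (decide (i < 24) && X.testBit (24 * j + i)) := by
  show ((X >>> (24 * j)) &&& allN).testBit i = _
  rw [Nat.testBit_and, Nat.testBit_shiftRight, testBit_allN_nat, Bool.and_comm]

theorem testBit_eq_lane (X p : ℕ) : X.testBit p = (lane X (p / 24)).testBit (p % 24) := by
  rw [testBit_lane, decide_eq_true (Nat.mod_lt _ (by norm_num : 24 > 0)), Bool.true_and,
    Nat.div_add_mod]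

theorem lane_lt (X j : ℕ) : lane X j < 2 ^ 24 := by
  show (X >>> (24 * j)) &&& allN < 2 ^ 24
  exact lt_of_le_of_lt Nat.and_le_right (by norm_num [allN])

theorem lane_ext {X Y : ℕ} (h : ∀ j, lane X j = lane Y j) : X = Y :=
  Nat.eq_of_testBit_eq fun p => by rw [testBit_eq_lane, h, ← testBit_eq_lane]

theorem lane_zero_left (j : ℕ) : lane 0 j = 0 :=
  Nat.eq_of_testBit_eq fun i => by simp [testBit_lane]

/-- The lanes of a list. -/
def pack : List ℕ → ℕ
  | [] => 0
  | x :: r => Nat.lor (Nat.shiftLeft (pack r) 24) x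

theorem lane_pack : ∀ (L : List ℕ), (∀ x ∈ L, x < 2 ^ 24) → ∀ j, lane (pack L) j = L.getD j 0
  | [], _, j => by simp [pack, lane_zero_left]
  | x :: r, h, j => by
    have hx : x < 2 ^ 24 := h x List.mem_cons_self
    have ih := lane_pack r fun y hy => h y (List.mem_cons_of_mem _ hy)
    have e : pack (x :: r) = pack r <<< 24 ||| x := rfl
    refine Nat.eq_of_testBit_eq fun i => ?_
    rw [testBit_lane, e, Nat.testBit_or, Nat.testBit_shiftLeft]
    by_cases hi : i < 24
    · cases j with
      | zero =>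
        simp [hi]
      | succ j =>
        have hx' : x.testBit (24 * (j + 1) + i) = false :=
          Nat.testBit_lt_two_pow (lt_of_lt_of_le hx (Nat.pow_le_pow_right (by norm_num) (by omega)))
        rw [List.getD_cons_succ, ← ih j, testBit_lane, hx', Bool.or_false]
        simp [hi, show 24 ≤ 24 * (j + 1) + i by omega, show 24 * (j + 1) + i - 24 = 24 * j + i by omega]
    · rw [decide_eq_false hi, Bool.false_and]
      symm
      have : (x :: r).getD j 0 < 2 ^ 24 := by
        rcases lt_or_ge j (x :: r).length with hj | hj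
        · rw [List.getD_eq_getElem _ _ hj]; exact h _ (List.getElem_mem hj)
        · rw [List.getD_eq_default _ _ hj]; norm_num
      exact Nat.testBit_lt_two_pow (lt_of_lt_of_le this (Nat.pow_le_pow_right (by norm_num) (by omega)))

/-- Bit 0 of the lanes `0, m, 2m, …, (n-1)m`, as a geometric sum. -/
def unitMask (m n : ℕ) : ℕ := Nat.div (2 ^ (24 * m * n) - 1) (2 ^ (24 * m) - 1)

theorem unitMask_succ {m : ℕ} (hm : 0 < m) (n : ℕ) :
    unitMask m (n + 1) = unitMask m n <<< (24 * m) ||| 1 := by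
  have key : ∀ n, ∃ u, 2 ^ (24 * m * n) - 1 = u * (2 ^ (24 * m) - 1) ∧ unitMask m n = u := by
    intro n
    have hb : 2 ≤ 2 ^ (24 * m) := by
      calc 2 = 2 ^ 1 := rfl
        _ ≤ 2 ^ (24 * m) := Nat.pow_le_pow_right (by norm_num) (by omega)
    have hd : (2 ^ (24 * m) - 1) ∣ 2 ^ (24 * m * n) - 1 := by
      rw [pow_mul 2 (24 * m) n]
      exact Nat.sub_one_dvd_pow_sub_one _ _
    obtain ⟨u, hu⟩ := hd
    refine ⟨u, by rw [hu, Nat.mul_comm], ?_⟩
    show (2 ^ (24 * m * n) - 1) / (2 ^ (24 * m) - 1) = u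
    rw [hu, Nat.mul_div_cancel_left _ (by omega)]
  obtain ⟨u, hu, e⟩ := key n
  obtain ⟨v, hv, e'⟩ := key (n + 1)
  have hb : 2 ≤ 2 ^ (24 * m) := by
    calc 2 = 2 ^ 1 := rfl
      _ ≤ 2 ^ (24 * m) := Nat.pow_le_pow_right (by norm_num) (by omega)
  rw [e, e', ← Nat.shiftLeft_add_eq_or_of_lt (by omega : 1 < 2 ^ (24 * m)), Nat.shiftLeft_eq]
  refine Nat.eq_of_mul_eq_mul_right (show 0 < 2 ^ (24 * m) - 1 by omega) ?_
  rw [← hv, Nat.mul_succ, pow_add]
  have h1 : 1 ≤ 2 ^ (24 * m * n) := Nat.one_le_two_pow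
  zify [h1, (by omega : 1 ≤ 2 ^ (24 * m)),
    (Nat.one_le_two_pow.trans (Nat.le_mul_of_pos_right _ (by omega)) :
      1 ≤ 2 ^ (24 * m * n) * 2 ^ (24 * m))] at hu ⊢
  linear_combination (2 : ℤ) ^ (24 * m) * hu

theorem testBit_unitMask {m : ℕ} (hm : 0 < m) : ∀ (n p : ℕ),
    (unitMask m n).testBit p = true ↔ ∃ k < n, p = 24 * m * k
  | 0, p => by
    rw [show unitMask m 0 = 0 by show (2 ^ (24 * m * 0) - 1) / _ = 0; simp]
    simp
  | n + 1, p => by
    rw [unitMask_succ hm, Nat.testBit_or, Nat.testBit_shiftLeft, Bool.or_eq_true, Bool.and_eq_true,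
      decide_eq_true_eq, testBit_unitMask hm n, Nat.testBit_one_eq_true_iff_self_eq_zero]
    constructor
    · rintro (⟨hp, k, hk, e⟩ | h)
      · exact ⟨k + 1, by omega, by rw [Nat.mul_succ]; omega⟩
      · exact ⟨0, by omega, by simp [h]⟩
    · rintro ⟨k, hk, rfl⟩
      cases k with
      | zero => exact Or.inr (by simp)
      | succ k => exact Or.inl ⟨by rw [Nat.mul_succ]; omega, k, by omega, by rw [Nat.mul_succ]; omega⟩

/-- `∨ᵢ X <<< i` for `i < w`. -/
def smear : ℕ → ℕ → ℕ
  | 0, _ => 0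
  | w + 1, X => Nat.lor (Nat.shiftLeft X w) (smear w X)

theorem testBit_smear : ∀ (w X p : ℕ),
    (smear w X).testBit p = true ↔ ∃ i < w, i ≤ p ∧ X.testBit (p - i) = true
  | 0, X, p => by simp [smear]
  | w + 1, X, p => by
    show ((X <<< w) ||| smear w X).testBit p = true ↔ _
    rw [Nat.testBit_or, Nat.testBit_shiftLeft, Bool.or_eq_true, Bool.and_eq_true,
      decide_eq_true_eq, testBit_smear w]
    constructor
    · rintro (⟨h1, h2⟩ | ⟨i, hi, h⟩)
      · exact ⟨w, by omega, h1, h2⟩
      · exact ⟨i, by omega, h⟩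
    · rintro ⟨i, hi, h1, h2⟩
      rcases Nat.lt_succ_iff_lt_or_eq.mp hi with hi | rfl
      · exact Or.inr ⟨i, hi, h1, h2⟩
      · exact Or.inl ⟨h1, h2⟩

/-- The lanes of the selected objects (`U` marks bit 0 of their first lane). -/
theorem lane_smear {m n U : ℕ} (hm : 0 < m) (k r : ℕ) (hr : r < m) :
    lane (smear (24 * m) (U &&& unitMask m n)) (m * k + r) =
      if k < n ∧ U.testBit (24 * m * k) then allN else 0 := by
  refine Nat.eq_of_testBit_eq fun i => ?_
  rw [testBit_lane]
  by_cases hi : i < 24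
  swap
  · rw [decide_eq_false hi, Bool.false_and]
    split <;> simp [testBit_allN_nat, hi]
  rw [decide_eq_true hi, Bool.true_and, Bool.eq_iff_iff, testBit_smear]
  constructor
  · rintro ⟨a, ha, hle, hbit⟩
    rw [Nat.testBit_and, Bool.and_eq_true, testBit_unitMask hm] at hbit
    obtain ⟨hU, k', hk', he⟩ := hbit
    have hkk : k' = k := by
      have h1 : 24 * m * k' ≤ 24 * (m * k + r) + i := by omega
      have h2 : 24 * (m * k + r) + i < 24 * m * k' + 24 * m := by omega
      rw [Nat.mul_add, ← Nat.mul_assoc] at h1 h2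
      have h3 : 24 * m * k' < 24 * m * (k + 1) := by rw [Nat.mul_succ]; omega
      have h4 : 24 * m * k < 24 * m * (k' + 1) := by rw [Nat.mul_succ]; omega
      have := Nat.lt_of_mul_lt_mul_left h3
      have := Nat.lt_of_mul_lt_mul_left h4
      omega
    subst hkk
    rw [he] at hU
    rw [if_pos ⟨hk', hU⟩, testBit_allN_nat, decide_eq_true hi]
  · intro h
    by_cases hc : k < n ∧ U.testBit (24 * m * k) = true
    · refine ⟨24 * r + i, by omega, by omega, ?_⟩
      have e : 24 * (m * k + r) + i - (24 * r + i) = 24 * m * k := by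
        rw [Nat.mul_add, ← Nat.mul_assoc]; omega
      rw [e, Nat.testBit_and, hc.2, Bool.true_and, testBit_unitMask hm]
      exact ⟨k, hc.1, rfl⟩
    · rw [if_neg hc] at h; simp at h

/-- Choose lane-wise: `Z` where `S` is set, `Y` elsewhere. -/
def selBlend (S Z Y : ℕ) : ℕ := Nat.xor Y (Nat.land (Nat.xor Z Y) S)

theorem lane_selBlend (S Z Y j : ℕ) (b : Bool) (hS : lane S j = if b then allN else 0) :
    lane (selBlend S Z Y) j = if b then lane Z j else lane Y j := by
  refine Nat.eq_of_testBit_eq fun i => ?_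
  have h := congrArg (fun t => t.testBit i) hS
  simp only [testBit_lane] at h
  show (lane (Y ^^^ ((Z ^^^ Y) &&& S)) j).testBit i = _
  by_cases hi : i < 24
  · cases b <;> simp [testBit_allN_nat, hi] at h <;>
      (simp [testBit_lane, Nat.testBit_xor, Nat.testBit_and, hi, h] <;>
        cases Y.testBit (24 * j + i) <;> simp)
  · cases b <;> simp [testBit_lane, hi]

/-- Move bit `i` of each lane to bit `l[i]`; `R` marks bit 0 of each lane in use. -/
def tabLanes (R : ℕ) : List ℕ → ℕ → ℕ
  | [], _ => 0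
  | j :: r, X => Nat.lor (Nat.shiftLeft (Nat.land X R) j) (tabLanes R r (Nat.shiftRight X 1))

theorem testBit_tabLanes (R : ℕ) : ∀ (l : List ℕ) (X p : ℕ),
    (tabLanes R l X).testBit p = true ↔ ∃ i < l.length,
      l.getD i 0 ≤ p ∧ R.testBit (p - l.getD i 0) = true ∧ X.testBit (p - l.getD i 0 + i) = true
  | [], X, p => by simp [tabLanes]
  | j :: r, X, p => by
    show ((X &&& R) <<< j ||| tabLanes R r (X >>> 1)).testBit p = true ↔ _
    rw [Nat.testBit_or, Nat.testBit_shiftLeft, Nat.testBit_and, Bool.or_eq_true, Bool.and_eq_true,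
      Bool.and_eq_true, decide_eq_true_eq, testBit_tabLanes R r]
    constructor
    · rintro (⟨h1, h2, h3⟩ | ⟨i, hi, h1, h2, h3⟩)
      · exact ⟨0, by simp, by simpa using h1, by simpa using h3, by simpa using h2⟩
      · rw [Nat.testBit_shiftRight] at h3
        refine ⟨i + 1, by simpa using hi, by simpa using h1, by simpa using h2, ?_⟩
        rw [List.getD_cons_succ]
        convert h3 using 2; omega
    · rintro ⟨i, hi, h1, h2, h3⟩
      cases i with
      | zero => exact Or.inl ⟨by simpa using h1, by simpa using h3, by simpa using h2⟩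
      | succ i =>
        simp only [List.getD_cons_succ] at h1 h2 h3
        refine Or.inr ⟨i, by simpa using hi, h1, h2, ?_⟩
        rw [Nat.testBit_shiftRight]
        convert h3 using 2; omega

theorem testBit_lane_tabLanes {N : ℕ} {l : List ℕ} (hl : l.length = 24)
    (hlt : ∀ i < 24, l.getD i 0 < 24) (X j q : ℕ) (hj : j < N) (hq : q < 24) :
    (lane (tabLanes (unitMask 1 N) l X) j).testBit q = true ↔
      ∃ i < 24, l.getD i 0 = q ∧ (lane X j).testBit i = true := by
  rw [testBit_lane, decide_eq_true hq, Bool.true_and, testBit_tabLanes, hl]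
  constructor
  · rintro ⟨i, hi, h1, h2, h3⟩
    rw [testBit_unitMask Nat.one_pos] at h2
    obtain ⟨k, hk, he⟩ := h2
    have := hlt i hi
    have hkj : k = j ∧ l.getD i 0 = q := by omega
    refine ⟨i, hi, hkj.2, ?_⟩
    rw [testBit_lane, decide_eq_true hi, Bool.true_and]
    convert h3 using 2; omega
  · rintro ⟨i, hi, h1, h2⟩
    rw [testBit_lane, decide_eq_true hi, Bool.true_and] at h2
    refine ⟨i, hi, by omega, ?_, ?_⟩
    · rw [testBit_unitMask Nat.one_pos]
      exact ⟨j, hj, by omega⟩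
    · convert h2 using 2; omega

/-- Exchange lanes `r` and `r + 1` of the selected objects; `S` selects those lanes at `r`. -/
def swapLanes (S Y : ℕ) : ℕ :=
  Nat.xor (Nat.xor Y (Nat.land (Nat.xor (Nat.shiftRight Y 24) Y) S))
    (Nat.shiftLeft (Nat.land (Nat.xor (Nat.shiftRight Y 24) Y) S) 24)

theorem lane_swapLanes (S Y j : ℕ) :
    lane (swapLanes S Y) j =
      lane Y j ^^^ ((lane Y (j + 1) ^^^ lane Y j) &&& lane S j) ^^^
        (if j = 0 then 0 else (lane Y j ^^^ lane Y (j - 1)) &&& lane S (j - 1)) := by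
  refine Nat.eq_of_testBit_eq fun i => ?_
  show (lane (Y ^^^ ((Y >>> 24 ^^^ Y) &&& S) ^^^ ((Y >>> 24 ^^^ Y) &&& S) <<< 24) j).testBit i = _
  by_cases hi : i < 24
  · cases j with
    | zero =>
      simp [testBit_lane, Nat.testBit_xor, Nat.testBit_and, hi, Nat.testBit_shiftRight,
        Nat.add_comm, show ¬ 24 ≤ i by omega]
    | succ j =>
      simp [testBit_lane, Nat.testBit_xor, Nat.testBit_and, hi, Nat.testBit_shiftRight,
        show 24 ≤ 24 * (j + 1) + i by omega,
        show 24 * (j + 1) + i - 24 = 24 * j + i by omega,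
        show 24 + (24 * (j + 1) + i) = 24 * (j + 1 + 1) + i by omega,
        show 24 + (24 * j + i) = 24 * (j + 1) + i by omega]
  · cases j <;> simp [testBit_lane, Nat.testBit_xor, Nat.testBit_and, hi]

/-- Send bit `k < 2 ^ 12` of `x` to position `w * k` (a certificate decoder; its meaning is
never used). -/
def spread (w : ℕ) : ℕ → ℕ → ℕ
  | 0, x => x
  | j + 1, x => spread w j (Nat.land (Nat.lor x (Nat.shiftLeft x (2 ^ j * (w - 1))))
      (Nat.mul (Nat.div (2 ^ (w * 2 ^ j * 2 ^ (12 - j)) - 1) (2 ^ (w * 2 ^ j) - 1))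
        (2 ^ (2 ^ j) - 1)))

end Cfsg.Agent.Sporadic96
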