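import Cfsg.Agent.Sporadic96.M24.ThreeData
import Cfsg.Agent.Sporadic96.M24.Lanes

/-!
The elements of order 3 of `Cfsg.M24` form two classes.

Main results: `exists_rep_three`, `three_classes`.
-/

set_option autoImplicit false

namespace Cfsg.Agent.Sporadic96

open scoped Pointwise
open Cfsg.Agent.Golay (idx pt Tab comp idTab isPermTab checkAut fixedPts fixCount)

set_option maxRecDepth 40000 in
theorem three_facts :
    (syl3Tabs.all fun l => isPermTab l && checkAut l && l.length.beq 24 &&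
      (l == idTab || conjThree6.any (fun c => comp c three6Tab == comp l c) ||
        conjThree0.any (fun c => comp c three0Tab == comp l c))) = true ∧
    (syl3Tabs.all fun a => syl3Tabs.all fun b => syl3Tabs.contains (comp a b)) = true ∧
    syl3Tabs.contains idTab = true ∧ syl3Tabs.Nodup ∧ syl3Tabs.length = 27 ∧
    ((conjThree6 ++ conjThree0).all fun l => isPermTab l && checkAut l) = true ∧
    (isPermTab three6Tab && checkAut three6Tab && decide (fixCount three6Tab = 6) &&
      isPermTab three0Tab && checkAut three0Tab && decide (fixCount three0Tab = 0) &&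
      (comp three6Tab (comp three6Tab three6Tab) == idTab) &&
      (comp three0Tab (comp three0Tab three0Tab) == idTab)) = true := by
  decide +kernel

/-- A subgroup of order 27. -/
def syl3 : Subgroup ↥Cfsg.M24 where
  carrier := {g | ∃ l ∈ syl3Tabs, Tab (g : Equiv.Perm GolayPt) l}
  mul_mem' := by
    rintro a b ⟨la, hla, ta⟩ ⟨lb, hlb, tb⟩
    have h := three_facts.2.1
    simp only [List.all_eq_true, List.contains_iff_mem] at h
    exact ⟨_, h la hla lb hlb, ta.mul tb⟩
  one_mem' := ⟨idTab, List.contains_iff_mem.1 three_facts.2.2.1, Golay.tab_one⟩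
  inv_mem' := by
    rintro a ⟨la, hla, ta⟩
    have h := three_facts.2.1
    simp only [List.all_eq_true, List.contains_iff_mem] at h
    have key : ∀ n : ℕ, ∃ l ∈ syl3Tabs, Tab ((a ^ n : ↥Cfsg.M24) : Equiv.Perm GolayPt) l := by
      intro n
      induction n with
      | zero => exact ⟨idTab, List.contains_iff_mem.1 three_facts.2.2.1, Golay.tab_one⟩
      | succ n ih =>
        obtain ⟨l, hl, tl⟩ := ih
        exact ⟨_, h l hl la hla, by rw [pow_succ]; exact tl.mul ta⟩
    obtain ⟨l, hl, tl⟩ := key (orderOf a - 1)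
    refine ⟨l, hl, ?_⟩
    have e : a⁻¹ = a ^ (orderOf a - 1) := by
      refine inv_eq_of_mul_eq_one_left ?_
      rw [← pow_succ, Nat.sub_add_cancel (orderOf_pos a), pow_orderOf_eq_one]
    rw [e]
    exact tl

theorem card_syl3 : 27 ≤ Nat.card ↥syl3 := by
  obtain ⟨hall, -, -, hnd, hlen, -, -⟩ := three_facts
  simp only [List.all_eq_true, Bool.and_eq_true] at hall
  have hf : ∀ l : {l // l ∈ syl3Tabs.toFinset}, ∃ g : ↥syl3,
      Tab ((g : ↥Cfsg.M24) : Equiv.Perm GolayPt) l.1 := by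
    rintro ⟨l, hl⟩
    rw [List.mem_toFinset] at hl
    have hp := (hall l hl).1.1
    exact ⟨⟨⟨_, (Golay.tab_permOf hp.1).mem_M24 hp.2⟩, l, hl, Golay.tab_permOf hp.1⟩,
      Golay.tab_permOf hp.1⟩
  choose f hf using hf
  have hinj : Function.Injective f := by
    rintro ⟨a, ha⟩ ⟨b, hb⟩ e
    have ta := hf ⟨a, ha⟩
    have tb := hf ⟨b, hb⟩
    rw [e] at ta
    refine Subtype.ext ?_
    rw [List.mem_toFinset] at ha hb
    have la := (hall a ha).1.2
    have lb := (hall b hb).1.2
    rw [Nat.beq_eq] at la lb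
    refine List.ext_getElem (la.trans lb.symm) fun i hi hi' => ?_
    rw [← List.getD_eq_getElem _ 0 hi, ← List.getD_eq_getElem _ 0 hi', ← ta i (la ▸ hi),
      ← tb i (la ▸ hi)]
  calc 27 = Nat.card {l // l ∈ syl3Tabs.toFinset} := by
        rw [Nat.card_eq_fintype_card, Fintype.card_coe, List.toFinset_card_of_nodup hnd, hlen]
    _ ≤ _ := Nat.card_le_card_of_injective f hinj

/-- Every element of order 3 is conjugate to one of two representatives. -/
theorem exists_rep_three {g : Equiv.Perm GolayPt} (hg : g ∈ Cfsg.M24) (ho : orderOf g = 3) :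
    ∃ k ∈ Cfsg.M24, ∃ r, (Tab r three6Tab ∨ Tab r three0Tab) ∧ k * r * k⁻¹ = g := by
  haveI : Fact (Nat.Prime 3) := ⟨Nat.prime_three⟩
  set x : ↥Cfsg.M24 := ⟨g, hg⟩
  have hx : orderOf x = 3 := by rw [← Subgroup.orderOf_coe]; exact ho
  have hbound : ∀ H : Subgroup ↥Cfsg.M24, IsPGroup 3 H → Nat.card H ≤ 27 := by
    intro H hH
    obtain ⟨n, hn⟩ := hH.exists_card_eq
    have hdvd := H.card_subgroup_dvd_card
    rw [Golay.card_M24, hn] at hdvd
    rw [hn]
    by_contra hlt
    have h4 : 4 ≤ n := by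
      by_contra hlt'
      have : 3 ^ n ≤ 3 ^ 3 := Nat.pow_le_pow_right (by norm_num) (by omega)
      omega
    have := (pow_dvd_pow 3 h4).trans hdvd
    norm_num at this
  have hQ : IsPGroup 3 ↥syl3 := by
    intro a
    obtain ⟨l, hl, tl⟩ := a.2
    have hall := three_facts.1
    simp only [List.all_eq_true, Bool.and_eq_true, Bool.or_eq_true, beq_iff_eq,
      List.any_eq_true] at hall
    obtain ⟨-, hr⟩ := hall l hl
    refine ⟨1, Subtype.ext (Subtype.ext ?_)⟩
    rw [pow_one, SubgroupClass.coe_pow, SubgroupClass.coe_pow]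
    obtain ⟨-, -, -, -, -, hc, hreps⟩ := three_facts
    simp only [Bool.and_eq_true, beq_iff_eq, decide_eq_true_eq, List.all_eq_true] at hc hreps
    have conv : ∀ (rt : List ℕ) (hrp : isPermTab rt = true), comp rt (comp rt rt) = idTab →
        ∀ c ∈ conjThree6 ++ conjThree0, comp c rt = comp l c →
        (((a : ↥Cfsg.M24) : Equiv.Perm GolayPt)) ^ 3 = 1 := by
      intro rt hrp hcube c hcm e
      have tc := Golay.tab_permOf (hc c hcm).1
      have key : Golay.permOf c (hc c hcm).1 * Golay.permOf rt hrp =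
          ((a : ↥Cfsg.M24) : Equiv.Perm GolayPt) * Golay.permOf c (hc c hcm).1 :=
        Golay.tab_unique (tc.mul (Golay.tab_permOf hrp)) (e ▸ tl.mul tc)
      have ea : ((a : ↥Cfsg.M24) : Equiv.Perm GolayPt) = Golay.permOf c (hc c hcm).1 *
          Golay.permOf rt hrp * (Golay.permOf c (hc c hcm).1)⁻¹ := by rw [key]; group
      have t3 : Golay.permOf rt hrp ^ 3 = 1 := by
        rw [pow_three]
        exact Golay.tab_unique (hcube ▸ (Golay.tab_permOf hrp).mul
          ((Golay.tab_permOf hrp).mul (Golay.tab_permOf hrp))) Golay.tab_one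
      rw [ea, conj_pow, t3, mul_one, mul_inv_cancel]
    rcases hr with (e | ⟨c, hcm, e⟩) | ⟨c, hcm, e⟩
    · have h1 : ((a : ↥Cfsg.M24) : Equiv.Perm GolayPt) = 1 :=
        Golay.tab_unique (e ▸ tl) Golay.tab_one
      rw [h1, one_pow]; rfl
    · exact conv _ hreps.1.1.1.1.1.1.1 hreps.1.2 c (List.mem_append_left _ hcm) e
    · exact conv _ hreps.1.1.1.1.2 hreps.2 c (List.mem_append_right _ hcm) e
  obtain ⟨P, hP⟩ := hQ.exists_le_sylow
  have hPQ : (P : Subgroup ↥Cfsg.M24) = syl3 :=
    (Subgroup.eq_of_le_of_card_ge hP ((hbound _ P.isPGroup').trans card_syl3)).symm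
  have hz : IsPGroup 3 ↥(Subgroup.zpowers x) := IsPGroup.of_card (n := 1) (by
    rw [Nat.card_zpowers, hx, pow_one])
  obtain ⟨R, hR⟩ := hz.exists_le_sylow
  obtain ⟨c, hc⟩ := MulAction.exists_smul_eq ↥Cfsg.M24 R P
  have hmem : c * x * c⁻¹ ∈ syl3 := by
    rw [← hPQ, ← hc]
    exact ⟨x, hR (Subgroup.mem_zpowers x), rfl⟩
  obtain ⟨l, hl, tl⟩ := hmem
  have hall := three_facts.1
  simp only [List.all_eq_true, Bool.and_eq_true, Bool.or_eq_true, beq_iff_eq,
    List.any_eq_true] at hall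
  obtain ⟨-, hr⟩ := hall l hl
  have hy : ((c : Equiv.Perm GolayPt)) * g * (c : Equiv.Perm GolayPt)⁻¹ =
      ((c * x * c⁻¹ : ↥Cfsg.M24) : Equiv.Perm GolayPt) := rfl
  obtain ⟨-, -, -, -, -, hcj, hreps⟩ := three_facts
  simp only [Bool.and_eq_true, beq_iff_eq, decide_eq_true_eq, List.all_eq_true] at hcj hreps
  rcases hr with (e | ⟨d, hd, e⟩) | ⟨d, hd, e⟩
  · exfalso
    have h1 := Golay.tab_unique (e ▸ tl) Golay.tab_one
    rw [← hy, conj_eq_one_iff] at h1
    rw [h1, orderOf_one] at ho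
    omega
  all_goals
    have hdm : d ∈ conjThree6 ++ conjThree0 := List.mem_append.2 (by tauto)
    have td := Golay.tab_permOf (hcj d hdm).1
    refine ⟨(c : Equiv.Perm GolayPt)⁻¹ * Golay.permOf d (hcj d hdm).1,
      Cfsg.M24.mul_mem (Cfsg.M24.inv_mem c.2) (td.mem_M24 (hcj d hdm).2), ?_⟩
  · refine ⟨_, Or.inl (Golay.tab_permOf hreps.1.1.1.1.1.1.1), ?_⟩
    have key := Golay.tab_unique (td.mul (Golay.tab_permOf hreps.1.1.1.1.1.1.1)) (e ▸ tl.mul td)
    rw [← hy] at key
    calc _ = (c : Equiv.Perm GolayPt)⁻¹ * (Golay.permOf d (hcj d hdm).1 *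
          Golay.permOf three6Tab hreps.1.1.1.1.1.1.1) * (Golay.permOf d (hcj d hdm).1)⁻¹ * c := by
          group
      _ = g := by rw [key]; group
  · refine ⟨_, Or.inr (Golay.tab_permOf hreps.1.1.1.1.2), ?_⟩
    have key := Golay.tab_unique (td.mul (Golay.tab_permOf hreps.1.1.1.1.2)) (e ▸ tl.mul td)
    rw [← hy] at key
    calc _ = (c : Equiv.Perm GolayPt)⁻¹ * (Golay.permOf d (hcj d hdm).1 *
          Golay.permOf three0Tab hreps.1.1.1.1.2) * (Golay.permOf d (hcj d hdm).1)⁻¹ * c := by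
          group
      _ = g := by rw [key]; group

theorem fixedPts_eq_filter (g : Equiv.Perm GolayPt) :
    (Finset.univ.filter fun p => g p = p) = fixedPts g := by
  ext p; simp

theorem card_fixedPts_rep {r : Equiv.Perm GolayPt} :
    (Tab r three6Tab → (fixedPts r).card = 6) ∧ (Tab r three0Tab → (fixedPts r).card = 0) := by
  obtain ⟨-, -, -, -, -, -, hreps⟩ := three_facts
  simp only [Bool.and_eq_true, decide_eq_true_eq] at hreps
  exact ⟨fun t => t.card_fixedPts.trans hreps.1.1.1.1.1.2,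
    fun t => t.card_fixedPts.trans hreps.1.1.2⟩

theorem card_fixedPts_three {g : Equiv.Perm GolayPt} (hg : g ∈ Cfsg.M24) (ho : orderOf g = 3) :
    (fixedPts g).card = 6 ∨ (fixedPts g).card = 0 := by
  obtain ⟨k, -, r, h, rfl⟩ := exists_rep_three hg ho
  rw [Golay.card_fixedPts_conj]
  exact h.imp card_fixedPts_rep.1 card_fixedPts_rep.2

/-- Conjugacy of elements of order 3 is decided by the number of fixed points. -/
theorem three_classes {g h : Equiv.Perm GolayPt} (hg : g ∈ Cfsg.M24) (hh : h ∈ Cfsg.M24)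
    (og : orderOf g = 3) (oh : orderOf h = 3)
    (e : (fixedPts g).card = (fixedPts h).card) : ∃ k ∈ Cfsg.M24, k * g * k⁻¹ = h := by
  obtain ⟨k, hk, r, hr, rfl⟩ := exists_rep_three hg og
  obtain ⟨k', hk', r', hr', rfl⟩ := exists_rep_three hh oh
  rw [Golay.card_fixedPts_conj, Golay.card_fixedPts_conj] at e
  have hrr : r = r' := by
    rcases hr with t | t <;> rcases hr' with t' | t' <;>
      first
        | exact Golay.tab_unique t t'
        | (rw [card_fixedPts_rep.1 t, card_fixedPts_rep.2 t'] at e; omega)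
        | (rw [card_fixedPts_rep.2 t, card_fixedPts_rep.1 t'] at e; omega)
  subst hrr
  exact ⟨k' * k⁻¹, Cfsg.M24.mul_mem hk' (Cfsg.M24.inv_mem hk), by group⟩

theorem exists_three : (∃ g ∈ Cfsg.M24, orderOf g = 3 ∧ (fixedPts g).card = 6) ∧
    ∃ g ∈ Cfsg.M24, orderOf g = 3 ∧ (fixedPts g).card = 0 := by
  obtain ⟨-, -, -, -, -, -, hreps⟩ := three_facts
  simp only [Bool.and_eq_true, decide_eq_true_eq, beq_iff_eq] at hreps
  haveI : Fact (Nat.Prime 3) := ⟨Nat.prime_three⟩
  have mk : ∀ (l : List ℕ) (hp : isPermTab l = true), checkAut l = true →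
      comp l (comp l l) = idTab → ∀ c, fixCount l = c → c ≠ 24 →
      ∃ g ∈ Cfsg.M24, orderOf g = 3 ∧ (fixedPts g).card = c := by
    intro l hp hc hcube c hfc hne
    have t := Golay.tab_permOf hp
    refine ⟨_, t.mem_M24 hc, orderOf_eq_prime ?_ fun e => ?_, t.card_fixedPts.trans hfc⟩
    · rw [pow_three]; exact Golay.tab_unique (hcube ▸ t.mul (t.mul t)) Golay.tab_one
    · apply hne
      rw [← hfc, ← t.card_fixedPts, e, show fixedPts 1 = Finset.univ by ext; simp,
        Finset.card_univ, Golay.card_golayPt]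
  exact ⟨mk _ hreps.1.1.1.1.1.1.1 hreps.1.1.1.1.1.1.2 hreps.1.2 6 hreps.1.1.1.1.1.2 (by norm_num),
    mk _ hreps.1.1.1.1.2 hreps.1.1.1.2 hreps.2 0 hreps.1.1.2 (by norm_num)⟩

end Cfsg.Agent.Sporadic96
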