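import Cfsg.Agent.Sporadic96.M24.FixCount
import Cfsg.Agent.Sporadic96.M24.Three
import Cfsg.Agent.Lib.Golay.Involutions

/-!
Preserved octads, trios, sextets and dodecads of the elements of order 2 and 3.
-/

set_option autoImplicit false

namespace Cfsg.Agent.Sporadic96

open scoped Pointwise
open Cfsg.Agent.Golay (Tab fixedPts inv8Tab inv0Tab)

set_option maxRecDepth 40000 in
theorem fixedOct_values : [inv8Tab, inv0Tab, three6Tab].map (fixedCount 1 759 octP) =
    [71, 15, 21] := by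
  decide +kernel

set_option maxRecDepth 40000 in
theorem fixedTrio_values : [inv8Tab, inv0Tab, three6Tab, three0Tab].map (fixedCount 3 3795 trioP) =
    [99, 75, 15, 15] := by
  decide +kernel

set_option maxRecDepth 40000 in
theorem fixedSext_values : [inv8Tab, inv0Tab, three6Tab, three0Tab].map (fixedCount 6 1771 sextP) =
    [91, 51, 16, 7] := by
  decide +kernel

set_option maxRecDepth 40000 in
theorem fixedDod_value : fixedDodCount three6Tab = 20 := by decide +kernel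

theorem length_tabs : inv8Tab.length = 24 ∧ inv0Tab.length = 24 ∧ three6Tab.length = 24 ∧
    three0Tab.length = 24 := by decide

theorem card_fixedPts_invRep {r : Equiv.Perm GolayPt} :
    (Tab r inv8Tab → (fixedPts r).card = 8) ∧ (Tab r inv0Tab → (fixedPts r).card = 0) := by
  obtain ⟨-, -, hr8, hr0, -⟩ := Golay.invol_facts
  simp only [Bool.and_eq_true, decide_eq_true_eq] at hr8 hr0
  exact ⟨fun t => t.card_fixedPts.trans hr8.2, fun t => t.card_fixedPts.trans hr0.2⟩

theorem card_fixedPts_zero_iff {g : Equiv.Perm GolayPt} :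
    (fixedPts g).card = 0 ↔ ∀ p, g p ≠ p := by
  simp [Finset.ext_iff]

/-- An involution is conjugate to the representative with as many fixed points. -/
theorem exists_rep_two {g : Equiv.Perm GolayPt} (hg : g ∈ Cfsg.M24) (ho : orderOf g = 2) :
    ((fixedPts g).card = 8 ∧ ∃ k ∈ Cfsg.M24, ∃ r, Tab r inv8Tab ∧ k * r * k⁻¹ = g) ∨
      ((fixedPts g).card = 0 ∧ ∃ k ∈ Cfsg.M24, ∃ r, Tab r inv0Tab ∧ k * r * k⁻¹ = g) := by
  obtain ⟨k, hk, r, ⟨t, rfl⟩ | ⟨t, rfl⟩⟩ := Golay.exists_rep_involution hg ho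
  · exact Or.inl ⟨by rw [Golay.card_fixedPts_conj, card_fixedPts_invRep.1 t], k, hk, r, t, rfl⟩
  · exact Or.inr ⟨by rw [Golay.card_fixedPts_conj, card_fixedPts_invRep.2 t], k, hk, r, t, rfl⟩

theorem preserved_two_eight {g : Equiv.Perm GolayPt} (hg : g ∈ Cfsg.M24) (ho : orderOf g = 2)
    (h : (fixedPts g).card = 8) :
    {o | o ∈ octads ∧ g • o = o}.ncard = 71 ∧ {T | T ∈ trios ∧ g • T = T}.ncard = 99 ∧
      {S | S ∈ sextets ∧ g • S = S}.ncard = 91 := by
  rcases exists_rep_two hg ho with ⟨-, k, hk, r, t, rfl⟩ | ⟨h0, -⟩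
  swap
  · omega
  have ho := fixedOct_values
  have ht := fixedTrio_values
  have hs := fixedSext_values
  simp only [List.map_cons, List.map_nil, List.cons.injEq, and_true] at ho ht hs
  refine ⟨?_, ?_, ?_⟩
  · rw [ncard_fixed_conj hk fun g _ => smul_octad g, ncard_fixed_octads t length_tabs.1, ho.1]
  · rw [ncard_fixed_conj hk fun g _ => smul_trio g, ncard_fixed_trios t length_tabs.1, ht.1]
  · rw [ncard_fixed_conj hk fun g _ => smul_sextet g, ncard_fixed_sextets t length_tabs.1, hs.1]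

theorem preserved_two_zero {g : Equiv.Perm GolayPt} (hg : g ∈ Cfsg.M24) (ho : orderOf g = 2)
    (h : (fixedPts g).card = 0) :
    {o | o ∈ octads ∧ g • o = o}.ncard = 15 ∧ {T | T ∈ trios ∧ g • T = T}.ncard = 75 ∧
      {S | S ∈ sextets ∧ g • S = S}.ncard = 51 := by
  rcases exists_rep_two hg ho with ⟨h8, -⟩ | ⟨-, k, hk, r, t, rfl⟩
  · omega
  have ho := fixedOct_values
  have ht := fixedTrio_values
  have hs := fixedSext_values
  simp only [List.map_cons, List.map_nil, List.cons.injEq, and_true] at ho ht hs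
  refine ⟨?_, ?_, ?_⟩
  · rw [ncard_fixed_conj hk fun g _ => smul_octad g, ncard_fixed_octads t length_tabs.2.1, ho.2.1]
  · rw [ncard_fixed_conj hk fun g _ => smul_trio g, ncard_fixed_trios t length_tabs.2.1, ht.2.1]
  · rw [ncard_fixed_conj hk fun g _ => smul_sextet g, ncard_fixed_sextets t length_tabs.2.1,
      hs.2.1]

theorem preserved_three_six {g : Equiv.Perm GolayPt} (hg : g ∈ Cfsg.M24) (ho : orderOf g = 3)
    (h : (fixedPts g).card = 6) :
    {o | o ∈ octads ∧ g • o = o}.ncard = 21 ∧ {T | T ∈ trios ∧ g • T = T}.ncard = 15 ∧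
      {S | S ∈ sextets ∧ g • S = S}.ncard = 16 ∧ {d | d ∈ dodecads ∧ g • d = d}.ncard = 20 := by
  obtain ⟨k, hk, r, t | t, rfl⟩ := exists_rep_three hg ho
  swap
  · rw [Golay.card_fixedPts_conj, card_fixedPts_rep.2 t] at h; omega
  have ho := fixedOct_values
  have ht := fixedTrio_values
  have hs := fixedSext_values
  simp only [List.map_cons, List.map_nil, List.cons.injEq, and_true] at ho ht hs
  refine ⟨?_, ?_, ?_, ?_⟩
  · rw [ncard_fixed_conj hk fun g _ => smul_octad g, ncard_fixed_octads t length_tabs.2.2.1,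
      ho.2.2]
  · rw [ncard_fixed_conj hk fun g _ => smul_trio g, ncard_fixed_trios t length_tabs.2.2.1, ht.2.2.1]
  · rw [ncard_fixed_conj hk fun g _ => smul_sextet g, ncard_fixed_sextets t length_tabs.2.2.1,
      hs.2.2.1]
  · rw [ncard_fixed_conj hk fun g _ => smul_dodecad g, ncard_fixed_dodecads t, fixedDod_value]

theorem preserved_three_zero {g : Equiv.Perm GolayPt} (hg : g ∈ Cfsg.M24) (ho : orderOf g = 3)
    (h : (fixedPts g).card = 0) :
    {S | S ∈ sextets ∧ g • S = S}.ncard = 7 ∧ {T | T ∈ trios ∧ g • T = T}.ncard = 15 := by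
  obtain ⟨k, hk, r, t | t, rfl⟩ := exists_rep_three hg ho
  · rw [Golay.card_fixedPts_conj, card_fixedPts_rep.1 t] at h; omega
  have ht := fixedTrio_values
  have hs := fixedSext_values
  simp only [List.map_cons, List.map_nil, List.cons.injEq, and_true] at ht hs
  exact ⟨by rw [ncard_fixed_conj hk fun g _ => smul_sextet g,
      ncard_fixed_sextets t length_tabs.2.2.2, hs.2.2.2],
    by rw [ncard_fixed_conj hk fun g _ => smul_trio g,
      ncard_fixed_trios t length_tabs.2.2.2, ht.2.2.2]⟩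

/-! ### Subgroups of order 3 -/

theorem exists_generator {X : Subgroup ↥Cfsg.M24} (hX : Nat.card X = 3) :
    ∃ x : ↥Cfsg.M24, orderOf (x : Equiv.Perm GolayPt) = 3 ∧ Subgroup.zpowers x = X ∧
      {p : GolayPt | ∀ y ∈ X, ((y : ↥Cfsg.M24) : Equiv.Perm GolayPt) p = p}.ncard =
        (fixedPts (x : Equiv.Perm GolayPt)).card := by
  haveI : Finite ↥X := Subtype.finite
  have : Nontrivial ↥X := Finite.one_lt_card_iff_nontrivial.1 (by omega)
  obtain ⟨x, hx⟩ := exists_ne (1 : ↥X)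
  haveI : Fact (Nat.Prime 3) := ⟨Nat.prime_three⟩
  have ho : orderOf x = 3 := by
    refine orderOf_eq_prime ?_ hx
    rw [← hX]; exact pow_card_eq_one'
  have ho' : orderOf ((x : ↥Cfsg.M24) : Equiv.Perm GolayPt) = 3 := by
    rw [Subgroup.orderOf_coe, Subgroup.orderOf_coe, ho]
  have hz : Subgroup.zpowers (x : ↥Cfsg.M24) = X :=
    Subgroup.eq_of_le_of_card_ge ((Subgroup.zpowers_le).2 x.2)
      (by rw [Nat.card_zpowers, Subgroup.orderOf_coe, ho, hX])
  refine ⟨x, ho', hz, ?_⟩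
  rw [← Set.ncard_coe_finset]
  congr 1
  ext p
  simp only [Set.mem_ofPred_eq, Finset.mem_coe, Golay.mem_fixedPts]
  refine ⟨fun h => h x x.2, fun h y hy => ?_⟩
  rw [← hz] at hy
  obtain ⟨i, rfl⟩ := Subgroup.mem_zpowers_iff.1 hy
  exact Equiv.Perm.zpow_apply_eq_self_of_apply_eq_self h i

theorem three_subgroups :
    (∀ X : Subgroup ↥Cfsg.M24, Nat.card X = 3 →
      {p : GolayPt | ∀ y ∈ X, ((y : ↥Cfsg.M24) : Equiv.Perm GolayPt) p = p}.ncard = 6 ∨
        {p : GolayPt | ∀ y ∈ X, ((y : ↥Cfsg.M24) : Equiv.Perm GolayPt) p = p}.ncard = 0) ∧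
    (∀ c ∈ ({6, 0} : Finset ℕ), ∃ X : Subgroup ↥Cfsg.M24, Nat.card X = 3 ∧
      {p : GolayPt | ∀ y ∈ X, ((y : ↥Cfsg.M24) : Equiv.Perm GolayPt) p = p}.ncard = c) ∧
    ∀ X Y : Subgroup ↥Cfsg.M24, Nat.card X = 3 → Nat.card Y = 3 →
      {p : GolayPt | ∀ y ∈ X, ((y : ↥Cfsg.M24) : Equiv.Perm GolayPt) p = p}.ncard =
        {p : GolayPt | ∀ y ∈ Y, ((y : ↥Cfsg.M24) : Equiv.Perm GolayPt) p = p}.ncard →
      ∃ k : ↥Cfsg.M24, MulAut.conj k • X = Y := by
  refine ⟨fun X hX => ?_, fun c hc => ?_, fun X Y hX hY e => ?_⟩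
  · obtain ⟨x, hx, -, e⟩ := exists_generator hX
    rw [e]
    exact card_fixedPts_three x.2 hx
  · obtain ⟨g, hg, ho, hf⟩ : ∃ g ∈ Cfsg.M24, orderOf g = 3 ∧ (fixedPts g).card = c := by
      simp only [Finset.mem_insert, Finset.mem_singleton] at hc
      rcases hc with rfl | rfl
      exacts [exists_three.1, exists_three.2]
    set x : ↥Cfsg.M24 := ⟨g, hg⟩
    have hX : Nat.card (Subgroup.zpowers x) = 3 := by
      rw [Nat.card_zpowers, ← Subgroup.orderOf_coe]; exact ho
    refine ⟨_, hX, ?_⟩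
    rw [← hf, ← Set.ncard_coe_finset]
    congr 1
    ext p
    simp only [Set.mem_ofPred_eq, Finset.mem_coe, Golay.mem_fixedPts]
    refine ⟨fun h => h x (Subgroup.mem_zpowers x), fun h y hy => ?_⟩
    obtain ⟨i, rfl⟩ := Subgroup.mem_zpowers_iff.1 hy
    exact Equiv.Perm.zpow_apply_eq_self_of_apply_eq_self h i
  · obtain ⟨x, hx, hzx, ex⟩ := exists_generator hX
    obtain ⟨y, hy, hzy, ey⟩ := exists_generator hY
    obtain ⟨k, hk, hkxy⟩ := three_classes x.2 y.2 hx hy (by rw [← ex, ← ey, e])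
    refine ⟨⟨k, hk⟩, ?_⟩
    rw [← hzx, ← hzy]
    show Subgroup.map (MulAut.conj (⟨k, hk⟩ : ↥Cfsg.M24)).toMonoidHom (Subgroup.zpowers x) = _
    rw [MonoidHom.map_zpowers]
    congr 1
    exact Subtype.ext hkxy

end Cfsg.Agent.Sporadic96
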