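import Cfsg.Prelude.Def_SporadicCombinatorics
import Cfsg.Agent.Lib.Golay.Perm
import Cfsg.Agent.Sporadic96.M24.Lanes
import Cfsg.Agent.Sporadic96.M24.Data

/-!
Octads, trios and sextets of the length-24 code as explicit packed vectors.

Main results: `octad_iff`, `trio_iff`, `sextet_iff` (the `k`-th object is `fam m P k`),
`fam_trio_injective`, `fam_sext_injective`, `ncard_trios`, `ncard_sextets`.
-/

set_option autoImplicit false

namespace Cfsg.Agent.Sporadic96

open scoped Pointwise
open Cfsg.Agent.Golay (idx pt toSet popc inCode)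

/-- The family of point sets given by a list of masks. -/
def toFam (L : List ℕ) : Finset (Finset GolayPt) := (L.map toSet).toFinset

theorem mem_toFam {L : List ℕ} {s : Finset GolayPt} : s ∈ toFam L ↔ ∃ n ∈ L, toSet n = s := by
  simp [toFam]

/-- The `k`-th object of a vector with `m` lanes per object. -/
def fam (m X k : ℕ) : Finset (Finset GolayPt) :=
  toFam ((List.range m).map fun r => lane X (m * k + r))

theorem mem_fam {m X k : ℕ} {s : Finset GolayPt} :
    s ∈ fam m X k ↔ ∃ r < m, toSet (lane X (m * k + r)) = s := by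
  simp [fam, mem_toFam]

/-! ### Bit manipulations -/

theorem testBit_allN (p : GolayPt) : allN.testBit (idx p) = true := by
  rw [testBit_allN_nat, decide_eq_true (Golay.idx_lt p)]

theorem toSet_compl (n : ℕ) : toSet (allN ^^^ n) = Finset.univ \ toSet n := by
  ext p
  simp [Nat.testBit_xor, testBit_allN]

theorem toSet_sdiff {o t : ℕ} (h : toSet t ⊆ toSet o) : toSet (o ^^^ t) = toSet o \ toSet t := by
  ext p
  have := @h p
  simp only [Golay.mem_toSet, Nat.testBit_xor, Finset.mem_sdiff] at this ⊢
  by_cases ht : t.testBit (idx p) <;> by_cases ho : o.testBit (idx p) <;> simp_all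

theorem land_beq_zero_iff {a b : ℕ} (ha : a < 2 ^ 24) :
    (Nat.land a b).beq 0 = true ↔ Disjoint (toSet a) (toSet b) := by
  rw [Nat.beq_eq, show Nat.land a b = a &&& b from rfl, Finset.disjoint_iff_inter_eq_empty,
    Golay.toSet_inter]
  constructor
  · intro h; rw [h]; ext p; simp
  · intro h
    refine Golay.toSet_injOn (lt_of_le_of_lt Nat.and_le_left ha) (by norm_num) ?_
    rw [h]; ext p; simp

theorem land_bit_beq_zero_iff {a : ℕ} (p : GolayPt) :
    (Nat.land a (2 ^ idx p)).beq 0 = true ↔ p ∉ toSet a := by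
  rw [Nat.beq_eq, show Nat.land a (2 ^ idx p) = a &&& 2 ^ idx p from rfl, Nat.and_two_pow,
    Golay.mem_toSet]
  cases a.testBit (idx p) <;> simp

/-- The lanes of a list of lists of equal length. -/
theorem getD_flatten_uniform {α : Type} (d : α) {m : ℕ} : ∀ (L : List (List α)),
    (∀ l ∈ L, l.length = m) → ∀ k r, r < m →
      L.flatten.getD (m * k + r) d = (L.getD k []).getD r d
  | [], _, k, r, _ => by simp
  | l :: L, h, k, r, hr => by
    have hl : l.length = m := h l List.mem_cons_self
    rw [List.flatten_cons]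
    cases k with
    | zero =>
      rw [Nat.mul_zero, Nat.zero_add, List.getD_append _ _ _ _ (by omega), List.getD_cons_zero]
    | succ k =>
      rw [List.getD_append_right _ _ _ _ (by rw [hl, Nat.mul_succ]; omega), List.getD_cons_succ,
        ← getD_flatten_uniform d L (fun x hx => h x (List.mem_cons_of_mem _ hx)) k r hr, hl,
        Nat.mul_succ]
      congr 1; omega

theorem list_eq_range_map {α : Type} (d : α) (l : List α) :
    l = (List.range l.length).map fun i => l.getD i d := by
  refine List.ext_getElem (by simp) fun i h1 h2 => ?_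
  simp [List.getElem?_eq_getElem h1]

theorem fam_pack {m : ℕ} {L : List (List ℕ)} (hm : ∀ l ∈ L, l.length = m)
    (hlt : ∀ l ∈ L, ∀ x ∈ l, x < 2 ^ 24) {k : ℕ} (hk : k < L.length) :
    fam m (pack L.flatten) k = toFam L[k] := by
  unfold fam
  congr 1
  conv_rhs => rw [list_eq_range_map 0 L[k], hm _ (List.getElem_mem hk)]
  refine List.map_congr_left fun r hr => ?_
  rw [List.mem_range] at hr
  rw [lane_pack _ (by
    intro x hx
    obtain ⟨l, hl, hxl⟩ := List.mem_flatten.mp hx
    exact hlt l hl x hxl), getD_flatten_uniform 0 L hm k r hr, List.getD_eq_getElem L [] hk]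

/-! ### Octads -/

/-- The octad masks in increasing order. -/
def octL : List ℕ := octKeys

set_option maxRecDepth 40000 in
theorem octL_check :
    (((List.range 4096).map Golay.comb).filter fun n => (popc n).beq 8).length = 759 ∧
    (octL.all fun n => inCode n && (popc n).beq 8) = true ∧ octL.Pairwise (fun a b => a ≠ b) ∧
    pack octL = octP := by
  refine ⟨by decide +kernel, by decide +kernel, ?_, by decide +kernel⟩
  have key : ∀ (l : List ℕ), ((l.zip l.tail).all fun p => p.1.blt p.2) = true →
      l.Pairwise (fun a b => a < b) := by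
    intro l
    induction l with
    | nil => intro _; exact List.Pairwise.nil
    | cons a l ih =>
      intro h
      cases l with
      | nil => exact List.pairwise_singleton _ _
      | cons b r =>
        simp only [List.tail_cons, List.zip_cons_cons, List.all_cons, Bool.and_eq_true,
          Nat.blt_eq] at h
        have ih' := ih (by simpa using h.2)
        refine List.pairwise_cons.mpr ⟨fun x hx => ?_, ih'⟩
        rcases List.mem_cons.mp hx with rfl | hx
        · exact h.1
        · exact h.1.trans ((List.pairwise_cons.mp ih').1 x hx)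
  exact (key _ (by decide +kernel)).imp fun h => h.ne

theorem mem_octL {n : ℕ} : n ∈ octL ↔ inCode n = true ∧ popc n = 8 := by
  constructor
  · intro hn
    have := List.all_eq_true.mp octL_check.2.1 n hn
    simpa using this
  · rintro ⟨h, h8⟩
    set C := ((List.range 4096).map Golay.comb).filter fun n => (popc n).beq 8 with hC
    have hsub : octL.toFinset ⊆ C.toFinset := by
      intro x hx
      rw [List.mem_toFinset] at hx ⊢
      have := List.all_eq_true.mp octL_check.2.1 x hx
      simp only [Bool.and_eq_true] at this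
      rw [hC, List.mem_filter, List.mem_map]
      exact ⟨⟨x % 4096, List.mem_range.mpr (Nat.mod_lt _ (by norm_num)),
        beq_iff_eq.mp this.1⟩, this.2⟩
    have hlen : octL.length = 759 := by decide +kernel
    have he : octL.toFinset = C.toFinset := Finset.eq_of_subset_of_card_le hsub (by
      rw [List.toFinset_card_of_nodup octL_check.2.2.1, hlen]
      exact (List.toFinset_card_le C).trans octL_check.1.le)
    rw [← List.mem_toFinset, he, List.mem_toFinset, hC, List.mem_filter, List.mem_map]
    exact ⟨⟨n % 4096, List.mem_range.mpr (Nat.mod_lt _ (by norm_num)), beq_iff_eq.mp h⟩,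
      by simpa using h8⟩

theorem octad_iff' {s : Finset GolayPt} : s ∈ octads ↔ ∃ n ∈ octL, toSet n = s := by
  simp only [Golay.octad_mem_iff, mem_octL, and_assoc]

theorem octL_lt {n : ℕ} (h : n ∈ octL) : n < 2 ^ 24 := Golay.inCode_lt (mem_octL.mp h).1

theorem length_octL : octL.length = 759 := by decide +kernel

theorem lane_octP (k : ℕ) : lane octP k = octL.getD k 0 := by
  rw [← octL_check.2.2.2, lane_pack _ fun x hx => octL_lt hx]

theorem octad_iff {s : Finset GolayPt} : s ∈ octads ↔ ∃ k < 759, toSet (lane octP k) = s := by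
  rw [octad_iff']
  constructor
  · rintro ⟨n, hn, rfl⟩
    obtain ⟨i, hi, rfl⟩ := List.getElem_of_mem hn
    exact ⟨i, length_octL ▸ hi, by rw [lane_octP, List.getD_eq_getElem _ _ hi]⟩
  · rintro ⟨k, hk, rfl⟩
    rw [lane_octP, List.getD_eq_getElem _ _ (length_octL.symm ▸ hk)]
    exact ⟨_, List.getElem_mem _, rfl⟩

theorem toSet_octP_injective {j k : ℕ} (hj : j < 759) (hk : k < 759)
    (h : toSet (lane octP j) = toSet (lane octP k)) : j = k := by
  have hnd : octL.Nodup := octL_check.2.2.1
  have e := Golay.toSet_injOn (lane_lt _ _) (lane_lt _ _) h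
  rw [lane_octP, lane_octP, List.getD_eq_getElem _ _ (length_octL.symm ▸ hj),
    List.getD_eq_getElem _ _ (length_octL.symm ▸ hk)] at e
  exact (hnd.getElem_inj_iff).mp e

/-- The octads through the extra point. -/
def octInf : List ℕ := octL.filter fun o => !(Nat.land o (2 ^ 23)).beq 0

theorem idx_none : idx (none : GolayPt) = 23 := rfl

theorem mem_octInf {o : ℕ} : o ∈ octInf ↔ o ∈ octL ∧ (none : GolayPt) ∈ toSet o := by
  have h23 : (2 : ℕ) ^ 23 = 2 ^ idx (none : GolayPt) := rfl
  rw [octInf, List.mem_filter, h23, Bool.not_eq_true', ← Bool.not_eq_true,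
    land_bit_beq_zero_iff, not_not]

/-! ### Trios -/

/-- The least of the points 0, …, 7 outside the mask. -/
def lowOut (a : ℕ) : ℕ := ((List.range 8).find? fun i => (Nat.land a (2 ^ i)).beq 0).getD 8

/-- The trios: first the octad on the extra point, then the octad on the least point left. -/
def trioList : List (List ℕ) :=
  octInf.flatMap fun a => ((((List.range 8).map fun p =>
    octL.filter fun b => !(Nat.land b (2 ^ p)).beq 0).getD (lowOut a) []).filter fun b =>
      (Nat.land a b).beq 0).map fun b => [a, b, Nat.xor allN (Nat.lor a b)]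

/-- The trios decoded from the literal. -/
def trioLit : List (List ℕ) := trioKeys.map fun n => (digits 24 3 n).reverse

set_option maxRecDepth 40000 in
theorem trioList_eq : trioList = trioLit := by decide +kernel

set_option maxRecDepth 40000 in
theorem trioLit_check : trioLit.length = 3795 ∧ pack trioLit.flatten = trioP ∧
    ((trioKeys.zip trioKeys.tail).all fun p => p.1.blt p.2) = true := by
  refine ⟨?_, ?_, ?_⟩ <;> decide +kernel

theorem lowOut_spec {a : ℕ} (ha : a ∈ octInf) :
    lowOut a < 8 ∧ pt (lowOut a) ∉ toSet a := by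
  rw [lowOut]
  cases hf : (List.range 8).find? fun i => (Nat.land a (2 ^ i)).beq 0 with
  | some i =>
    have h1 := List.find?_some hf
    have h2 := List.mem_range.mp (List.mem_of_find?_eq_some hf)
    refine ⟨h2, ?_⟩
    rw [← land_bit_beq_zero_iff, Option.getD_some, Golay.idx_pt (by omega)]
    exact h1
  | none =>
    exfalso
    rw [List.find?_eq_none] at hf
    obtain ⟨ha8, hnone⟩ := mem_octInf.mp ha
    have hsub : insert (none : GolayPt) ((Finset.range 8).image pt) ⊆ toSet a := by
      intro p hp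
      rw [Finset.mem_insert, Finset.mem_image] at hp
      rcases hp with rfl | ⟨i, hi, rfl⟩
      · exact hnone
      · rw [Finset.mem_range] at hi
        have := hf i (List.mem_range.mpr hi)
        by_contra hn
        rw [← land_bit_beq_zero_iff, Golay.idx_pt (by omega)] at hn
        exact this hn
    have h9 : (insert (none : GolayPt) ((Finset.range 8).image pt)).card = 9 := by decide +kernel
    have := Finset.card_le_card hsub
    rw [h9, Golay.card_toSet, (mem_octL.mp ha8).2] at this
    omega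

theorem mem_trioList {L : List ℕ} : L ∈ trioList ↔ ∃ a ∈ octInf, ∃ b ∈ octL,
    pt (lowOut a) ∈ toSet b ∧ Disjoint (toSet a) (toSet b) ∧ L = [a, b, allN ^^^ (a ||| b)] := by
  rw [trioList, List.mem_flatMap]
  refine exists_congr fun a => and_congr_right fun ha => ?_
  have hlow := lowOut_spec ha
  rw [List.mem_map]
  refine exists_congr fun b => ?_
  rw [List.mem_filter, List.getD_eq_getElem _ _ (by simpa using hlow.1), List.getElem_map,
    List.getElem_range, List.mem_filter, land_beq_zero_iff (octL_lt (mem_octInf.mp ha).1),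
    Bool.not_eq_true', ← Bool.not_eq_true, and_assoc, and_assoc, eq_comm (a := L)]
  refine and_congr_right fun _ => and_congr ?_ Iff.rfl
  have e : 2 ^ lowOut a = 2 ^ idx (pt (lowOut a)) := by rw [Golay.idx_pt (by omega)]
  rw [e, land_bit_beq_zero_iff, not_not]

theorem toSet_third {a b : ℕ} :
    toSet (allN ^^^ (a ||| b)) = Finset.univ \ (toSet a ∪ toSet b) := by
  rw [toSet_compl, Golay.toSet_union]

theorem trioList_mem_trios {L : List ℕ} (hL : L ∈ trioList) : toFam L ∈ trios := by
  obtain ⟨a, ha, b, hb, hpb, hdisj, rfl⟩ := mem_trioList.mp hL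
  have ha' := (mem_octInf.mp ha).1
  set c := allN ^^^ (a ||| b) with hc
  have hca : toSet c = Finset.univ \ (toSet a ∪ toSet b) := toSet_third
  have hcard : (toSet c).card = 8 := by
    rw [hca, Finset.card_sdiff_of_subset (Finset.subset_univ _),
      Finset.card_union_of_disjoint hdisj, Finset.card_univ, Golay.card_golayPt, Golay.card_toSet,
      Golay.card_toSet, (mem_octL.mp ha').2, (mem_octL.mp hb).2]
  have hoa : toSet a ∈ octads := octad_iff'.mpr ⟨a, ha', rfl⟩
  have hob : toSet b ∈ octads := octad_iff'.mpr ⟨b, hb, rfl⟩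
  have hoc : toSet c ∈ octads := by
    refine ⟨?_, hcard⟩
    obtain ⟨u, hu, hua⟩ := hoa.1
    obtain ⟨v, hv, hvb⟩ := hob.1
    refine ⟨u + v + 1, golayCode.add_mem (golayCode.add_mem hu hv)
      (Submodule.subset_span (Or.inr rfl)), ?_⟩
    rw [hca]
    ext p
    have e1 := Finset.ext_iff.mp hua p
    have e2 := Finset.ext_iff.mp hvb p
    have e3 : ¬ (p ∈ toSet a ∧ p ∈ toSet b) := fun h => Finset.disjoint_left.mp hdisj h.1 h.2
    simp only [support₂, Finset.mem_filter, Finset.mem_univ, true_and] at e1 e2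
    simp only [support₂, Finset.mem_filter, Finset.mem_univ, true_and, Finset.mem_sdiff,
      Finset.mem_union, Pi.add_apply, Pi.one_apply]
    rw [← e1, ← e2] at e3 ⊢
    revert e3
    generalize u p = x
    generalize v p = y
    revert x y
    decide
  have dac : Disjoint (toSet a) (toSet c) := by
    rw [hca, Finset.disjoint_left]
    intro p hp hp'
    exact (Finset.mem_sdiff.mp hp').2 (Finset.mem_union_left _ hp)
  have dbc : Disjoint (toSet b) (toSet c) := by
    rw [hca, Finset.disjoint_left]
    intro p hp hp'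
    exact (Finset.mem_sdiff.mp hp').2 (Finset.mem_union_right _ hp)
  have hne : ∀ {x y : Finset GolayPt}, x.card = 8 → Disjoint x y → x ≠ y := fun hx hd e => by
    subst e; rw [disjoint_self.mp hd] at hx; simp at hx
  have he : toFam [a, b, c] = {toSet a, toSet b, toSet c} := by
    ext s; simp [mem_toFam, eq_comm]
  rw [he]
  refine ⟨Finset.card_eq_three.mpr ⟨_, _, _, hne hoa.2 hdisj, hne hoa.2 dac, hne hob.2 dbc, rfl⟩,
    ?_, ?_⟩
  · intro o ho
    simp only [Finset.mem_insert, Finset.mem_singleton] at ho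
    rcases ho with rfl | rfl | rfl
    · exact hoa
    · exact hob
    · exact hoc
  · intro o ho o' ho' hn
    simp only [Finset.mem_insert, Finset.mem_singleton] at ho ho'
    rcases ho with rfl | rfl | rfl <;> rcases ho' with rfl | rfl | rfl <;>
      first
        | exact absurd rfl hn
        | exact hdisj
        | exact hdisj.symm
        | exact dac
        | exact dac.symm
        | exact dbc
        | exact dbc.symm

theorem exists_trioList {T : Finset (Finset GolayPt)} (hT : T ∈ trios) :
    ∃ L ∈ trioList, toFam L = T := by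
  obtain ⟨hT3, hToct, hTdisj⟩ := hT
  have hcover : T.biUnion id = Finset.univ := by
    apply Finset.eq_univ_of_card
    rw [show T.biUnion id = T.biUnion (fun a => a) from rfl,
      Finset.card_biUnion (fun a ha b hb hne => hTdisj a ha b hb hne), Golay.card_golayPt,
      Finset.sum_congr rfl (fun a ha => (hToct a ha).2), Finset.sum_const, hT3]
    rfl
  have hall : ∀ p : GolayPt, ∃ o ∈ T, p ∈ o := fun p => by
    have : p ∈ T.biUnion id := by rw [hcover]; exact Finset.mem_univ p
    simpa using this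
  obtain ⟨A, hA, hnA⟩ := hall none
  obtain ⟨a, ha, rfl⟩ := octad_iff'.mp (hToct A hA)
  have haI : a ∈ octInf := mem_octInf.mpr ⟨ha, hnA⟩
  obtain ⟨B, hB, hpB⟩ := hall (pt (lowOut a))
  obtain ⟨b, hb, rfl⟩ := octad_iff'.mp (hToct B hB)
  have hab : toSet a ≠ toSet b := fun e => (lowOut_spec haI).2 (e ▸ hpB)
  have hd := hTdisj _ hA _ hB hab
  refine ⟨_, mem_trioList.mpr ⟨a, haI, b, hb, hpB, hd, rfl⟩, ?_⟩
  have hmem := trioList_mem_trios (mem_trioList.mpr ⟨a, haI, b, hb, hpB, hd, rfl⟩)
  refine (Finset.eq_of_subset_of_card_le ?_ (by rw [hmem.1, hT3])).symm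
  intro C hC
  rw [mem_toFam]
  by_cases hCa : C = toSet a
  · exact ⟨a, List.mem_cons_self, hCa.symm⟩
  by_cases hCb : C = toSet b
  · exact ⟨b, by simp, hCb.symm⟩
  refine ⟨allN ^^^ (a ||| b), by simp, ?_⟩
  rw [toSet_third]
  refine (Finset.eq_of_subset_of_card_le ?_ ?_).symm
  · intro p hp
    simp only [Finset.mem_sdiff, Finset.mem_univ, true_and, Finset.mem_union, not_or]
    exact ⟨fun h => Finset.disjoint_left.mp (hTdisj _ hA _ hC (Ne.symm hCa)) h hp,
      fun h => Finset.disjoint_left.mp (hTdisj _ hB _ hC (Ne.symm hCb)) h hp⟩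
  · rw [Finset.card_sdiff_of_subset (Finset.subset_univ _),
      Finset.card_union_of_disjoint hd, Finset.card_univ, Golay.card_golayPt, Golay.card_toSet,
      Golay.card_toSet, (mem_octL.mp ha).2, (mem_octL.mp hb).2, (hToct C hC).2]

theorem trio_canonical {L L' : List ℕ} (hL : L ∈ trioList) (hL' : L' ∈ trioList)
    (h : toFam L = toFam L') : L = L' := by
  obtain ⟨-, -, hd'⟩ := trioList_mem_trios hL'
  obtain ⟨a, ha, b, hb, hpb, -, rfl⟩ := mem_trioList.mp hL
  obtain ⟨a', ha', b', hb', hpb', -, rfl⟩ := mem_trioList.mp hL'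
  have uniq : ∀ {p : GolayPt} {x y : Finset GolayPt}, x ∈ toFam [a', b', allN ^^^ (a' ||| b')] →
      y ∈ toFam [a', b', allN ^^^ (a' ||| b')] → p ∈ x → p ∈ y → x = y := by
    intro p x y hx hy hpx hpy
    by_contra hne
    exact Finset.disjoint_left.mp (hd' x hx y hy hne) hpx hpy
  have e1 : toSet a = toSet a' := uniq (h ▸ mem_toFam.mpr ⟨a, by simp, rfl⟩)
    (mem_toFam.mpr ⟨a', by simp, rfl⟩) (mem_octInf.mp ha).2 (mem_octInf.mp ha').2
  have eaa := Golay.toSet_injOn (octL_lt (mem_octInf.mp ha).1) (octL_lt (mem_octInf.mp ha').1) e1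
  subst eaa
  have e2 : toSet b = toSet b' := uniq (h ▸ mem_toFam.mpr ⟨b, by simp, rfl⟩)
    (mem_toFam.mpr ⟨b', by simp, rfl⟩) hpb hpb'
  have ebb := Golay.toSet_injOn (octL_lt hb) (octL_lt hb') e2
  subst ebb
  rfl

theorem pairwise_lt_of_zip : ∀ {l : List ℕ},
    ((l.zip l.tail).all fun p => p.1.blt p.2) = true → l.Pairwise (fun a b => a < b)
  | [], _ => List.Pairwise.nil
  | [_], _ => List.pairwise_singleton _ _
  | a :: b :: r, h => by
    simp only [List.tail_cons, List.zip_cons_cons, List.all_cons, Bool.and_eq_true,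
      Nat.blt_eq] at h
    have ih' := pairwise_lt_of_zip (l := b :: r) (by simpa using h.2)
    refine List.pairwise_cons.mpr ⟨fun x hx => ?_, ih'⟩
    rcases List.mem_cons.mp hx with rfl | hx
    · exact h.1
    · exact h.1.trans ((List.pairwise_cons.mp ih').1 x hx)

theorem foldl_reverse_digits : ∀ (m n : ℕ), n < 2 ^ (24 * m) →
    (digits 24 m n).reverse.foldl (fun r x => r * 2 ^ 24 + x) 0 = n
  | 0, n, h => by simp [digits] at h ⊢; omega
  | m + 1, n, h => by
    have h' : n / 2 ^ 24 < 2 ^ (24 * m) := by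
      rw [Nat.div_lt_iff_lt_mul (by norm_num)]
      calc n < 2 ^ (24 * (m + 1)) := h
        _ = 2 ^ (24 * m) * 2 ^ 24 := by rw [← pow_add, Nat.mul_succ]
    rw [digits, List.reverse_cons, List.foldl_append, foldl_reverse_digits m _ h',
      List.foldl_cons, List.foldl_nil, Nat.div_add_mod']

theorem decode_nodup {m : ℕ} {keys : List ℕ} (hlt : keys.all (fun n => n.blt (2 ^ (24 * m))) = true)
    (h : ((keys.zip keys.tail).all fun p => p.1.blt p.2) = true) :
    (keys.map fun n => (digits 24 m n).reverse).Nodup := by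
  rw [List.all_eq_true] at hlt
  have hnd : keys.Nodup := (pairwise_lt_of_zip h).imp fun h => Nat.ne_of_lt h
  refine hnd.map_on fun a ha b hb e => ?_
  rw [← foldl_reverse_digits m a (Nat.blt_eq.mp (hlt a ha)),
    ← foldl_reverse_digits m b (Nat.blt_eq.mp (hlt b hb)), e]

set_option maxRecDepth 40000 in
theorem trioList_nodup : trioList.Nodup := by
  rw [trioList_eq]
  exact decode_nodup (by decide +kernel) trioLit_check.2.2

theorem trioList_length : trioList.length = 3795 := by rw [trioList_eq]; exact trioLit_check.1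

theorem trioList_shape {L : List ℕ} (hL : L ∈ trioList) :
    L.length = 3 ∧ ∀ x ∈ L, x < 2 ^ 24 := by
  obtain ⟨a, ha, b, hb, -, -, rfl⟩ := mem_trioList.mp hL
  refine ⟨rfl, ?_⟩
  intro x hx
  simp only [List.mem_cons, List.not_mem_nil, or_false] at hx
  rcases hx with rfl | rfl | rfl
  · exact octL_lt (mem_octInf.mp ha).1
  · exact octL_lt hb
  · exact Nat.xor_lt_two_pow (by norm_num [allN])
      (Nat.or_lt_two_pow (octL_lt (mem_octInf.mp ha).1) (octL_lt hb))

theorem fam_trioP {k : ℕ} (hk : k < 3795) :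
    fam 3 trioP k = toFam (trioList[k]'(trioList_length.symm ▸ hk)) := by
  rw [← trioLit_check.2.1, ← trioList_eq]
  exact fam_pack (fun l hl => (trioList_shape hl).1) (fun l hl => (trioList_shape hl).2) _

theorem trio_iff {T : Finset (Finset GolayPt)} : T ∈ trios ↔ ∃ k < 3795, fam 3 trioP k = T := by
  constructor
  · intro hT
    obtain ⟨L, hL, rfl⟩ := exists_trioList hT
    obtain ⟨k, hk, rfl⟩ := List.getElem_of_mem hL
    exact ⟨k, trioList_length ▸ hk, fam_trioP (trioList_length ▸ hk)⟩
  · rintro ⟨k, hk, rfl⟩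
    rw [fam_trioP hk]
    exact trioList_mem_trios (List.getElem_mem _)

theorem fam_trio_injective {j k : ℕ} (hj : j < 3795) (hk : k < 3795)
    (h : fam 3 trioP j = fam 3 trioP k) : j = k := by
  rw [fam_trioP hj, fam_trioP hk] at h
  exact trioList_nodup.getElem_inj_iff.mp
    (trio_canonical (List.getElem_mem _) (List.getElem_mem _) h)

theorem ncard_trios : trios.ncard = 3795 := by
  have e : trios = ((Finset.range 3795).image (fam 3 trioP) : Set (Finset (Finset GolayPt))) := by
    ext T; simp [trio_iff]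
  rw [e, Set.ncard_coe_finset, Finset.card_image_of_injOn, Finset.card_range]
  intro a ha b hb hab
  exact fam_trio_injective (by simpa using ha) (by simpa using hb) hab

/-! ### Sextets -/

/-- The sextets: first the tetrad on the extra point, then the rest by increasing octad. -/
def sextList : List (List ℕ) :=
  (List.range 23).flatMap fun c =>
    (List.range c).flatMap fun b =>
      (List.range b).map fun a =>
        Nat.lor (Nat.lor (Nat.lor (2 ^ 23) (2 ^ a)) (2 ^ b)) (2 ^ c) ::
          (((((octInf.filter fun o => !(Nat.land o (2 ^ c)).beq 0).filter fun o =>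
            !(Nat.land o (2 ^ b)).beq 0)).filter fun o => !(Nat.land o (2 ^ a)).beq 0).map
              fun o => Nat.xor o (Nat.lor (Nat.lor (Nat.lor (2 ^ 23) (2 ^ a)) (2 ^ b)) (2 ^ c)))

/-- The sextets decoded from the literal. -/
def sextLit : List (List ℕ) := sextKeys.map fun n => (digits 24 6 n).reverse

set_option maxRecDepth 40000 in
theorem sextList_eq : sextList = sextLit := by decide +kernel

set_option maxRecDepth 40000 in
theorem sextLit_check : sextLit.length = 1771 ∧ pack sextLit.flatten = sextP ∧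
    (sextLit.all fun L => L.length.beq 6 && L.all fun x => x.blt 16777216) = true ∧
    ((sextKeys.zip sextKeys.tail).all fun p => p.1.blt p.2) = true := by
  refine ⟨?_, ?_, ?_, ?_⟩ <;> decide +kernel

theorem sextList_shape {L : List ℕ} (hL : L ∈ sextList) :
    L.length = 6 ∧ ∀ x ∈ L, x < 2 ^ 24 := by
  rw [sextList_eq] at hL
  have h := List.all_eq_true.mp sextLit_check.2.2.1 L hL
  simp only [Bool.and_eq_true, Nat.beq_eq, List.all_eq_true, Nat.blt_eq] at h
  exact h

theorem toSet_tetrad {a b c : ℕ} (ha : a < 24) (hb : b < 24) (hc : c < 24) :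
    toSet (2 ^ 23 ||| 2 ^ a ||| 2 ^ b ||| 2 ^ c) = {none, pt a, pt b, pt c} := by
  ext p
  have key : ∀ {i : ℕ}, i < 24 → (i = idx p ↔ p = pt i) := fun hi =>
    ⟨fun h => by rw [h, Golay.pt_idx], fun h => by rw [h, Golay.idx_pt hi]⟩
  have h23 : pt 23 = none := rfl
  simp only [Golay.mem_toSet, Nat.testBit_or, Nat.testBit_two_pow, Bool.or_eq_true,
    decide_eq_true_eq, Finset.mem_insert, Finset.mem_singleton, key ha, key hb, key hc,
    key (by norm_num : 23 < 24), h23, or_assoc]

theorem mem_sextList {L : List ℕ} : L ∈ sextList ↔ ∃ a b c : ℕ, a < b ∧ b < c ∧ c < 23 ∧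
    L = (2 ^ 23 ||| 2 ^ a ||| 2 ^ b ||| 2 ^ c) ::
      ((((octInf.filter fun o => !(Nat.land o (2 ^ c)).beq 0).filter fun o =>
        !(Nat.land o (2 ^ b)).beq 0)).filter fun o => !(Nat.land o (2 ^ a)).beq 0).map
          fun o => o ^^^ (2 ^ 23 ||| 2 ^ a ||| 2 ^ b ||| 2 ^ c) := by
  simp only [sextList, List.mem_flatMap, List.mem_map, List.mem_range]
  constructor
  · rintro ⟨c, hc, b, hb, a, ha, rfl⟩
    exact ⟨a, b, c, ha, hb, hc, rfl⟩
  · rintro ⟨a, b, c, ha, hb, hc, rfl⟩
    exact ⟨c, hc, b, hb, a, ha, rfl⟩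

theorem mem_octThree {a b c o : ℕ} (ha : a < b) (hb : b < c) (hc : c < 23) :
    o ∈ (((octInf.filter fun o => !(Nat.land o (2 ^ c)).beq 0).filter fun o =>
      !(Nat.land o (2 ^ b)).beq 0)).filter (fun o => !(Nat.land o (2 ^ a)).beq 0) ↔
      o ∈ octL ∧ toSet (2 ^ 23 ||| 2 ^ a ||| 2 ^ b ||| 2 ^ c) ⊆ toSet o := by
  have e : ∀ {i : ℕ}, i < 23 → ((!(Nat.land o (2 ^ i)).beq 0) = true ↔ pt i ∈ toSet o) := by
    intro i hi
    have h : 2 ^ i = 2 ^ idx (pt i) := by rw [Golay.idx_pt (by omega)]
    rw [h, Bool.not_eq_true', ← Bool.not_eq_true, land_bit_beq_zero_iff, not_not]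
  rw [List.mem_filter, List.mem_filter, List.mem_filter, mem_octInf, e hc, e (hb.trans hc),
    e (ha.trans (hb.trans hc)), toSet_tetrad (by omega) (by omega) (by omega)]
  simp only [Finset.insert_subset_iff, Finset.singleton_subset_iff]
  tauto

theorem sextList_mem_sextets {L : List ℕ} (hL : L ∈ sextList) : toFam L ∈ sextets := by
  have hlen := (sextList_shape hL).1
  obtain ⟨a, b, c, ha, hb, hc, rfl⟩ := mem_sextList.mp hL
  set t := 2 ^ 23 ||| 2 ^ a ||| 2 ^ b ||| 2 ^ c with ht
  set O := (((octInf.filter fun o => !(Nat.land o (2 ^ c)).beq 0).filter fun o =>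
      !(Nat.land o (2 ^ b)).beq 0)).filter (fun o => !(Nat.land o (2 ^ a)).beq 0) with hO
  have hO' : ∀ o ∈ O, o ∈ octL ∧ toSet t ⊆ toSet o := fun o ho => (mem_octThree ha hb hc).mp ho
  have ht4 : (toSet t).card = 4 := by
    rw [ht, toSet_tetrad (by omega) (by omega) (by omega)]
    have ne : ∀ {i j : ℕ}, i < 24 → j < 24 → i ≠ j → pt i ≠ pt j := fun hi hj hij e =>
      hij (by rw [← Golay.idx_pt hi, e, Golay.idx_pt hj])
    have ne0 : ∀ {i : ℕ}, i < 23 → (none : GolayPt) ≠ pt i := fun hi =>
      ne (show 23 < 24 by norm_num) (by omega) (by omega)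
    rw [Finset.card_insert_of_notMem, Finset.card_insert_of_notMem,
      Finset.card_pair (ne (by omega) (by omega) (by omega))]
    · simp [ne (i := a) (j := b) (by omega) (by omega) (by omega),
        ne (i := a) (j := c) (by omega) (by omega) (by omega)]
    · simp [ne0 (i := a) (by omega), ne0 (i := b) (by omega), ne0 (i := c) hc]
  -- each other tetrad
  have hu : ∀ o ∈ O, toSet (o ^^^ t) = toSet o \ toSet t ∧ (toSet (o ^^^ t)).card = 4 := by
    intro o ho
    have e := toSet_sdiff (hO' o ho).2
    refine ⟨e, ?_⟩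
    rw [e, Finset.card_sdiff_of_subset (hO' o ho).2, Golay.card_toSet,
      (mem_octL.mp (hO' o ho).1).2, ht4]
  have hinter : ∀ o ∈ O, ∀ o' ∈ O, o ≠ o' → toSet o ∩ toSet o' = toSet t := by
    intro o ho o' ho' hne
    symm
    refine Finset.eq_of_subset_of_card_le (Finset.subset_inter (hO' o ho).2 (hO' o' ho').2) ?_
    by_contra hgt
    rw [ht4] at hgt
    exact hne (Golay.toSet_injOn (octL_lt (hO' o ho).1) (octL_lt (hO' o' ho').1)
      (Golay.octad_unique (octad_iff'.mpr ⟨o, (hO' o ho).1, rfl⟩)
        (octad_iff'.mpr ⟨o', (hO' o' ho').1, rfl⟩) (by omega : 5 ≤ (toSet o ∩ toSet o').card)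
        Finset.inter_subset_left Finset.inter_subset_right))
  have hOnd : O.Nodup := (((octL_check.2.2.1.filter _).filter _).filter _).filter _
  have hne_t : ∀ o ∈ O, toSet t ≠ toSet (o ^^^ t) := by
    intro o ho e
    have : toSet t = ∅ := by
      have h := (hu o ho).1
      rw [← e] at h
      rw [Finset.eq_empty_iff_forall_notMem]
      intro p hp
      have hp' := hp
      rw [h, Finset.mem_sdiff] at hp'
      exact hp'.2 hp
    rw [this] at ht4; simp at ht4
  have hnd : ((t :: O.map fun o => o ^^^ t).map toSet).Nodup := by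
    simp only [List.map_cons, List.map_map, List.nodup_cons]
    refine ⟨?_, hOnd.map_on ?_⟩
    · simp only [List.mem_map, Function.comp, not_exists, not_and]
      exact fun o ho e => hne_t o ho e.symm
    · intro o ho o' ho' e
      simp only [Function.comp] at e
      by_contra hne
      have hi := hinter o ho o' ho' hne
      rw [(hu o ho).1, (hu o' ho').1] at e
      have : toSet o = toSet t := by
        apply le_antisymm _ (hO' o ho).2
        intro p hp
        by_contra hpt
        have : p ∈ toSet o' := (Finset.mem_sdiff.mp (e ▸ Finset.mem_sdiff.mpr ⟨hp, hpt⟩)).1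
        exact hpt (hi ▸ Finset.mem_inter.mpr ⟨hp, this⟩)
      have h8 := (mem_octL.mp (hO' o ho).1).2
      rw [← Golay.card_toSet, this, ht4] at h8
      omega
  refine ⟨?_, ?_, ?_⟩
  · rw [toFam, List.toFinset_card_of_nodup hnd, List.length_map, hlen]
  · intro s hs
    obtain ⟨n, hn, rfl⟩ := mem_toFam.mp hs
    rcases List.mem_cons.mp hn with rfl | hn
    · exact ht4
    · obtain ⟨o, ho, rfl⟩ := List.mem_map.mp hn
      exact (hu o ho).2
  · intro s hs s' hs' hne
    obtain ⟨n, hn, rfl⟩ := mem_toFam.mp hs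
    obtain ⟨n', hn', rfl⟩ := mem_toFam.mp hs'
    have h1 : ∀ o ∈ O, toSet t ∪ toSet (o ^^^ t) ∈ octads := by
      intro o ho
      rw [(hu o ho).1, Finset.union_sdiff_of_subset (hO' o ho).2]
      exact octad_iff'.mpr ⟨o, (hO' o ho).1, rfl⟩
    rcases List.mem_cons.mp hn with rfl | hn <;> rcases List.mem_cons.mp hn' with rfl | hn'
    · exact absurd rfl hne
    · obtain ⟨o, ho, rfl⟩ := List.mem_map.mp hn'
      exact h1 o ho
    · obtain ⟨o, ho, rfl⟩ := List.mem_map.mp hn
      rw [Finset.union_comm]
      exact h1 o ho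
    · obtain ⟨o, ho, rfl⟩ := List.mem_map.mp hn
      obtain ⟨o', ho', rfl⟩ := List.mem_map.mp hn'
      have hne' : o ≠ o' := fun e => hne (by rw [e])
      have hi := hinter o ho o' ho' hne'
      obtain ⟨⟨u, hu1, hua⟩, hu8⟩ := octad_iff'.mpr ⟨o, (hO' o ho).1, rfl⟩
      obtain ⟨⟨v, hv1, hvb⟩, hv8⟩ := octad_iff'.mpr ⟨o', (hO' o' ho').1, rfl⟩
      have e : support₂ (u + v) = toSet (o ^^^ t) ∪ toSet (o' ^^^ t) := by
        rw [(hu o ho).1, (hu o' ho').1, ← hi, ← hua, ← hvb]
        ext p
        simp only [support₂, Finset.mem_filter, Finset.mem_univ, true_and, Pi.add_apply,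
          Finset.mem_union, Finset.mem_sdiff, Finset.mem_inter]
        generalize u p = x
        generalize v p = y
        revert x y
        decide
      have hs := Golay.support₂_add u v
      rw [e, hua, hvb, hi, ht4, hu8, hv8] at hs
      exact ⟨⟨u + v, golayCode.add_mem hu1 hv1, e⟩, by omega⟩

theorem exists_sextList {S : Finset (Finset GolayPt)} (hS : S ∈ sextets) :
    ∃ L ∈ sextList, toFam L = S := by
  obtain ⟨hS6, hS4, hSoct⟩ := hS
  have hdisj : ∀ a ∈ S, ∀ b ∈ S, a ≠ b → Disjoint a b := by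
    intro a ha b hb hne
    rw [← Finset.card_union_eq_card_add_card, hS4 a ha, hS4 b hb]
    exact (hSoct a ha b hb hne).2
  have hcover : S.biUnion id = Finset.univ := by
    apply Finset.eq_univ_of_card
    rw [show S.biUnion id = S.biUnion (fun a => a) from rfl,
      Finset.card_biUnion (fun a ha b hb hne => hdisj a ha b hb hne), Golay.card_golayPt,
      Finset.sum_congr rfl (fun a ha => hS4 a ha), Finset.sum_const, hS6]
    rfl
  have hnone : (none : GolayPt) ∈ S.biUnion id := by rw [hcover]; exact Finset.mem_univ _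
  obtain ⟨T, hT, hnT⟩ := Finset.mem_biUnion.mp hnone
  simp only [id] at hnT
  -- the tetrad on the extra point, by increasing indices
  obtain ⟨a, b, c, ha, hb, hc, hTeq⟩ : ∃ a b c : ℕ, a < b ∧ b < c ∧ c < 23 ∧
      toSet (2 ^ 23 ||| 2 ^ a ||| 2 ^ b ||| 2 ^ c) = T := by
    have h3 : (T.erase none).card = 3 := by rw [Finset.card_erase_of_mem hnT, hS4 T hT]
    obtain ⟨x, y, z, hxy, hxz, hyz, hxyz⟩ := Finset.card_eq_three.mp h3
    have lt23 : ∀ p ∈ T.erase none, idx p < 23 := by
      intro p hp
      have h := Golay.idx_lt p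
      have : idx p ≠ 23 := fun e =>
        (Finset.mem_erase.mp hp).1 (Golay.idx_injective (e.trans idx_none.symm))
      omega
    have key : ∀ u v w : GolayPt, idx u < idx v → idx v < idx w →
        ({u, v, w} : Finset GolayPt) = T.erase none → ∃ a b c : ℕ, a < b ∧ b < c ∧ c < 23 ∧
          toSet (2 ^ 23 ||| 2 ^ a ||| 2 ^ b ||| 2 ^ c) = T := by
      intro u v w h1 h2 h3
      have hw : idx w < 23 := lt23 w (by rw [← h3]; simp)
      refine ⟨idx u, idx v, idx w, h1, h2, hw, ?_⟩
      rw [toSet_tetrad (Golay.idx_lt _) (Golay.idx_lt _) (Golay.idx_lt _), Golay.pt_idx,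
        Golay.pt_idx, Golay.pt_idx, h3, Finset.insert_erase hnT]
    have nxy : idx x ≠ idx y := fun e => hxy (Golay.idx_injective e)
    have nxz : idx x ≠ idx z := fun e => hxz (Golay.idx_injective e)
    have nyz : idx y ≠ idx z := fun e => hyz (Golay.idx_injective e)
    rcases lt_or_gt_of_ne nxy with h1 | h1 <;> rcases lt_or_gt_of_ne nxz with h2 | h2 <;>
      rcases lt_or_gt_of_ne nyz with h3 | h3
    · exact key x y z h1 h3 hxyz.symm
    · exact key x z y h2 h3 (by rw [hxyz]; ext; simp; tauto)
    · omega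
    · exact key z x y h2 h1 (by rw [hxyz]; ext; simp; tauto)
    · exact key y x z h1 h2 (by rw [hxyz]; ext; simp; tauto)
    · omega
    · exact key y z x h3 h2 (by rw [hxyz]; ext; simp; tauto)
    · exact key z y x h3 h1 (by rw [hxyz]; ext; simp; tauto)
  have hmem := mem_sextList.mpr ⟨a, b, c, ha, hb, hc, rfl⟩
  refine ⟨_, hmem, (Finset.eq_of_subset_of_card_le ?_ ?_).symm⟩
  · intro u hu
    rw [mem_toFam]
    by_cases hut : u = T
    · exact ⟨_, List.mem_cons_self, hTeq.trans hut.symm⟩
    obtain ⟨o, ho, hou⟩ := octad_iff'.mp (hSoct _ hT u hu (Ne.symm hut))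
    have hsub : toSet (2 ^ 23 ||| 2 ^ a ||| 2 ^ b ||| 2 ^ c) ⊆ toSet o := by
      rw [hTeq, hou]; exact Finset.subset_union_left
    refine ⟨_, List.mem_cons_of_mem _ (List.mem_map.mpr
      ⟨o, (mem_octThree ha hb hc).mpr ⟨ho, hsub⟩, rfl⟩), ?_⟩
    rw [toSet_sdiff hsub, hTeq, hou, Finset.union_sdiff_left,
      Finset.sdiff_eq_self_of_disjoint (hdisj u hu _ hT hut)]
  · rw [hS6]
    exact (sextList_mem_sextets hmem).1.le

theorem sextList_length : sextList.length = 1771 := by rw [sextList_eq]; exact sextLit_check.1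

set_option maxRecDepth 40000 in
theorem sextList_nodup : sextList.Nodup := by
  rw [sextList_eq]
  exact decode_nodup (by decide +kernel) sextLit_check.2.2.2

theorem fam_sextP {k : ℕ} (hk : k < 1771) :
    fam 6 sextP k = toFam (sextList[k]'(sextList_length.symm ▸ hk)) := by
  rw [← sextLit_check.2.1, ← sextList_eq]
  exact fam_pack (fun l hl => (sextList_shape hl).1) (fun l hl => (sextList_shape hl).2) _

theorem sextet_iff {S : Finset (Finset GolayPt)} :
    S ∈ sextets ↔ ∃ k < 1771, fam 6 sextP k = S := by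
  constructor
  · intro hS
    obtain ⟨L, hL, rfl⟩ := exists_sextList hS
    obtain ⟨k, hk, rfl⟩ := List.getElem_of_mem hL
    exact ⟨k, sextList_length ▸ hk, fam_sextP (sextList_length ▸ hk)⟩
  · rintro ⟨k, hk, rfl⟩
    rw [fam_sextP hk]
    exact sextList_mem_sextets (List.getElem_mem _)

theorem sext_canonical {L L' : List ℕ} (hL : L ∈ sextList) (hL' : L' ∈ sextList)
    (h : toFam L = toFam L') : L = L' := by
  obtain ⟨-, h4, hoct⟩ := sextList_mem_sextets hL'
  obtain ⟨a, b, c, ha, hb, hc, rfl⟩ := mem_sextList.mp hL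
  obtain ⟨a', b', c', ha', hb', hc', rfl⟩ := mem_sextList.mp hL'
  have hdisj : ∀ {s s' : Finset GolayPt}, s ∈ toFam (((2 ^ 23 ||| 2 ^ a' ||| 2 ^ b' ||| 2 ^ c') ::
      ((((octInf.filter fun o => !(Nat.land o (2 ^ c')).beq 0).filter fun o =>
        !(Nat.land o (2 ^ b')).beq 0)).filter fun o => !(Nat.land o (2 ^ a')).beq 0).map
          fun o => o ^^^ (2 ^ 23 ||| 2 ^ a' ||| 2 ^ b' ||| 2 ^ c'))) →
      s' ∈ toFam (((2 ^ 23 ||| 2 ^ a' ||| 2 ^ b' ||| 2 ^ c') ::
      ((((octInf.filter fun o => !(Nat.land o (2 ^ c')).beq 0).filter fun o =>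
        !(Nat.land o (2 ^ b')).beq 0)).filter fun o => !(Nat.land o (2 ^ a')).beq 0).map
          fun o => o ^^^ (2 ^ 23 ||| 2 ^ a' ||| 2 ^ b' ||| 2 ^ c'))) →
      ∀ p, p ∈ s → p ∈ s' → s = s' := by
    intro s s' hs hs' p hp hp'
    by_contra hne
    have h8 := (hoct s hs s' hs' hne).2
    have := Finset.card_union_add_card_inter s s'
    rw [h8, h4 s hs, h4 s' hs'] at this
    have hpi : 0 < (s ∩ s').card := Finset.card_pos.mpr ⟨p, Finset.mem_inter.mpr ⟨hp, hp'⟩⟩
    omega
  have e : toSet (2 ^ 23 ||| 2 ^ a ||| 2 ^ b ||| 2 ^ c) =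
      toSet (2 ^ 23 ||| 2 ^ a' ||| 2 ^ b' ||| 2 ^ c') := by
    refine hdisj (h ▸ mem_toFam.mpr ⟨_, List.mem_cons_self, rfl⟩)
      (mem_toFam.mpr ⟨_, List.mem_cons_self, rfl⟩) none ?_ ?_ <;>
      · rw [toSet_tetrad (by omega) (by omega) (by omega)]
        exact Finset.mem_insert_self _ _
  have hlt : ∀ i j k : ℕ, i < j → j < k → k < 23 →
      2 ^ 23 ||| 2 ^ i ||| 2 ^ j ||| 2 ^ k < 2 ^ 24 := fun i j k h1 h2 h3 =>
    Nat.or_lt_two_pow (Nat.or_lt_two_pow (Nat.or_lt_two_pow (by norm_num)
      (Nat.pow_lt_pow_right (by norm_num) (by omega))) (Nat.pow_lt_pow_right (by norm_num) (by omega)))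
      (Nat.pow_lt_pow_right (by norm_num) (by omega))
  have et := Golay.toSet_injOn (hlt a b c ha hb hc) (hlt a' b' c' ha' hb' hc') e
  have hi : ∀ i, i = 23 ∨ i = a ∨ i = b ∨ i = c ↔ i = 23 ∨ i = a' ∨ i = b' ∨ i = c' := by
    intro i
    have := congrArg (fun n => n.testBit i) et
    simp only [Nat.testBit_or, Nat.testBit_two_pow] at this
    have := Bool.eq_iff_iff.mp this
    simp only [Bool.or_eq_true, decide_eq_true_eq, or_assoc] at this
    simpa [eq_comm] using this
  have h1 := hi a
  have h2 := hi b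
  have h3 := hi c
  have h4 := hi a'
  have h5 := hi b'
  have h6 := hi c'
  obtain ⟨rfl, rfl, rfl⟩ : a = a' ∧ b = b' ∧ c = c' := by
    simp only [true_or, or_true, iff_true, true_iff] at h1 h2 h3 h4 h5 h6
    omega
  rfl

theorem fam_sext_injective {j k : ℕ} (hj : j < 1771) (hk : k < 1771)
    (h : fam 6 sextP j = fam 6 sextP k) : j = k := by
  rw [fam_sextP hj, fam_sextP hk] at h
  exact sextList_nodup.getElem_inj_iff.mp
    (sext_canonical (List.getElem_mem _) (List.getElem_mem _) h)

theorem ncard_sextets : sextets.ncard = 1771 := by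
  have e : sextets =
      ((Finset.range 1771).image (fam 6 sextP) : Set (Finset (Finset GolayPt))) := by
    ext T; simp [sextet_iff]
  rw [e, Set.ncard_coe_finset, Finset.card_image_of_injOn, Finset.card_range]
  intro a ha b hb hab
  exact fam_sext_injective (by simpa using ha) (by simpa using hb) hab

end Cfsg.Agent.Sporadic96
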