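import Cfsg.Agent.Sporadic96.M24.Orbit
import Cfsg.Agent.SporStruct.M24Classes
import Cfsg.Agent.SporStruct.OctadStab
import Mathlib.Combinatorics.SimpleGraph.Metric

/-!
Two octads: distances in the disjointness graph, and their joint stabiliser in `Cfsg.M24`.

Main results: `octad_dist`, `card_joint_stabilizer`, `joint_stabilizer_equiv`.
-/

set_option autoImplicit false

namespace Cfsg.Agent.Sporadic96

open scoped Pointwise
open Cfsg.Agent.Golay (idx pt toSet popc Tab)
open Cfsg.Agent.SporStruct.M24 (inter_smul_card octad_inter_card octad_suborbit setStab pointFix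
  mem_setStab mem_pointFix)

/-- A fixed octad, and octads meeting it in four and in two points. -/
def pairBase : Finset GolayPt := toSet 5279
def pairFour : Finset GolayPt := toSet 10558
def pairTwo : Finset GolayPt := toSet 31554

set_option maxRecDepth 40000 in
theorem pair_facts :
    (pairBase ∈ octads ∧ pairFour ∈ octads ∧ pairTwo ∈ octads) ∧
      (pairBase ∩ pairFour).card = 4 ∧ (pairBase ∩ pairTwo).card = 2 := by
  have h : ∀ n ∈ [5279, 10558, 31554], Golay.inCode n = true ∧ popc n = 8 := by decide +kernel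
  refine ⟨⟨?_, ?_, ?_⟩, by decide +kernel, by decide +kernel⟩
  all_goals exact Golay.octad_mem_iff.2 ⟨_, (h _ (by simp)).1, (h _ (by simp)).2, rfl⟩

/-- Every pair with the same intersection number is a translate of a fixed pair. -/
theorem exists_pair_map {a b o o' : Finset GolayPt} (ha : a ∈ octads) (hb : b ∈ octads)
    (ho : o ∈ octads) (ho' : o' ∈ octads) (h : (o ∩ o').card = (a ∩ b).card) :
    ∃ g : ↥Cfsg.M24, g • a = o ∧ g • b = o' := by
  obtain ⟨c, hc, hco⟩ := Golay.octad_transitive ha ho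
  obtain ⟨k, hk, hk1, hk2⟩ := octad_suborbit (o := a) (o' := b) (o'' := c⁻¹ • o') ha hb
    (Golay.smul_mem_octads (Cfsg.M24.inv_mem hc) ho')
    (by rw [← inter_smul_card (g := c) (t := c⁻¹ • o'), hco, smul_inv_smul, h])
  refine ⟨⟨c * k, Cfsg.M24.mul_mem hc hk⟩, ?_, ?_⟩
  · show (c * k) • a = o
    rw [mul_smul, hk1, hco]
  · show (c * k) • b = o'
    rw [mul_smul, hk2, smul_inv_smul]

/-! ### The graph -/

theorem octad_adj {x y : ↥octads} :
    (blockGraph octads).Adj x y ↔ Disjoint (x : Finset GolayPt) (y : Finset GolayPt) := by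
  rw [blockGraph, SimpleGraph.fromRel_adj]
  refine ⟨fun h => h.2.elim id fun e => e.symm, fun h => ⟨?_, Or.inl h⟩⟩
  rintro rfl
  rw [disjoint_self] at h
  have := x.2.2
  rw [h] at this
  simp at this

set_option maxRecDepth 40000 in
theorem pair_witnesses :
    (Disjoint pairBase (toSet 8077824) ∧ Disjoint (toSet 8077824) pairFour) ∧
      (Disjoint pairBase (toSet 1009728) ∧ Disjoint (toSet 1009728) (toSet 5275709) ∧
        Disjoint (toSet 5275709) pairTwo) ∧
      ∀ n ∈ [8077824, 1009728, 5275709], Golay.inCode n = true ∧ popc n = 8 := by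
  decide +kernel

set_option maxRecDepth 40000 in
theorem pairTwo_no_common : (List.range 759).all (fun k =>
    !((Nat.land (lane octP k) 5279).beq 0 && (Nat.land (lane octP k) 31554).beq 0)) = true := by
  decide +kernel

theorem no_common_neighbour {o o' d : Finset GolayPt} (ho : o ∈ octads) (ho' : o' ∈ octads)
    (hd : d ∈ octads) (h : (o ∩ o').card = 2) : ¬ (Disjoint o d ∧ Disjoint d o') := by
  rintro ⟨h1, h2⟩
  obtain ⟨g, hg1, hg2⟩ := exists_pair_map pair_facts.1.1 pair_facts.1.2.2 ho ho'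
    (by rw [h, pair_facts.2.2])
  obtain ⟨k, hk, e⟩ := octad_iff.1 (Golay.smul_mem_octads (Cfsg.M24.inv_mem g.2) hd)
  have := List.all_eq_true.1 pairTwo_no_common k (List.mem_range.2 hk)
  simp only [Bool.not_eq_true', Bool.and_eq_false_iff] at this
  have e' : ((g : Equiv.Perm GolayPt)) • toSet (lane octP k) = d := by rw [e, smul_inv_smul]
  have key : ∀ {n : ℕ}, Disjoint ((g : Equiv.Perm GolayPt) • toSet n) d →
      (Nat.land (lane octP k) n).beq 0 = true := by
    intro n hn
    rw [land_beq_zero_iff (lane_lt _ _)]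
    rw [← e', Finset.disjoint_iff_inter_eq_empty, ← Finset.smul_finset_inter,
      Finset.smul_finset_eq_empty] at hn
    rw [Finset.disjoint_iff_inter_eq_empty, Finset.inter_comm]
    exact hn
  have k1 : (Nat.land (lane octP k) 5279).beq 0 = true :=
    key (hg1.symm ▸ h1 : Disjoint (g • pairBase) d)
  have k2 : (Nat.land (lane octP k) 31554).beq 0 = true :=
    key (hg2.symm ▸ h2.symm : Disjoint (g • pairTwo) d)
  rw [k1, k2] at this
  simp at this

theorem exists_walk {o o' : Finset GolayPt} (ho : o ∈ octads) (ho' : o' ∈ octads)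
    (hne : o ≠ o') :
    ((o ∩ o').card = 0 ∧ (blockGraph octads).dist ⟨o, ho⟩ ⟨o', ho'⟩ = 1) ∨
    ((o ∩ o').card = 4 ∧ (blockGraph octads).dist ⟨o, ho⟩ ⟨o', ho'⟩ = 2) ∨
    ((o ∩ o').card = 2 ∧ (blockGraph octads).dist ⟨o, ho⟩ ⟨o', ho'⟩ = 3) := by
  set x : ↥octads := ⟨o, ho⟩
  set y : ↥octads := ⟨o', ho'⟩
  have hxy : x ≠ y := fun e => hne (congrArg Subtype.val e)
  have hwit : ∀ (g : ↥Cfsg.M24) {n : ℕ}, n ∈ [8077824, 1009728, 5275709] →
      g • toSet n ∈ octads := fun g n hn =>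
    smul_octad g (Golay.octad_mem_iff.2
      ⟨n, (pair_witnesses.2.2 n hn).1, (pair_witnesses.2.2 n hn).2, rfl⟩)
  have hsm : ∀ (g : ↥Cfsg.M24) {s t : Finset GolayPt}, Disjoint s t → Disjoint (g • s) (g • t) := by
    intro g s t h
    rw [Finset.disjoint_iff_inter_eq_empty, ← Finset.smul_finset_inter]
    rw [Finset.disjoint_iff_inter_eq_empty] at h
    rw [h, Finset.smul_finset_empty]
  have hone : (blockGraph octads).dist x y = 1 → (o ∩ o').card = 0 := by
    intro h
    rw [SimpleGraph.dist_eq_one_iff_adj, octad_adj] at h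
    rw [Finset.disjoint_iff_inter_eq_empty.1 h, Finset.card_empty]
  rcases octad_inter_card ho ho' with h | h | h | h
  · refine Or.inl ⟨h, SimpleGraph.dist_eq_one_iff_adj.2 (octad_adj.2 ?_)⟩
    exact Finset.disjoint_iff_inter_eq_empty.2 (Finset.card_eq_zero.1 h)
  · refine Or.inr (Or.inr ⟨h, ?_⟩)
    obtain ⟨g, hg1, hg2⟩ := exists_pair_map pair_facts.1.1 pair_facts.1.2.2 ho ho'
      (by rw [h, pair_facts.2.2])
    let d₁ : ↥octads := ⟨g • toSet 1009728, hwit g (by simp)⟩
    let d₂ : ↥octads := ⟨g • toSet 5275709, hwit g (by simp)⟩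
    have w1 : (blockGraph octads).Adj x d₁ :=
      octad_adj.2 (show Disjoint o _ from hg1 ▸ hsm g pair_witnesses.2.1.1)
    have w2 : (blockGraph octads).Adj d₁ d₂ := octad_adj.2 (hsm g pair_witnesses.2.1.2.1)
    have w3 : (blockGraph octads).Adj d₂ y :=
      octad_adj.2 (show Disjoint _ o' from hg2 ▸ hsm g pair_witnesses.2.1.2.2)
    let p : (blockGraph octads).Walk x y := .cons w1 (.cons w2 (.cons w3 .nil))
    have hle : (blockGraph octads).dist x y ≤ 3 := SimpleGraph.dist_le p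
    have h0 : 0 < (blockGraph octads).dist x y := p.reachable.pos_dist_of_ne hxy
    have h1 : (blockGraph octads).dist x y ≠ 1 := fun e => by have := hone e; omega
    have h2 : (blockGraph octads).dist x y ≠ 2 := by
      intro e
      obtain ⟨q, hq⟩ := p.reachable.exists_walk_length_eq_dist
      rw [e] at hq
      have a1 := q.adj_getVert_succ (i := 0) (by omega)
      have a2 := q.adj_getVert_succ (i := 1) (by omega)
      rw [q.getVert_zero] at a1
      have e2 : q.getVert 2 = y := by rw [← hq]; exact q.getVert_length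
      rw [show (1 + 1 : ℕ) = 2 from rfl, e2] at a2
      exact no_common_neighbour ho ho' (q.getVert 1).2 h ⟨octad_adj.1 a1, octad_adj.1 a2⟩
    omega
  · refine Or.inr (Or.inl ⟨h, ?_⟩)
    obtain ⟨g, hg1, hg2⟩ := exists_pair_map pair_facts.1.1 pair_facts.1.2.1 ho ho'
      (by rw [h, pair_facts.2.1])
    let d : ↥octads := ⟨g • toSet 8077824, hwit g (by simp)⟩
    have w1 : (blockGraph octads).Adj x d :=
      octad_adj.2 (show Disjoint o _ from hg1 ▸ hsm g pair_witnesses.1.1)
    have w2 : (blockGraph octads).Adj d y :=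
      octad_adj.2 (show Disjoint _ o' from hg2 ▸ hsm g pair_witnesses.1.2)
    let p : (blockGraph octads).Walk x y := .cons w1 (.cons w2 .nil)
    have hle : (blockGraph octads).dist x y ≤ 2 := SimpleGraph.dist_le p
    have h0 : 0 < (blockGraph octads).dist x y := p.reachable.pos_dist_of_ne hxy
    have h1 : (blockGraph octads).dist x y ≠ 1 := fun e => by have := hone e; omega
    omega
  · exact absurd h.symm hne

theorem octad_dist {o o' : Finset GolayPt} (ho : o ∈ octads) (ho' : o' ∈ octads) (hne : o ≠ o') :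
    (blockGraph octads).Connected ∧
      ((blockGraph octads).dist ⟨o, ho⟩ ⟨o', ho'⟩ = 1 ↔ (o ∩ o').card = 0) ∧
      ((blockGraph octads).dist ⟨o, ho⟩ ⟨o', ho'⟩ = 2 ↔ (o ∩ o').card = 4) ∧
      ((blockGraph octads).dist ⟨o, ho⟩ ⟨o', ho'⟩ = 3 ↔ (o ∩ o').card = 2) := by
  refine ⟨?_, ?_⟩
  · haveI : Nonempty ↥octads := ⟨⟨o, ho⟩⟩
    refine ⟨fun x y => ?_⟩
    by_cases e : x = y
    · exact e ▸ SimpleGraph.Reachable.refl x
    · refine SimpleGraph.Reachable.of_dist_ne_zero ?_
      rcases exists_walk x.2 y.2 (fun h => e (Subtype.ext h)) with h | h | h <;> rw [h.2] <;> simp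
  · rcases exists_walk ho ho' hne with ⟨h, e⟩ | ⟨h, e⟩ | ⟨h, e⟩ <;> rw [h, e] <;> simp

/-! ### Joint stabilisers -/

theorem coe_smul_finset (g : ↥Cfsg.M24) (o : Finset GolayPt) :
    g • o = (g : Equiv.Perm GolayPt) • o := rfl

/-- The stabiliser inside the subgroup `M24` is the setwise stabiliser. -/
def stabilizerEquiv (o : Finset GolayPt) :
    ↥(MulAction.stabilizer ↥Cfsg.M24 o) ≃ ↥(setStab o) where
  toFun g := ⟨g.1.1, mem_setStab.2 ⟨g.1.2, g.2⟩⟩
  invFun g := ⟨⟨g.1, (mem_setStab.1 g.2).1⟩, (mem_setStab.1 g.2).2⟩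
  left_inv _ := rfl
  right_inv _ := rfl

theorem card_stabilizer_octad {o : Finset GolayPt} (ho : o ∈ octads) :
    Nat.card ↥(MulAction.stabilizer ↥Cfsg.M24 o) = 322560 := by
  rw [Nat.card_congr (stabilizerEquiv o), SporStruct.M24.card_setStab ho]

theorem card_mul_joint {o o' : Finset GolayPt} (ho : o ∈ octads) (ho' : o' ∈ octads) :
    {s : Finset GolayPt | s ∈ octads ∧ (o ∩ s).card = (o ∩ o').card}.ncard *
      Nat.card ↥(MulAction.stabilizer ↥Cfsg.M24 o ⊓ MulAction.stabilizer ↥Cfsg.M24 o') =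
      322560 := by
  set H := MulAction.stabilizer ↥Cfsg.M24 o
  have horb : MulAction.orbit ↥H o' =
      {s : Finset GolayPt | s ∈ octads ∧ (o ∩ s).card = (o ∩ o').card} := by
    ext s
    constructor
    · rintro ⟨g, rfl⟩
      refine ⟨smul_octad (g : ↥Cfsg.M24) ho', ?_⟩
      show (o ∩ ((g : ↥Cfsg.M24) • o')).card = _
      conv_lhs => rw [← MulAction.mem_stabilizer_iff.1 g.2]
      rw [coe_smul_finset, coe_smul_finset, inter_smul_card]
    · rintro ⟨hs, he⟩
      obtain ⟨g, hg, h1, h2⟩ := octad_suborbit ho ho' hs he.symm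
      exact ⟨⟨⟨g, hg⟩, h1⟩, h2⟩
  have h := Subgroup.card_mul_index (MulAction.stabilizer ↥H o')
  rw [MulAction.index_stabilizer, horb, card_stabilizer_octad ho] at h
  have e : Nat.card ↥(MulAction.stabilizer ↥H o') =
      Nat.card ↥(H ⊓ MulAction.stabilizer ↥Cfsg.M24 o') :=
    Nat.card_congr
      { toFun := fun g => ⟨g.1.1, g.1.2, g.2⟩
        invFun := fun g => ⟨⟨g.1, g.2.1⟩, g.2.2⟩
        left_inv := fun _ => rfl
        right_inv := fun _ => rfl }
  rw [← h, e, Nat.mul_comm]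

theorem ncard_octad_class {o : Finset GolayPt} (ho : o ∈ octads) :
    {s : Finset GolayPt | s ∈ octads ∧ (o ∩ s).card = 0}.ncard = 30 ∧
      {s : Finset GolayPt | s ∈ octads ∧ (o ∩ s).card = 2}.ncard = 448 ∧
      {s : Finset GolayPt | s ∈ octads ∧ (o ∩ s).card = 4}.ncard = 280 := by
  obtain ⟨c, hc, rfl⟩ := SporStruct.M24.exists_base_octad ho
  obtain ⟨h0, h2, h4, -⟩ := SporStruct.M24.classCount_values
  exact ⟨(SporStruct.M24.ncard_class_smul hc _ 8 0).trans h0,
    (SporStruct.M24.ncard_class_smul hc _ 8 2).trans h2,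
    (SporStruct.M24.ncard_class_smul hc _ 8 4).trans h4⟩

theorem card_joint_stabilizer {o o' : Finset GolayPt} (ho : o ∈ octads) (ho' : o' ∈ octads) :
    ((o ∩ o').card = 0 →
      Nat.card ↥(MulAction.stabilizer ↥Cfsg.M24 o ⊓ MulAction.stabilizer ↥Cfsg.M24 o') = 10752) ∧
    ((o ∩ o').card = 4 →
      Nat.card ↥(MulAction.stabilizer ↥Cfsg.M24 o ⊓ MulAction.stabilizer ↥Cfsg.M24 o') = 1152) ∧
    ((o ∩ o').card = 2 →
      Nat.card ↥(MulAction.stabilizer ↥Cfsg.M24 o ⊓ MulAction.stabilizer ↥Cfsg.M24 o') = 720) := by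
  have h := card_mul_joint ho ho'
  obtain ⟨h0, h2, h4⟩ := ncard_octad_class ho
  refine ⟨fun e => ?_, fun e => ?_, fun e => ?_⟩ <;> rw [e] at h
  · rw [h0] at h; omega
  · rw [h4] at h; omega
  · rw [h2] at h; omega

/-! ### Two octads meeting in two points -/

/-- The elements fixing the base octad pointwise that keep a point of the second octad in it. -/
def pairFixTabs : List (List ℕ) := [
  [0, 1, 2, 3, 4, 23, 11, 7, 15, 22, 10, 6, 12, 18, 17, 8, 19, 14, 13, 16, 21, 20, 9, 5],
  [0, 1, 2, 3, 4, 15, 13, 7, 23, 21, 10, 18, 12, 6, 16, 5, 14, 19, 11, 17, 22, 9, 20, 8],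
  [0, 1, 2, 3, 4, 18, 8, 7, 6, 19, 10, 15, 12, 23, 20, 11, 22, 21, 5, 9, 14, 17, 16, 13],
  [0, 1, 2, 3, 4, 14, 9, 7, 19, 6, 10, 22, 12, 21, 5, 16, 15, 23, 20, 8, 18, 13, 11, 17],
  [0, 1, 2, 3, 4, 9, 14, 7, 20, 5, 10, 17, 12, 16, 6, 21, 13, 11, 19, 18, 8, 15, 23, 22]]

set_option maxRecDepth 40000 in
theorem pairFixTabs_ok : (∀ l ∈ pairFixTabs, Golay.checkAut l = true ∧ Golay.isPermTab l = true ∧
      (List.range 24).all (fun i => !(Nat.testBit 5279 i) || (l.getD i 0).beq i) = true ∧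
      Golay.maps l 31554 (Golay.imgN l 31554) = true ∧
      (Golay.imgN l 31554).beq 31554 = false ∧ Golay.imgN l 31554 < 2 ^ 24) ∧
    (Nat.testBit 31554 6 && !(Nat.testBit 5279 6)) = true ∧
    (List.range 24).all (fun i => !(Nat.testBit 31554 i) || Nat.testBit 5279 i || i.beq 6 ||
      pairFixTabs.any (fun l => (l.getD 6 0).beq i)) = true := by
  decide +kernel

/-- Nothing but the identity fixes the first octad pointwise and the second setwise. -/
theorem pairFix_trivial {k : Equiv.Perm GolayPt} (hk : k ∈ pointFix pairBase)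
    (h : k • pairTwo = pairTwo) : k = 1 := by
  obtain ⟨htabs, h6, hcover⟩ := pairFixTabs_ok
  simp only [Bool.and_eq_true, Bool.not_eq_true'] at h6
  have hp0 : pt 6 ∈ pairTwo ∧ pt 6 ∉ pairBase := by
    simp only [pairTwo, pairBase, Golay.mem_toSet, Golay.idx_pt (by norm_num : 6 < 24), h6.1, h6.2]
    simp
  by_cases hfix : k (pt 6) = pt 6
  · exact SporStruct.M24.eq_one_of_fix pair_facts.1.1 hk hp0.2 hfix
  have hmem : k (pt 6) ∈ pairTwo := h ▸ SporStruct.M24.apply_mem_smul.2 hp0.1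
  have hnot : k (pt 6) ∉ pairBase := by
    rw [← (mem_setStab.1 (SporStruct.M24.pointFix_le_setStab hk)).2,
      SporStruct.M24.apply_mem_smul]
    exact hp0.2
  have hc := List.all_eq_true.1 hcover (idx (k (pt 6))) (List.mem_range.2 (Golay.idx_lt _))
  simp only [pairTwo, pairBase, Golay.mem_toSet] at hmem hnot
  simp only [hmem, Bool.not_true, Bool.false_or, Bool.or_eq_true, List.any_eq_true,
    Nat.beq_eq] at hc
  rcases hc with (hc | hc) | ⟨l, hl, hli⟩
  · exact absurd hc hnot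
  · exact absurd (by rw [← Golay.pt_idx (k (pt 6)), hc]) hfix
  obtain ⟨hcA, hcP, hcF, hcM, hcI, hcL⟩ := htabs l hl
  have ht := Golay.tab_permOf hcP
  have hlen : l.length = 24 := by
    have : ∀ l ∈ pairFixTabs, l.length = 24 := by decide
    exact this l hl
  set t := Golay.permOf l hcP
  have htfix : t ∈ pointFix pairBase := by
    refine mem_pointFix.2 ⟨ht.mem_M24 hcA, fun x hx => ?_⟩
    have h' := List.all_eq_true.1 hcF (idx x) (List.mem_range.2 (Golay.idx_lt x))
    simp only [pairBase, Golay.mem_toSet] at hx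
    simp only [hx, Bool.not_true, Bool.false_or, Nat.beq_eq] at h'
    rw [ht.apply, h', Golay.pt_idx]
  have htp : t (pt 6) = k (pt 6) := by
    rw [ht.apply, Golay.idx_pt (by norm_num), hli, Golay.pt_idx]
  have hkt : k = t := by
    have := SporStruct.M24.eq_one_of_fix pair_facts.1.1
      ((pointFix pairBase).mul_mem ((pointFix pairBase).inv_mem htfix) hk) hp0.2
      (by rw [Equiv.Perm.mul_apply, ← htp, Equiv.Perm.coe_inv, Equiv.symm_apply_apply])
    rwa [inv_mul_eq_one, eq_comm] at this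
  subst hkt
  rw [pairTwo, ht.smul_toSet hcM] at h
  have := Golay.toSet_injOn hcL (by norm_num) h
  rw [this] at hcI
  simp at hcI

theorem joint_stabilizer_equiv {o o' : Finset GolayPt} (ho : o ∈ octads) (ho' : o' ∈ octads)
    (h₂ : (o ∩ o').card = 2) :
    Nonempty (↥(MulAction.stabilizer ↥Cfsg.M24 o ⊓ MulAction.stabilizer ↥Cfsg.M24 o') ≃*
      Equiv.Perm (Fin 6)) := by
  set H := MulAction.stabilizer ↥Cfsg.M24 o ⊓ MulAction.stabilizer ↥Cfsg.M24 o'
  have hmaps : ∀ (g : ↥H) (x : GolayPt),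
      (x ∈ o \ o' ↔ ((g : ↥Cfsg.M24) : Equiv.Perm GolayPt) x ∈ o \ o') := by
    intro g x
    have e1 : ((g : ↥Cfsg.M24) : Equiv.Perm GolayPt) • o = o := g.2.1
    have e2 : ((g : ↥Cfsg.M24) : Equiv.Perm GolayPt) • o' = o' := g.2.2
    rw [Finset.mem_sdiff, Finset.mem_sdiff]
    conv_rhs => rw [← e1, ← e2, SporStruct.M24.apply_mem_smul, SporStruct.M24.apply_mem_smul]
  let f : ↥H →* Equiv.Perm ↥(o \ o') :=
    MonoidHom.mk' (fun g => ((g : ↥Cfsg.M24) : Equiv.Perm GolayPt).subtypePerm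
      fun x => (hmaps g x).symm) fun a b => by ext x; rfl
  have hf : Function.Injective f := by
    rw [← MonoidHom.ker_eq_bot_iff, eq_bot_iff]
    intro g hg
    rw [MonoidHom.mem_ker] at hg
    set k : Equiv.Perm GolayPt := ((g : ↥Cfsg.M24) : Equiv.Perm GolayPt) with hkdef
    have hk6 : ∀ x ∈ o \ o', k x = x := fun x hx =>
      congrArg Subtype.val (Equiv.Perm.ext_iff.1 hg ⟨x, hx⟩)
    have hset : k ∈ setStab o := mem_setStab.2 ⟨(g : ↥Cfsg.M24).2, g.2.1⟩
    have hk : k ∈ pointFix o := by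
      refine mem_pointFix.2 ⟨(g : ↥Cfsg.M24).2, ?_⟩
      by_contra hne
      push Not at hne
      obtain ⟨x, hx, hxne⟩ := hne
      have heven : Equiv.Perm.sign (SporStruct.M24.octadHom o ⟨k, hset⟩) = 1 := by
        have : SporStruct.M24.octadHom o ⟨k, hset⟩ ∈ (SporStruct.M24.octadHom o).range := ⟨_, rfl⟩
        rw [SporStruct.M24.range_octadHom ho] at this
        exact this
      have hswap : (SporStruct.M24.octadHom o ⟨k, hset⟩).IsSwap := by
        rw [← Equiv.Perm.card_support_eq_two]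
        refine le_antisymm ?_ (Equiv.Perm.two_le_card_support_of_ne_one fun e => hxne ?_)
        · rw [← h₂]
          refine (Finset.card_map (Function.Embedding.subtype _)).symm.trans_le
            (Finset.card_le_card fun y hy => ?_)
          obtain ⟨z, hz, rfl⟩ := Finset.mem_map.1 hy
          refine Finset.mem_inter.2 ⟨z.2, ?_⟩
          by_contra hzo
          exact Equiv.Perm.mem_support.1 hz
            (Subtype.ext (hk6 z (Finset.mem_sdiff.2 ⟨z.2, hzo⟩)))
        · exact congrArg Subtype.val (Equiv.Perm.ext_iff.1 e ⟨x, hx⟩)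
      rw [hswap.sign_eq] at heven
      exact absurd heven (by decide)
    obtain ⟨c, hc1, hc2⟩ := exists_pair_map pair_facts.1.1 pair_facts.1.2.2 ho ho'
      (by rw [h₂, pair_facts.2.2])
    have hkc : (c : Equiv.Perm GolayPt)⁻¹ * k * c ∈ pointFix pairBase := by
      refine mem_pointFix.2 ⟨Cfsg.M24.mul_mem (Cfsg.M24.mul_mem (Cfsg.M24.inv_mem c.2)
        (g : ↥Cfsg.M24).2) c.2, fun x hx => ?_⟩
      have hcx : (c : Equiv.Perm GolayPt) x ∈ o :=
        hc1 ▸ SporStruct.M24.apply_mem_smul.2 hx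
      rw [Equiv.Perm.mul_apply, Equiv.Perm.mul_apply, (mem_pointFix.1 hk).2 _ hcx]
      simp
    have := pairFix_trivial hkc (by
      rw [mul_smul, mul_smul]
      show (c : Equiv.Perm GolayPt)⁻¹ • k • (c • pairTwo) = pairTwo
      rw [hc2, show k • o' = o' from g.2.2, ← hc2]
      exact inv_smul_smul _ _)
    rw [mul_eq_one_iff_eq_inv, inv_mul_eq_iff_eq_mul, mul_inv_cancel] at this
    exact Subgroup.mem_bot.2 (Subtype.ext (Subtype.ext this))
  have h6 : Fintype.card ↥(o \ o') = 6 := by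
    rw [Fintype.card_coe, Finset.card_sdiff, Finset.inter_comm, h₂, Golay.card_of_mem_octads ho]
  have hcard : Nat.card ↥H = Nat.card (Equiv.Perm ↥(o \ o')) := by
    rw [(card_joint_stabilizer ho ho').2.2 h₂, Nat.card_eq_fintype_card, Fintype.card_perm, h6]
    rfl
  exact ⟨(MulEquiv.ofBijective f
    ((Nat.bijective_iff_injective_and_card f).2 ⟨hf, hcard⟩)).trans
      (Fintype.equivFinOfCardEq h6).permCongrHom⟩

end Cfsg.Agent.Sporadic96
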