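import Cfsg.Agent.Sporadic96.M24.RigidData
import Cfsg.Agent.Sporadic96.M24.OctadPair

/-!
A linear map of the code that keeps `Cfsg.M24`-orbits modulo the all-ones word agrees, modulo
that word, with an element of `Cfsg.M24`.

Main result: `code_rigid`.
-/

set_option autoImplicit false

namespace Cfsg.Agent.Sporadic96

open scoped Pointwise
open Cfsg.Agent.Golay (idx pt toSet toWord popc inCode Tab maps imgN isPermTab checkAut)

/-- Equal up to adding the all-ones word. -/
def EqvOne (u v : GolayPt → ZMod 2) : Prop := u = v ∨ u = v + 1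

theorem one_add_one_word : (1 : GolayPt → ZMod 2) + 1 = 0 := by
  funext p
  show (1 : ZMod 2) + 1 = 0
  decide

theorem EqvOne.add {u v u' v' : GolayPt → ZMod 2} (h : EqvOne u v) (h' : EqvOne u' v') :
    EqvOne (u + u') (v + v') := by
  rcases h with rfl | rfl <;> rcases h' with rfl | rfl
  · exact Or.inl rfl
  · exact Or.inr (by abel)
  · exact Or.inr (by abel)
  · refine Or.inl ?_
    rw [add_add_add_comm, one_add_one_word, add_zero]

theorem EqvOne.symm {u v : GolayPt → ZMod 2} (h : EqvOne u v) : EqvOne v u := by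
  rcases h with rfl | rfl
  · exact Or.inl rfl
  · exact Or.inr (by rw [add_assoc, one_add_one_word, add_zero])

theorem EqvOne.trans {u v w : GolayPt → ZMod 2} (h : EqvOne u v) (h' : EqvOne v w) :
    EqvOne u w := by
  rcases h with rfl | rfl <;> rcases h' with rfl | rfl
  · exact Or.inl rfl
  · exact Or.inr rfl
  · exact Or.inr rfl
  · exact Or.inl (by rw [add_assoc, one_add_one_word, add_zero])

theorem support₂_add_one (v : GolayPt → ZMod 2) :
    support₂ (v + 1) = (support₂ v)ᶜ := by
  have key : ∀ a : ZMod 2, a + 1 ≠ 0 ↔ ¬ a ≠ 0 := by decide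
  ext p
  simp only [support₂, Finset.mem_filter, Finset.mem_univ, true_and, Finset.mem_compl,
    Pi.add_apply, Pi.one_apply]
  exact key (v p)

theorem EqvOne.card_twelve {u v : GolayPt → ZMod 2} (h : EqvOne u v) :
    (support₂ u).card = 12 ↔ (support₂ v).card = 12 := by
  rcases h with rfl | rfl
  · exact Iff.rfl
  · rw [support₂_add_one, Finset.card_compl, Golay.card_golayPt]
    have := Finset.card_le_univ (support₂ v)
    rw [Golay.card_golayPt] at this
    omega

theorem toWord_mem {n : ℕ} (h : inCode n = true) : toWord n ∈ golayCode := by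
  rw [← beq_iff_eq.1 h]
  exact Golay.toWord_combAux_mem _ _ _ Golay.basisN_mem

theorem card_support_toWord (n : ℕ) : (support₂ (toWord n)).card = popc n := by
  rw [Golay.support₂_toWord, Golay.card_toSet]

theorem toWord_eq_of_octL {a b : ℕ} (ha : a ∈ octL) (hb : b ∈ octL)
    (h : EqvOne (toWord a) (toWord b)) : a = b := by
  rcases h with h | h
  · refine Golay.toSet_injOn (octL_lt ha) (octL_lt hb) ?_
    rw [← Golay.support₂_toWord, h, Golay.support₂_toWord]
  · have e := congrArg (fun w => (support₂ w).card) h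
    simp only [support₂_add_one, Finset.card_compl, Golay.card_golayPt, card_support_toWord,
      (mem_octL.1 ha).2, (mem_octL.1 hb).2] at e
    omega

/-- Cardinality of the common part from that of the sum. -/
theorem popc_xor_eq (a b : ℕ) :
    popc (a ^^^ b) + 2 * (toSet a ∩ toSet b).card = popc a + popc b := by
  rw [← Golay.card_toSet, ← Golay.card_toSet, ← Golay.card_toSet]
  have e : toSet (a ^^^ b) = (toSet a ∪ toSet b) \ (toSet a ∩ toSet b) := by
    ext p
    simp only [Golay.mem_toSet, Finset.mem_sdiff, Finset.mem_union, Finset.mem_inter,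
      Nat.testBit_xor]
    cases a.testBit (idx p) <;> cases b.testBit (idx p) <;> simp
  have h1 := Finset.card_union_add_card_inter (toSet a) (toSet b)
  have h2 : (toSet a ∩ toSet b) ⊆ toSet a ∪ toSet b :=
    Finset.inter_subset_left.trans Finset.subset_union_left
  rw [e, Finset.card_sdiff_of_subset h2]
  have := Finset.card_le_card h2
  omega

theorem inter_two_iff {a b : ℕ} (ha : a ∈ octL) (hb : b ∈ octL) :
    (toSet a ∩ toSet b).card = 2 ↔ popc (a ^^^ b) = 12 := by
  have := popc_xor_eq a b
  rw [(mem_octL.1 ha).2, (mem_octL.1 hb).2] at this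
  omega

/-- Octads meeting neither of two octads in two points. -/
def sideSet (a b : Finset GolayPt) : Set (Finset GolayPt) :=
  {w | w ∈ octads ∧ (w ∩ a).card ≠ 2 ∧ (w ∩ b).card ≠ 2}

theorem ncard_sideSet_smul (g : ↥Cfsg.M24) (a b : Finset GolayPt) :
    (sideSet (g • a) (g • b)).ncard = (sideSet a b).ncard := by
  rw [← Set.ncard_smul_set g (sideSet a b)]
  congr 1
  ext w
  rw [Set.mem_smul_set_iff_inv_smul_mem]
  have key : ∀ c : Finset GolayPt, (g⁻¹ • w ∩ c).card = (w ∩ g • c).card := fun c => by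
    rw [← Finset.card_smul_finset g (g⁻¹ • w ∩ c), Finset.smul_finset_inter, smul_inv_smul]
  simp only [sideSet, Set.mem_ofPred_eq, key]
  refine and_congr_left fun _ => ⟨fun h => smul_octad g⁻¹ h, fun h => ?_⟩
  simpa using smul_octad g h

/-- The count at mask level. -/
def sideCount (a b : ℕ) : ℕ :=
  (octL.filter fun w => !((popc (w ^^^ a)).beq 12) && !((popc (w ^^^ b)).beq 12)).length

theorem ncard_sideSet {a b : ℕ} (ha : a ∈ octL) (hb : b ∈ octL) :
    (sideSet (toSet a) (toSet b)).ncard = sideCount a b := by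
  set L := octL.filter fun w => !((popc (w ^^^ a)).beq 12) && !((popc (w ^^^ b)).beq 12) with hL
  have hmem : ∀ w ∈ octL, ((toSet w ∩ toSet a).card ≠ 2 ∧ (toSet w ∩ toSet b).card ≠ 2) ↔
      w ∈ L := by
    intro w hw
    simp only [hL, List.mem_filter, hw, true_and, Bool.and_eq_true, Bool.not_eq_true',
      ← Bool.not_eq_true, Nat.beq_eq, ne_eq, inter_two_iff hw ha, inter_two_iff hw hb]
  have e : sideSet (toSet a) (toSet b) = ((L.toFinset.image toSet : Finset _) : Set _) := by
    ext s
    simp only [sideSet, Set.mem_ofPred_eq, Finset.coe_image, Set.mem_image, Finset.mem_coe,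
      List.mem_toFinset, octad_iff']
    constructor
    · rintro ⟨⟨w, hw, rfl⟩, h⟩
      exact ⟨w, (hmem w hw).1 h, rfl⟩
    · rintro ⟨w, hw, rfl⟩
      have hw' := List.mem_of_mem_filter hw
      exact ⟨⟨w, hw', rfl⟩, (hmem w hw').2 hw⟩
  rw [e, Set.ncard_coe_finset, Finset.card_image_of_injOn,
    List.toFinset_card_of_nodup (octL_check.2.2.1.filter _)]
  · rfl
  intro x hx y hy hxy
  simp only [Finset.mem_coe, List.mem_toFinset] at hx hy
  exact Golay.toSet_injOn (octL_lt (List.mem_of_mem_filter hx))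
    (octL_lt (List.mem_of_mem_filter hy)) hxy

set_option maxRecDepth 40000 in
theorem sideCount_values : sideCount 5279 8077824 = 87 ∧ sideCount 5279 10558 = 151 ∧
    ((5279 &&& 8077824).beq 0 && inCode 8077824 && (popc 8077824).beq 8) = true := by
  decide +kernel

theorem sideCount_class {a b : ℕ} (ha : a ∈ octL) (hb : b ∈ octL) :
    ((toSet a ∩ toSet b).card = 0 → sideCount a b = 87) ∧
      ((toSet a ∩ toSet b).card = 4 → sideCount a b = 151) := by
  have hbase : (5279 : ℕ) ∈ octL ∧ (10558 : ℕ) ∈ octL ∧ (8077824 : ℕ) ∈ octL := by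
    simp only [mem_octL]
    decide +kernel
  refine ⟨fun h => ?_, fun h => ?_⟩
  · have hd : (pairBase ∩ toSet 8077824).card = 0 := by decide +kernel
    obtain ⟨g, h1, h2⟩ := exists_pair_map pair_facts.1.1 (octad_iff'.2 ⟨_, hbase.2.2, rfl⟩)
      (octad_iff'.2 ⟨a, ha, rfl⟩) (octad_iff'.2 ⟨b, hb, rfl⟩) (by rw [h, hd])
    rw [← ncard_sideSet ha hb, ← h1, ← h2, ncard_sideSet_smul, pairBase,
      ncard_sideSet hbase.1 hbase.2.2, sideCount_values.1]
  · obtain ⟨g, h1, h2⟩ := exists_pair_map pair_facts.1.1 pair_facts.1.2.1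
      (octad_iff'.2 ⟨a, ha, rfl⟩) (octad_iff'.2 ⟨b, hb, rfl⟩) (by rw [h, pair_facts.2.1])
    rw [← ncard_sideSet ha hb, ← h1, ← h2, ncard_sideSet_smul, pairBase, pairFour,
      ncard_sideSet hbase.1 hbase.2.1, sideCount_values.2.1]

/-- Same profile against the earlier octads. -/
def sameProfile (pre : List ℕ) (b c : ℕ) : Bool :=
  pre.all (fun a => (popc (c &&& a)).beq (popc (b &&& a))) &&
    pre.all fun a => pre.all fun a' =>
      (popc (c ^^^ a ^^^ a')).beq 12 == (popc (b ^^^ a ^^^ a')).beq 12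

set_option maxRecDepth 40000 in
theorem rig_facts :
    ((List.range 11).all fun j =>
      inCode (rigSeq.getD j 0) && (popc (rigSeq.getD j 0)).beq 8) = true ∧
    ((List.range 9).all fun i => (rigTabs.getD (i + 2) []).all fun l =>
      isPermTab l && checkAut l &&
        maps l (rigSeq.getD (i + 2) 0) (imgN l (rigSeq.getD (i + 2) 0)) &&
        (List.range (i + 2)).all fun j => maps l (rigSeq.getD j 0) (rigSeq.getD j 0)) = true ∧
    (rigSeq.take 2 = [5279, 31554] ∧ rigSeq.length = 11) ∧
    ((List.range 12).all fun i =>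
      (Golay.combAux (rigSeq ++ [16777215]) (rigCombs.getD i 0)).beq
        (Golay.basisN.getD i 0)) = true := by
  decide +kernel

set_option maxRecDepth 40000 in
theorem rig_complete : ((List.range 9).all fun i => octL.all fun c =>
    bif sameProfile (rigSeq.take (i + 2)) (rigSeq.getD (i + 2) 0) c then
      (rigTabs.getD (i + 2) []).any fun l => (imgN l (rigSeq.getD (i + 2) 0)).beq c
    else true) = true := by
  decide +kernel

theorem smul_toSet_xor {σ : Equiv.Perm GolayPt} {a a' b b' : ℕ} (h : σ • toSet a = toSet a')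
    (h' : σ • toSet b = toSet b') : σ • toSet (a ^^^ b) = toSet (a' ^^^ b') := by
  ext p
  have e1 := Finset.ext_iff.1 h p
  have e2 := Finset.ext_iff.1 h' p
  rw [← Finset.inv_smul_mem_iff, Golay.mem_toSet, Golay.mem_toSet, ← Bool.eq_iff_iff] at e1 e2
  rw [← Finset.inv_smul_mem_iff, Golay.mem_toSet, Golay.mem_toSet, ← Bool.eq_iff_iff,
    Nat.testBit_xor, Nat.testBit_xor, e1, e2]

theorem code_rigid (x : ↥golayCode ≃ₗ[ZMod 2] ↥golayCode)
    (h1 : ∀ e : ↥golayCode, (e : GolayPt → ZMod 2) = (fun _ => (1 : ZMod 2)) → x e = e)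
    (horb : ∀ c : ↥golayCode, ∃ σ ∈ Cfsg.M24,
      EqvOne ((x c : ↥golayCode) : GolayPt → ZMod 2)
        (fun p => (c : GolayPt → ZMod 2) (σ.symm p))) :
    ∃ σ ∈ Cfsg.M24, ∀ c : ↥golayCode,
      EqvOne ((x c : ↥golayCode) : GolayPt → ZMod 2)
        (fun p => (c : GolayPt → ZMod 2) (σ.symm p)) := by
  classical
  have hperm : ∀ (σ : Equiv.Perm GolayPt) (w : GolayPt → ZMod 2),
      support₂ (fun p => w (σ.symm p)) = σ • support₂ w := fun σ w =>
    (Golay.smul_support₂ σ w).symm
  have h12 : ∀ c : ↥golayCode, (support₂ ((x c : ↥golayCode) : GolayPt → ZMod 2)).card = 12 ↔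
      (support₂ (c : GolayPt → ZMod 2)).card = 12 := by
    intro c
    obtain ⟨σ, -, h⟩ := horb c
    rw [h.card_twelve, hperm, Finset.card_smul_finset]
  have himg : ∀ n ∈ octL, ∃ m ∈ octL, ∀ hn : toWord n ∈ golayCode,
      EqvOne ((x ⟨toWord n, hn⟩ : ↥golayCode) : GolayPt → ZMod 2) (toWord m) := by
    intro n hn
    have hmem := toWord_mem (mem_octL.1 hn).1
    obtain ⟨σ, hσ, h⟩ := horb ⟨toWord n, hmem⟩
    obtain ⟨m, hm, e⟩ := octad_iff'.1
      (Golay.smul_mem_octads hσ (octad_iff'.2 ⟨n, hn, rfl⟩))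
    refine ⟨m, hm, fun _ => ?_⟩
    have ew : (fun p => toWord n (σ.symm p)) = toWord m := Golay.support₂_injective (by
      rw [hperm, Golay.support₂_toWord, Golay.support₂_toWord, e])
    rw [← ew]
    exact h
  choose! φ hφmem hφ using himg
  have hsum : ∀ L : List ℕ, (∀ n ∈ L, n ∈ octL) →
      (popc ((L.map φ).foldr (· ^^^ ·) 0) = 12 ↔ popc (L.foldr (· ^^^ ·) 0) = 12) := by
    intro L hL
    have key : ∀ L : List ℕ, (∀ n ∈ L, n ∈ octL) →
        ∃ hc : toWord (L.foldr (· ^^^ ·) 0) ∈ golayCode,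
          EqvOne ((x ⟨_, hc⟩ : ↥golayCode) : GolayPt → ZMod 2)
            (toWord ((L.map φ).foldr (· ^^^ ·) 0)) := by
      intro L
      induction L with
      | nil =>
        intro _
        have h0 : toWord ([] : List ℕ).sum = 0 := Golay.toWord_zero
        refine ⟨by rw [List.foldr_nil, Golay.toWord_zero]; exact golayCode.zero_mem, Or.inl ?_⟩
        simp only [List.map_nil, List.foldr_nil, Golay.toWord_zero]
        exact congrArg Subtype.val (map_zero x)
      | cons a L ih =>
        intro hL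
        obtain ⟨hc, he⟩ := ih fun n hn => hL n (List.mem_cons_of_mem _ hn)
        have ha := hL a List.mem_cons_self
        have hma := toWord_mem (mem_octL.1 ha).1
        have hc' : toWord ((a :: L).foldr (· ^^^ ·) 0) ∈ golayCode := by
          rw [List.foldr_cons, Golay.toWord_xor]
          exact golayCode.add_mem hma hc
        refine ⟨hc', ?_⟩
        have e : (⟨_, hc'⟩ : ↥golayCode) = ⟨toWord a, hma⟩ + ⟨_, hc⟩ :=
          Subtype.ext (Golay.toWord_xor a _)
        rw [e, map_add, List.map_cons, List.foldr_cons, Golay.toWord_xor]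
        exact (hφ a ha hma).add he
    obtain ⟨hc, he⟩ := key L hL
    rw [← card_support_toWord, ← card_support_toWord, ← he.card_twelve, h12]
  have hpair : ∀ a ∈ octL, ∀ b ∈ octL, (popc (φ a ^^^ φ b) = 12 ↔ popc (a ^^^ b) = 12) :=
    fun a ha b hb => by simpa using hsum [a, b] (by simp [ha, hb])
  have hinj : ∀ a ∈ octL, ∀ b ∈ octL, φ a = φ b → a = b := by
    intro a ha b hb e
    have hma := toWord_mem (mem_octL.1 ha).1
    have hmb := toWord_mem (mem_octL.1 hb).1
    have h := (hφ a ha hma).trans (e ▸ (hφ b hb hmb).symm)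
    have hone : (fun _ => (1 : ZMod 2)) ∈ golayCode := Submodule.subset_span (Or.inr rfl)
    rcases h with h | h
    · exact toWord_eq_of_octL ha hb (Or.inl (congrArg Subtype.val (x.injective (Subtype.ext h))))
    · have e1 := h1 ⟨_, hone⟩ rfl
      have h' : x ⟨_, hma⟩ = x (⟨_, hmb⟩ + ⟨_, hone⟩) := by
        rw [map_add, e1]; exact Subtype.ext h
      exact toWord_eq_of_octL ha hb (Or.inr (congrArg Subtype.val (x.injective h')))
  have hside : ∀ a ∈ octL, ∀ b ∈ octL, sideCount (φ a) (φ b) = sideCount a b := by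
    intro a ha b hb
    unfold sideCount
    set P := fun w => !((popc (w ^^^ φ a)).beq 12) && !((popc (w ^^^ φ b)).beq 12)
    have hnd := octL_check.2.2.1
    have hperm : (octL.map φ).Perm octL := by
      refine List.Subperm.perm_of_length_le ?_ (by simp)
      refine ((List.Nodup.map_on (fun a ha b hb => hinj a ha b hb) hnd)).subperm ?_
      intro n hn
      obtain ⟨m, hm, rfl⟩ := List.mem_map.1 hn
      exact hφmem m hm
    rw [← (hperm.filter P).length_eq, List.filter_map, List.length_map]
    refine congrArg List.length (List.filter_congr fun w hw => ?_)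
    have k1 := hpair w hw a ha
    have k2 := hpair w hw b hb
    simp only [P, Function.comp]
    rw [Bool.eq_iff_iff]
    simp only [Bool.and_eq_true, Bool.not_eq_true', ← Bool.not_eq_true, Nat.beq_eq, k1, k2]
  have hinter : ∀ a ∈ octL, ∀ b ∈ octL,
      (toSet (φ a) ∩ toSet (φ b)).card = (toSet a ∩ toSet b).card := by
    intro a ha b hb
    by_cases hab : a = b
    · subst hab
      rw [Finset.inter_self, Finset.inter_self, Golay.card_toSet, Golay.card_toSet,
        (mem_octL.1 ha).2, (mem_octL.1 (hφmem a ha)).2]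
    have hab' : φ a ≠ φ b := fun e => hab (hinj a ha b hb e)
    have h2 : (toSet (φ a) ∩ toSet (φ b)).card = 2 ↔ (toSet a ∩ toSet b).card = 2 := by
      rw [inter_two_iff (hφmem a ha) (hφmem b hb), inter_two_iff ha hb, hpair a ha b hb]
    have vals : ∀ c ∈ octL, ∀ d ∈ octL, c ≠ d → (toSet c ∩ toSet d).card = 0 ∨
        (toSet c ∩ toSet d).card = 2 ∨ (toSet c ∩ toSet d).card = 4 := by
      intro c hc d hd hne
      rcases SporStruct.M24.octad_inter_card (octad_iff'.2 ⟨c, hc, rfl⟩)
        (octad_iff'.2 ⟨d, hd, rfl⟩) with e | e | e | e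
      · exact Or.inl e
      · exact Or.inr (Or.inl e)
      · exact Or.inr (Or.inr e)
      · exact absurd (Golay.toSet_injOn (octL_lt hd) (octL_lt hc) e).symm hne
    have hs := hside a ha b hb
    obtain ⟨c0, c4⟩ := sideCount_class ha hb
    obtain ⟨d0, d4⟩ := sideCount_class (hφmem a ha) (hφmem b hb)
    rcases vals a ha b hb hab with e | e | e <;>
      rcases vals _ (hφmem a ha) _ (hφmem b hb) hab' with e' | e' | e' <;>
      first
        | omega
        | (rw [c0 e, d4 e'] at hs; omega)
        | (rw [c4 e, d0 e'] at hs; omega)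
  obtain ⟨hseq, htabs, ⟨htake, hlen⟩, hcombs⟩ := rig_facts
  simp only [List.all_eq_true, List.mem_range, Bool.and_eq_true, Nat.beq_eq] at hseq htabs
  have hs : ∀ j < 11, rigSeq.getD j 0 ∈ octL := fun j hj => mem_octL.2 (hseq j hj)
  have step : ∀ k ≤ 11, ∃ σ ∈ Cfsg.M24, ∀ j < k,
      σ • toSet (rigSeq.getD j 0) = toSet (φ (rigSeq.getD j 0)) := by
    have e0 : rigSeq.getD 0 0 = 5279 ∧ rigSeq.getD 1 0 = 31554 := by decide +kernel
    have base : ∃ σ ∈ Cfsg.M24, ∀ j < 2,
        σ • toSet (rigSeq.getD j 0) = toSet (φ (rigSeq.getD j 0)) := by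
      have h := hinter _ (hs 0 (by norm_num)) _ (hs 1 (by norm_num))
      rw [e0.1, e0.2] at h
      obtain ⟨g, g1, g2⟩ := exists_pair_map pair_facts.1.1 pair_facts.1.2.2
        (octad_iff'.2 ⟨_, hφmem 5279 (e0.1 ▸ hs 0 (by norm_num)), rfl⟩)
        (octad_iff'.2 ⟨_, hφmem 31554 (e0.2 ▸ hs 1 (by norm_num)), rfl⟩) h
      refine ⟨g, g.2, fun j hj => ?_⟩
      interval_cases j
      · rw [e0.1]; exact g1
      · rw [e0.2]; exact g2
    intro k hk
    induction k with
    | zero => exact ⟨1, Cfsg.M24.one_mem, fun j hj => absurd hj (Nat.not_lt_zero j)⟩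
    | succ k ih =>
      rcases Nat.lt_or_ge k 2 with h2 | h2
      · obtain ⟨σ, hσ, h⟩ := base
        exact ⟨σ, hσ, fun j hj => h j (by omega)⟩
      obtain ⟨σ, hσ, hσj⟩ := ih (by omega)
      set b := rigSeq.getD k 0
      obtain ⟨c, hc, ec⟩ := octad_iff'.1 (Golay.smul_mem_octads (Cfsg.M24.inv_mem hσ)
        (octad_iff'.2 ⟨_, hφmem b (hs k (by omega)), rfl⟩))
      have hec : σ • toSet c = toSet (φ b) := by rw [ec, smul_inv_smul]
      have htk : ∀ a ∈ rigSeq.take k, ∃ j < k, rigSeq.getD j 0 = a := by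
        intro a ha
        obtain ⟨j, hj, rfl⟩ := List.getElem_of_mem ha
        have hj' : j < k ∧ j < rigSeq.length := by simpa using hj
        exact ⟨j, hj'.1, by rw [List.getElem_take, List.getD_eq_getElem]⟩
      have hprof : sameProfile (rigSeq.take k) b c = true := by
        simp only [sameProfile, Bool.and_eq_true, List.all_eq_true, Nat.beq_eq, beq_iff_eq]
        refine ⟨fun a ha => ?_, fun a ha a' ha' => ?_⟩
        · obtain ⟨j, hj, rfl⟩ := htk a ha
          rw [← Golay.card_toSet, ← Golay.card_toSet, ← Golay.toSet_inter, ← Golay.toSet_inter,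
            ← Finset.card_smul_finset σ, Finset.smul_finset_inter, hec, hσj j hj]
          exact hinter b (hs k (by omega)) _ (hs j (by omega))
        · obtain ⟨j, hj, rfl⟩ := htk a ha
          obtain ⟨j', hj', rfl⟩ := htk a' ha'
          rw [Bool.eq_iff_iff, Nat.beq_eq, Nat.beq_eq, ← Golay.card_toSet,
            ← Finset.card_smul_finset σ,
            smul_toSet_xor (smul_toSet_xor hec (hσj j hj)) (hσj j' hj'), Golay.card_toSet]
          have := hsum [b, rigSeq.getD j 0, rigSeq.getD j' 0] (fun n hn => by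
            simp only [List.mem_cons, List.not_mem_nil, or_false] at hn
            rcases hn with rfl | rfl | rfl
            exacts [hs k (by omega), hs j (by omega), hs j' (by omega)])
          simpa [Nat.xor_assoc] using this
      have hcomp := rig_complete
      simp only [List.all_eq_true, List.mem_range] at hcomp
      have hck := hcomp (k - 2) (by omega) c hc
      rw [show k - 2 + 2 = k by omega, hprof, cond_true, List.any_eq_true] at hck
      obtain ⟨l, hl, hlc⟩ := hck
      rw [Nat.beq_eq] at hlc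
      have ht' := htabs (k - 2) (by omega) l (by rw [show k - 2 + 2 = k by omega]; exact hl)
      rw [show k - 2 + 2 = k by omega] at ht'
      obtain ⟨⟨⟨hp, ha⟩, hm⟩, hfix⟩ := ht'
      have t := Golay.tab_permOf hp
      refine ⟨σ * Golay.permOf l hp, Cfsg.M24.mul_mem hσ (t.mem_M24 ha), fun j hj => ?_⟩
      rw [mul_smul]
      rcases Nat.lt_succ_iff_lt_or_eq.1 hj with hj | rfl
      · rw [t.smul_toSet (hfix j hj), hσj j hj]
      · rw [t.smul_toSet hm, hlc, hec]
  obtain ⟨σ, hσ, hσj⟩ := step 11 le_rfl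
  refine ⟨σ, hσ, ?_⟩
  let W : Submodule (ZMod 2) (GolayPt → ZMod 2) :=
    { carrier := {w | ∃ h : w ∈ golayCode, EqvOne ((x ⟨w, h⟩ : ↥golayCode) : GolayPt → ZMod 2)
        (fun p => w (σ.symm p))}
      zero_mem' := ⟨golayCode.zero_mem, Or.inl (congrArg Subtype.val (map_zero x))⟩
      add_mem' := fun {u v} hu hv => by
        obtain ⟨hu, eu⟩ := hu
        obtain ⟨hv, ev⟩ := hv
        refine ⟨golayCode.add_mem hu hv, ?_⟩
        rw [show (⟨u + v, _⟩ : ↥golayCode) = ⟨u, hu⟩ + ⟨v, hv⟩ from rfl, map_add]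
        exact eu.add ev
      smul_mem' := fun r u hu => by
        obtain ⟨hu, eu⟩ := hu
        have hr : r = 0 ∨ r = 1 := by revert r; decide
        rcases hr with rfl | rfl
        · simp only [zero_smul]
          exact ⟨golayCode.zero_mem, Or.inl (congrArg Subtype.val (map_zero x))⟩
        · simp only [one_smul]
          exact ⟨hu, eu⟩ }
  have hW : ∀ b ∈ rigSeq ++ [16777215], toWord b ∈ W := by
    intro b hb
    rcases List.mem_append.1 hb with hb | hb
    · obtain ⟨j, hj, rfl⟩ := List.getElem_of_mem hb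
      rw [← List.getD_eq_getElem _ 0 hj]
      have hb8 := hs j (hlen ▸ hj)
      refine ⟨toWord_mem (mem_octL.1 hb8).1, ?_⟩
      have ew : (fun p => toWord (rigSeq.getD j 0) (σ.symm p)) = toWord (φ (rigSeq.getD j 0)) :=
        Golay.support₂_injective (by
          rw [hperm, Golay.support₂_toWord, Golay.support₂_toWord, hσj j (hlen ▸ hj)])
      rw [ew]
      exact hφ _ hb8 _
    · rw [List.mem_singleton] at hb
      subst hb
      have e : toWord 16777215 = fun _ => (1 : ZMod 2) := funext fun p => (Golay.one_eq p).2.symm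
      rw [e]
      exact ⟨Submodule.subset_span (Or.inr rfl), Or.inl (congrArg Subtype.val (h1 _ rfl))⟩
  have hall : golayCode ≤ W := by
    rw [Golay.golayCode_eq]
    rintro _ ⟨m, -, rfl⟩
    refine Golay.toWord_combAux_mem W _ _ fun b hb => ?_
    obtain ⟨i, hi, rfl⟩ := List.getElem_of_mem hb
    have h12 : i < 12 := hi
    simp only [List.all_eq_true, List.mem_range, Nat.beq_eq] at hcombs
    rw [← List.getD_eq_getElem _ 0 hi, ← hcombs i h12]
    exact Golay.toWord_combAux_mem W _ _ hW
  intro c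
  obtain ⟨h, e⟩ := hall c.2
  exact e

end Cfsg.Agent.Sporadic96
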