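import Cfsg.Agent.SporStruct.M24Sets
import Cfsg.Agent.SporStruct.OctadStab

/-!
`Cfsg.M24` on six-element sets.

Main results: `six_induces`, `card_fix_six_in`, `card_fix_six_out`, `card_stab_six_out`.
-/

set_option autoImplicit false

namespace Cfsg.Agent.Sporadic96

open scoped Pointwise
open Cfsg.Agent.Golay (bp toSet octadO fixUpTo)
open Cfsg.Agent.SporStruct.M24

variable {E : Finset GolayPt}

/-- Every permutation of a six-set is induced. -/
theorem six_induces (hE : E.card = 6) (σ : Equiv.Perm ↥E) :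
    ∃ g ∈ Cfsg.M24, ∀ p : ↥E, g p = σ p := by
  set A := E.attach.toList.map Subtype.val
  set A' := E.attach.toList.map fun x => ((σ x : ↥E) : GolayPt)
  have hA : A.Nodup := (Finset.nodup_toList _).map Subtype.val_injective
  have hA' : A'.Nodup := (Finset.nodup_toList _).map (Subtype.val_injective.comp σ.injective)
  have hl : A.length = 6 := by simp [A, hE]
  have hl' : A'.length = 6 := by simp [A', hE]
  obtain ⟨g, hg, hmap⟩ : ∃ g ∈ Cfsg.M24, A.map g = A' := by
    by_cases hin : ∃ o ∈ octads, E ⊆ o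
    · obtain ⟨o, ho, hEo⟩ := hin
      obtain ⟨g, hg, -, h⟩ := exists_map_list_six hA hA' hl hl' ho ho
        (fun a ha => by
          obtain ⟨x, -, rfl⟩ := List.mem_map.1 ha
          exact hEo x.2)
        (fun a ha => by
          obtain ⟨x, -, rfl⟩ := List.mem_map.1 ha
          exact hEo (σ x).2)
      exact ⟨g, hg, h⟩
    · refine exists_map_list_six_out hA hA' hl hl' ?_ ?_
      · rintro ⟨o, ho, h⟩
        exact hin ⟨o, ho, fun x hx => h x (List.mem_map.2 ⟨⟨x, hx⟩, by simp, rfl⟩)⟩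
      · rintro ⟨o, ho, h⟩
        refine hin ⟨o, ho, fun x hx => h x (List.mem_map.2 ⟨σ.symm ⟨x, hx⟩, by simp, ?_⟩)⟩
        simp
  refine ⟨g, hg, fun p => ?_⟩
  simp only [A, A', List.map_map] at hmap
  exact (List.map_inj_left.1 hmap) p (by simp)

theorem card_fix_six_in {o : Finset GolayPt} (hE : E.card = 6) (ho : o ∈ octads) (h : E ⊆ o) :
    Nat.card {g : Equiv.Perm GolayPt // g ∈ Cfsg.M24 ∧ ∀ p ∈ E, g p = p} = 16 := by
  rw [← card_pointFix ho]
  exact Nat.card_congr (Equiv.subtypeEquivRight fun g => by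
    rw [mem_pointFix]
    exact and_congr_right fun hg => ⟨fun hfix => fix_octad hg ho h hE.ge hfix,
      fun hfix p hp => hfix p (h hp)⟩)

/-- The five base points and the seventh. -/
def outBase : List GolayPt := [bp 0, bp 1, bp 2, bp 3, bp 4, bp 6]

theorem outBase_facts : outBase.Nodup ∧ bp 6 ∉ toSet octadO ∧
    ((toSet octadO : Finset GolayPt)ᶜ).card = 16 ∧
    ∀ a : GolayPt, a ∈ outBase.take 5 → a ∈ toSet octadO := by
  decide +kernel

theorem card_fix_outBase :
    Nat.card {g : Equiv.Perm GolayPt // g ∈ Cfsg.M24 ∧ ∀ p ∈ outBase, g p = p} = 3 := by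
  set K := fixUpTo Cfsg.M24 5
  have horb : MulAction.orbit ↥K (bp 6) = (((toSet octadO)ᶜ : Finset GolayPt) : Set GolayPt) := by
    ext p
    rw [MulAction.mem_orbit_iff, Finset.mem_coe, Finset.mem_compl]
    constructor
    · rintro ⟨⟨g, hg⟩, rfl⟩ hp
      have h := smul_octadO hg
      change g (bp 6) ∈ toSet octadO at hp
      rw [← h, apply_mem_smul] at hp
      exact outBase_facts.2.1 hp
    · intro hp
      obtain ⟨h, hh, e⟩ := exists_map_outside hp
      exact ⟨⟨h, fixUpTo_anti (by norm_num) hh⟩, e⟩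
  have hcard := Subgroup.card_mul_index (MulAction.stabilizer ↥K (bp 6))
  rw [MulAction.index_stabilizer, horb, Set.ncard_coe_finset, outBase_facts.2.2.1,
    Golay.card_fixUpTo_succ (by norm_num : 5 < 7), Golay.card_fixUpTo_succ (by norm_num : 6 < 7),
    Golay.card_fix_seven] at hcard
  have e : Nat.card ↥(MulAction.stabilizer ↥K (bp 6)) =
      Nat.card {g : Equiv.Perm GolayPt // g ∈ Cfsg.M24 ∧ ∀ p ∈ outBase, g p = p} :=
    Nat.card_congr
      { toFun := fun g => ⟨g.1.1, (Golay.mem_fixUpTo.1 g.1.2).1, fun p hp => by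
          have h := (Golay.mem_fixUpTo.1 g.1.2).2
          simp only [outBase, List.mem_cons, List.not_mem_nil, or_false] at hp
          rcases hp with rfl | rfl | rfl | rfl | rfl | rfl
          exacts [h 0 (by norm_num), h 1 (by norm_num), h 2 (by norm_num), h 3 (by norm_num),
            h 4 (by norm_num), g.2]⟩
        invFun := fun g => ⟨⟨g.1, Golay.mem_fixUpTo.2 ⟨g.2.1, fun j hj => g.2.2 _ (by
          interval_cases j <;> simp [outBase])⟩⟩, g.2.2 _ (by simp [outBase])⟩
        left_inv := fun _ => rfl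
        right_inv := fun _ => rfl }
  rw [← e]
  have hl : (Golay.orbN.getD 5 []).length = 3 ∧ (Golay.orbN.getD 6 []).length = 16 := by
    decide +kernel
  rw [hl.1, hl.2] at hcard
  omega

theorem card_fix_six_out (hE : E.card = 6) (h : ¬ ∃ o ∈ octads, E ⊆ o) :
    Nat.card {g : Equiv.Perm GolayPt // g ∈ Cfsg.M24 ∧ ∀ p ∈ E, g p = p} = 3 := by
  obtain ⟨c, hc, hmap⟩ := exists_map_list_six_out outBase_facts.1 (Finset.nodup_toList E) rfl
    (by simp [hE]) (by
      rintro ⟨o, ho, ho'⟩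
      have hsub : ((Finset.range 5).image bp) ⊆ toSet octadO ∩ o := by
        intro p hp
        obtain ⟨i, hi, rfl⟩ := Finset.mem_image.1 hp
        rw [Finset.mem_range] at hi
        refine Finset.mem_inter.2 ⟨bp_facts.1 ⟨i, by omega⟩, ho' _ ?_⟩
        interval_cases i <;> simp [outBase]
      have e : o = toSet octadO := Golay.octad_unique ho octadO_mem (base5_card.ge)
        (hsub.trans Finset.inter_subset_right) (hsub.trans Finset.inter_subset_left)
      exact outBase_facts.2.1 (e ▸ ho' _ (by simp [outBase])))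
    (by
      rintro ⟨o, ho, h'⟩
      exact h ⟨o, ho, fun x hx => h' x (Finset.mem_toList.2 hx)⟩)
  rw [← card_fix_outBase]
  refine Nat.card_congr ((MulAut.conj c⁻¹).toEquiv.subtypeEquiv fun g => ?_)
  have hmem : ∀ p, p ∈ E ↔ ∃ q ∈ outBase, c q = p := fun p => by
    rw [← Finset.mem_toList, ← hmap, List.mem_map]
  simp only [MulEquiv.toEquiv_eq_coe, EquivLike.coe_coe, MulAut.conj_apply, inv_inv,
    Equiv.Perm.mul_apply, Equiv.Perm.coe_inv, Equiv.symm_apply_eq]
  constructor
  · rintro ⟨hg, hfix⟩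
    exact ⟨Cfsg.M24.mul_mem (Cfsg.M24.mul_mem (Cfsg.M24.inv_mem hc) hg) hc,
      fun q hq => hfix _ ((hmem _).2 ⟨q, hq, rfl⟩)⟩
  · rintro ⟨hg, hfix⟩
    refine ⟨?_, fun p hp => ?_⟩
    · have := Cfsg.M24.mul_mem (Cfsg.M24.mul_mem hc hg) (Cfsg.M24.inv_mem hc)
      rwa [show c * (c⁻¹ * g * c) * c⁻¹ = g by group] at this
    · obtain ⟨q, hq, rfl⟩ := (hmem p).1 hp
      exact hfix q hq

theorem card_stab_six_out (hE : E.card = 6) (h : ¬ ∃ o ∈ octads, E ⊆ o) :
    Nat.card ↥(MulAction.stabilizer ↥Cfsg.M24 E) = 2160 := by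
  have hmaps : ∀ (g : ↥(MulAction.stabilizer ↥Cfsg.M24 E)) (x : GolayPt),
      (x ∈ E ↔ ((g : ↥Cfsg.M24) : Equiv.Perm GolayPt) x ∈ E) := by
    intro g x
    have hgE : ((g : ↥Cfsg.M24) : Equiv.Perm GolayPt) • E = E := g.2
    refine ⟨fun hx => ?_, fun hx => ?_⟩
    · exact Finset.ext_iff.1 hgE _ |>.1 (apply_mem_smul.2 hx)
    · exact apply_mem_smul.1 ((Finset.ext_iff.1 hgE _).2 hx)
  let f : ↥(MulAction.stabilizer ↥Cfsg.M24 E) →* Equiv.Perm ↥E :=
    MonoidHom.mk' (fun g => ((g : ↥Cfsg.M24) : Equiv.Perm GolayPt).subtypePerm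
      fun x => (hmaps g x).symm) fun a b => by ext x; rfl
  have hsurj : Function.Surjective f := by
    intro σ
    obtain ⟨g, hg, hgσ⟩ := six_induces hE σ
    have hst : (⟨g, hg⟩ : ↥Cfsg.M24) ∈ MulAction.stabilizer ↥Cfsg.M24 E := by
      rw [MulAction.mem_stabilizer_iff]
      refine Finset.eq_of_subset_of_card_le (fun p hp => ?_) (by rw [Finset.card_smul_finset])
      obtain ⟨q, hq, rfl⟩ := Finset.mem_smul_finset.1 hp
      show g q ∈ E
      rw [hgσ ⟨q, hq⟩]
      exact Finset.coe_mem _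
    exact ⟨⟨_, hst⟩, Equiv.ext fun p => Subtype.ext (hgσ p)⟩
  have hker : Nat.card ↥f.ker = 3 := by
    rw [← card_fix_six_out hE h]
    refine Nat.card_congr
      { toFun := fun g => ⟨((g.1 : ↥Cfsg.M24) : Equiv.Perm GolayPt), (g.1 : ↥Cfsg.M24).2,
          fun p hp => congrArg Subtype.val (Equiv.Perm.ext_iff.1 g.2 ⟨p, hp⟩)⟩
        invFun := fun g => ⟨⟨⟨g.1, g.2.1⟩, by
          rw [MulAction.mem_stabilizer_iff]
          refine Finset.eq_of_subset_of_card_le (fun p hp => ?_) (by rw [Finset.card_smul_finset])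
          obtain ⟨q, hq, rfl⟩ := Finset.mem_smul_finset.1 hp
          show g.1 q ∈ E
          rw [g.2.2 q hq]
          exact hq⟩, Equiv.ext fun p => Subtype.ext (g.2.2 p p.2)⟩
        left_inv := fun _ => rfl
        right_inv := fun _ => rfl }
  have h1 := Subgroup.card_mul_index f.ker
  rw [Subgroup.index_ker, MonoidHom.range_eq_top.2 hsurj, Subgroup.card_top, hker,
    Nat.card_eq_fintype_card, Fintype.card_perm, Fintype.card_coe, hE] at h1
  rw [← h1]
  rfl

end Cfsg.Agent.Sporadic96
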