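import Cfsg.Agent.Sporadic96.M24.Orbit

/-!
Stabilisers, invariants and transport for orbit certificates.
-/

set_option autoImplicit false

namespace Cfsg.Agent.Sporadic96

open scoped Pointwise
open Cfsg.Agent.Golay (idx pt toSet popc inCode Tab)

/-- Multiset of intersection sizes between members of two families. -/
def sig (Y X : Finset (Finset GolayPt)) : Multiset ℕ :=
  Y.val.bind fun a => X.val.map fun b => (a ∩ b).card

theorem smul_finset_val {G α : Type*} [Group G] [DecidableEq α] [MulAction G α] (g : G)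
    (X : Finset α) : (g • X).val = X.val.map (g • ·) := by
  rw [Finset.smul_finset_def, Finset.image_val_of_injOn (MulAction.injective g).injOn]

theorem sig_smul (g : ↥Cfsg.M24) (Y X : Finset (Finset GolayPt)) :
    sig (g • Y) (g • X) = sig Y X := by
  unfold sig
  rw [smul_finset_val g Y, smul_finset_val g X, Multiset.bind_map]
  refine Multiset.bind_congr fun a _ => ?_
  rw [Multiset.map_map]
  refine Multiset.map_congr rfl fun b _ => ?_
  show (g • a ∩ g • b).card = _
  rw [← Finset.smul_finset_inter, Finset.card_smul_finset]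

theorem sig_invariant (Y : Finset (Finset GolayPt)) (g : ↥(MulAction.stabilizer ↥Cfsg.M24 Y))
    (T : Finset (Finset GolayPt)) : sig Y (g • T) = sig Y T :=
  (congrArg (fun Z => sig Z ((g : ↥Cfsg.M24) • T)) (MulAction.mem_stabilizer_iff.mp g.2)).symm.trans
    (sig_smul (g : ↥Cfsg.M24) Y T)

/-- A checkable sufficient condition for a table to stabilise the family of `Y`. -/
def stabTab (Y : List ℕ) (l : List ℕ) : Bool :=
  Golay.checkAut l && Golay.isPermTab l && l.length.beq 24 &&
    Y.all fun a => Y.any fun b => Golay.maps l a b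

theorem gensIn_stabilizer {Y : List ℕ} {gens : List (List ℕ)}
    (h : gens.all (stabTab Y) = true) :
    GensIn (MulAction.stabilizer ↥Cfsg.M24 (toFam Y)) gens := by
  intro l hl
  have hl' := List.all_eq_true.mp h l hl
  simp only [stabTab, Bool.and_eq_true, Nat.beq_eq] at hl'
  obtain ⟨⟨⟨hc, hp⟩, hlen⟩, hY⟩ := hl'
  have ht := Golay.tab_permOf hp
  refine ⟨hlen, ⟨_, ht.mem_M24 hc⟩, ?_, ht⟩
  rw [MulAction.mem_stabilizer_iff]
  refine Finset.eq_of_subset_of_card_le ?_ (by rw [Finset.card_smul_finset])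
  intro s hs
  obtain ⟨a, ha, rfl⟩ := Finset.mem_smul_finset.mp hs
  obtain ⟨n, hn, rfl⟩ := mem_toFam.mp ha
  simp only [List.all_eq_true, List.any_eq_true] at hY
  obtain ⟨b, hb, hmaps⟩ := hY n hn
  exact mem_toFam.mpr ⟨b, hb, (ht.smul_toSet hmaps).symm⟩

theorem gensIn_top {gens : List (List ℕ)}
    (h : gens.all (fun l => Golay.checkAut l && Golay.isPermTab l && l.length.beq 24) = true) :
    GensIn ⊤ gens := by
  intro l hl
  have hl' := List.all_eq_true.mp h l hl
  simp only [Bool.and_eq_true, Nat.beq_eq] at hl'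
  exact ⟨hl'.2, ⟨_, (Golay.tab_permOf hl'.1.2).mem_M24 hl'.1.1⟩, Subgroup.mem_top _,
    Golay.tab_permOf hl'.1.2⟩

theorem toFam_singleton (n : ℕ) : toFam [n] = {toSet n} := by simp [toFam]

theorem fam_one (X k : ℕ) : fam 1 X k = {toSet (lane X k)} := by
  simp [fam, toFam]

/-- The octads as one-member families. -/
theorem octFam_iff {T : Finset (Finset GolayPt)} :
    T ∈ (fun o => ({o} : Finset (Finset GolayPt))) '' octads ↔ ∃ k < 759, fam 1 octP k = T := by
  simp only [Set.mem_image, fam_one]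
  constructor
  · rintro ⟨o, ho, rfl⟩
    obtain ⟨k, hk, rfl⟩ := octad_iff.mp ho
    exact ⟨k, hk, rfl⟩
  · rintro ⟨k, hk, rfl⟩
    exact ⟨_, octad_iff.mpr ⟨k, hk, rfl⟩, rfl⟩

theorem octFam_injective {j k : ℕ} (hj : j < 759) (hk : k < 759)
    (h : fam 1 octP j = fam 1 octP k) : j = k := by
  rw [fam_one, fam_one, Finset.singleton_inj] at h
  exact toSet_octP_injective hj hk h

theorem smul_octFam (g : ↥Cfsg.M24) {T : Finset (Finset GolayPt)}
    (hT : T ∈ (fun o => ({o} : Finset (Finset GolayPt))) '' octads) :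
    g • T ∈ (fun o => ({o} : Finset (Finset GolayPt))) '' octads := by
  obtain ⟨o, ho, rfl⟩ := hT
  exact ⟨g • o, smul_octad g ho, (Finset.smul_finset_singleton o).symm⟩

theorem stabilizer_singleton {G α : Type*} [Group G] [DecidableEq α] [MulAction G α] (a : α) :
    MulAction.stabilizer G ({a} : Finset α) = MulAction.stabilizer G a := by
  ext g
  simp [MulAction.mem_stabilizer_iff, Finset.smul_finset_singleton]

theorem orbit_singleton {G α : Type*} [Group G] [DecidableEq α] [MulAction G α] (H : Subgroup G)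
    (a : α) : MulAction.orbit ↥H ({a} : Finset α) =
      (fun b => ({b} : Finset α)) '' MulAction.orbit ↥H a := by
  ext T
  simp only [MulAction.mem_orbit_iff, Set.mem_image]
  constructor
  · rintro ⟨g, rfl⟩
    exact ⟨_, ⟨g, rfl⟩, (Finset.smul_finset_singleton a).symm⟩
  · rintro ⟨b, ⟨g, rfl⟩, rfl⟩
    exact ⟨g, Finset.smul_finset_singleton a⟩

/-- Orbits of a conjugate stabiliser. -/
theorem orbit_stabilizer_smul {G α β : Type*} [Group G] [MulAction G α] [MulAction G β] (g : G)
    (y : α) (x : β) :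
    MulAction.orbit ↥(MulAction.stabilizer G (g • y)) (g • x) =
      g • MulAction.orbit ↥(MulAction.stabilizer G y) x := by
  ext z
  simp only [MulAction.mem_orbit_iff, Set.mem_smul_set_iff_inv_smul_mem]
  constructor
  · rintro ⟨h, rfl⟩
    refine ⟨⟨g⁻¹ * h * g, ?_⟩, ?_⟩
    · rw [MulAction.mem_stabilizer_iff, mul_smul, mul_smul, h.2, inv_smul_smul]
    · show (g⁻¹ * (h : G) * g) • x = g⁻¹ • ((h : G) • g • x)
      simp [mul_smul]
  · rintro ⟨h, hh⟩
    refine ⟨⟨g * h * g⁻¹, ?_⟩, ?_⟩
    · rw [MulAction.mem_stabilizer_iff, mul_smul, mul_smul, inv_smul_smul, h.2]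
    · show (g * (h : G) * g⁻¹) • (g • x) = z
      rw [mul_smul, mul_smul, inv_smul_smul]
      show g • (h • x) = z
      rw [hh, smul_inv_smul]

theorem ncard_orbit_stabilizer_smul {G α β : Type*} [Group G] [MulAction G α] [MulAction G β]
    (g : G) (y : α) (x : β) :
    (MulAction.orbit ↥(MulAction.stabilizer G (g • y)) (g • x)).ncard =
      (MulAction.orbit ↥(MulAction.stabilizer G y) x).ncard := by
  rw [orbit_stabilizer_smul, Set.ncard_smul_set]

end Cfsg.Agent.Sporadic96
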