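import Cfsg.Agent.Sporadic96.M24.CentData
import Cfsg.Agent.Sporadic96.M24.Stab
import Cfsg.Agent.Sporadic96.M24.FixValues

/-!
The centraliser in `Cfsg.M24` of a fixed-point-free involution: order 7680, transitive, inside a
sextet stabiliser; commuting elements of orders 3 and 2.

Main results: `centraliser_fpf`, `commuting_three_two`.
-/

set_option autoImplicit false

namespace Cfsg.Agent.Sporadic96

open scoped Pointwise
open Cfsg.Agent.Golay (idx pt bp toSet Tab comp idTab isPermTab checkAut maps fixUpTo fixedPts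
  inv0Tab)

/-- A table in the centraliser that preserves the sextet. -/
def centTab (l : List ℕ) : Bool :=
  isPermTab l && checkAut l && l.length.beq 24 && (comp l inv0Tab == comp inv0Tab l) &&
    centSextet.all fun a => centSextet.any fun b => maps l a b

/-- Number of preserved octads through a point and the point 23. -/
def centInv (x : ℕ) : ℕ := (centOcts.filter fun o => o.testBit 23 && o.testBit x).length

/-- The composite of three tables commutes with the involution. -/
def commutes3 (a b c : List ℕ) : Bool :=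
  (List.range 24).all fun i =>
    (a.getD (b.getD (c.getD (inv0Tab.getD i 0) 0) 0) 0).beq
      (inv0Tab.getD (a.getD (b.getD (c.getD i 0) 0) 0) 0)

set_option maxRecDepth 40000 in
theorem cent_tabs : (centTabA ++ centTabB ++ centTabK).all centTab = true := by decide +kernel

set_option maxRecDepth 40000 in
theorem cent_facts :
    (centTabA.length = 24 ∧ centTabB.length = 20 ∧ centTabK.length = 16) ∧
    (centTabA.map fun l => l.getD 23 0) = List.range 24 ∧
    (centTabB.all fun l => (l.getD 23 0).beq 23 && (l.getD 0 0).beq 0) = true ∧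
    (centTabB.map fun l => l.getD 1 0) =
      ((List.range 24).filter fun y => (centInv y).beq 1) ∧
    (centTabK.all fun l => [23, 0, 1, 2].all fun i => (l.getD i 0).beq i) = true ∧
    centTabK.Nodup ∧ (inv0Tab.getD 23 0 = 0 ∧ inv0Tab.getD 1 0 = 2) ∧
    (centOcts.all fun o => Golay.inCode o && (Golay.popc o).beq 8 && maps inv0Tab o o) = true := by
  decide +kernel

set_option maxRecDepth 40000 in
theorem cent_octs_complete : (List.range 759).all (fun k =>
    !(maps inv0Tab (lane octP k) (lane octP k)) || centOcts.contains (lane octP k)) = true := by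
  decide +kernel

set_option maxRecDepth 40000 in
theorem level_eq : [4, 5, 6].map (fun i => (Golay.reps24.getD i []).map fun a =>
    Golay.chainTab a.2) = [levelTabs4, levelTabs5, levelTabs6] := by
  decide +kernel

set_option maxRecDepth 40000 in
theorem cent_K_complete : (levelTabs4.all fun a => levelTabs5.all fun b => levelTabs6.all fun c =>
    !(commutes3 a b c) || centTabK.contains (comp a (comp b c))) = true := by
  decide +kernel

/-- Every element fixing four base points is a product of three transversal elements. -/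
theorem exists_decomp_four {x : Equiv.Perm GolayPt} (hx : x ∈ fixUpTo Cfsg.M24 4) :
    ∃ a ∈ levelTabs4, ∃ b ∈ levelTabs5, ∃ c ∈ levelTabs6, Tab x (comp a (comp b c)) := by
  have step : ∀ i : ℕ, (i = 4 ∨ i = 5 ∨ i = 6) → ∀ x ∈ fixUpTo Cfsg.M24 i,
      ∃ l ∈ (Golay.reps24.getD i []).map (fun a => Golay.chainTab a.2), ∃ y ∈ Cfsg.M24, Tab y l ∧
        y⁻¹ * x ∈ fixUpTo Cfsg.M24 (i + 1) := by
    intro i hi x hx
    have hrep : ∀ i : Fin 7, (Golay.reps24.getD i.val []).map Prod.fst = Golay.orbN.getD i.val [] ∧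
        ∀ xk ∈ Golay.reps24.getD i.val [],
          (Golay.chainTab xk.2).getD (Golay.baseN.getD i.val 0) 0 = xk.1 ∧
          ∀ j : Fin i.val,
            (Golay.chainTab xk.2).getD (Golay.baseN.getD j.val 0) 0 = Golay.baseN.getD j.val 0 := by
      decide +kernel
    obtain ⟨h1, h2⟩ := hrep ⟨i, by omega⟩
    have hm := Golay.orbit_subset (by omega : i < 7) hx
    rw [← h1, List.mem_map] at hm
    obtain ⟨⟨z, k⟩, hzk, e⟩ := hm
    obtain ⟨e1, e2⟩ := h2 _ hzk
    obtain ⟨y, hy, hyt⟩ := Golay.chainTab_mem k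
    obtain ⟨x1, x2⟩ := Golay.mem_fixUpTo.1 hx
    refine ⟨_, List.mem_map.2 ⟨(z, k), hzk, rfl⟩, y, hy, hyt, Golay.mem_fixUpTo.2
      ⟨Cfsg.M24.mul_mem (Cfsg.M24.inv_mem hy) x1, fun j hj => ?_⟩⟩
    rw [Equiv.Perm.mul_apply, Equiv.Perm.coe_inv, Equiv.symm_apply_eq]
    apply Golay.idx_injective
    rw [hyt.apply, Golay.idx_pt (hyt.lt (Golay.idx_lt _))]
    rcases Nat.lt_succ_iff_lt_or_eq.1 hj with hj | rfl
    · rw [x2 j hj, Golay.idx_bp, e2 ⟨j, hj⟩]
    · rw [Golay.idx_bp, e1]
      exact e.symm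
  obtain ⟨a, ha, p, -, ta, r4⟩ := step 4 (by simp) x hx
  obtain ⟨b, hb, q, -, tb, r5⟩ := step 5 (by simp) _ r4
  obtain ⟨c, hc, r, -, tc, r6⟩ := step 6 (by simp) _ r5
  rw [Golay.fixUpTo_seven, Subgroup.mem_bot] at r6
  have hlev := level_eq
  simp only [List.map_cons, List.map_nil, List.cons.injEq, and_true] at hlev
  rw [hlev.1] at ha; rw [hlev.2.1] at hb; rw [hlev.2.2] at hc
  refine ⟨a, ha, b, hb, c, hc, ?_⟩
  have e : x = p * (q * r) := by
    rw [inv_mul_eq_one, eq_inv_mul_iff_mul_eq, eq_inv_mul_iff_mul_eq] at r6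
    exact r6.symm
  exact e ▸ ta.mul (tb.mul tc)

/-- The representative involution. -/
noncomputable def invRep : Equiv.Perm GolayPt :=
  Golay.permOf inv0Tab (by decide +kernel)

theorem tab_invRep : Tab invRep inv0Tab := Golay.tab_permOf _

theorem invRep_facts : invRep ∈ Cfsg.M24 ∧ (fixedPts invRep).card = 0 := by
  obtain ⟨-, -, -, hr0, -⟩ := Golay.invol_facts
  simp only [Bool.and_eq_true, decide_eq_true_eq] at hr0
  exact ⟨tab_invRep.mem_M24 hr0.1.1.2, card_fixedPts_invRep.2 tab_invRep⟩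

/-- The centraliser of the representative in `M24`. -/
def centInvRep : Subgroup (Equiv.Perm GolayPt) := Cfsg.M24 ⊓ Subgroup.centralizer {invRep}

theorem mem_centInvRep {c : Equiv.Perm GolayPt} :
    c ∈ centInvRep ↔ c ∈ Cfsg.M24 ∧ c * invRep = invRep * c := by
  rw [centInvRep, Subgroup.mem_inf, Subgroup.mem_centralizer_singleton_iff]

theorem tab_of_mem {l : List ℕ} (h : l ∈ centTabA ++ centTabB ++ centTabK) :
    ∃ g ∈ centInvRep, Tab g l ∧ g • toFam centSextet = toFam centSextet := by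
  have hl := List.all_eq_true.1 cent_tabs l h
  simp only [centTab, Bool.and_eq_true, beq_iff_eq, List.all_eq_true, List.any_eq_true,
    Nat.beq_eq] at hl
  obtain ⟨⟨⟨⟨hp, hc⟩, -⟩, hcomm⟩, hS⟩ := hl
  have t := Golay.tab_permOf hp
  refine ⟨_, mem_centInvRep.2 ⟨t.mem_M24 hc,
    Golay.tab_unique (t.mul tab_invRep) (hcomm.symm ▸ tab_invRep.mul t)⟩, t, ?_⟩
  refine Finset.eq_of_subset_of_card_le ?_ (by rw [Finset.card_smul_finset])
  intro s hs
  obtain ⟨a, ha, rfl⟩ := Finset.mem_smul_finset.1 hs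
  obtain ⟨n, hn, rfl⟩ := mem_toFam.1 ha
  obtain ⟨b, hb, hm⟩ := hS n hn
  exact mem_toFam.2 ⟨b, hb, (t.smul_toSet hm).symm⟩

/-- The invariant of a point under the elements fixing the point 23. -/
theorem centInv_apply {c : Equiv.Perm GolayPt} (hc : c ∈ centInvRep) (h23 : c (pt 23) = pt 23)
    (x : GolayPt) : centInv (idx (c x)) = centInv (idx x) := by
  classical
  obtain ⟨hcM, hcomm⟩ := mem_centInvRep.1 hc
  obtain ⟨-, -, -, -, -, -, -, hocts⟩ := cent_facts
  simp only [List.all_eq_true, Bool.and_eq_true, Nat.beq_eq] at hocts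
  have hN : ∀ y : GolayPt, centInv (idx y) =
      {o : Finset GolayPt | o ∈ octads ∧ invRep • o = o ∧ pt 23 ∈ o ∧ y ∈ o}.ncard := by
    intro y
    have e : {o : Finset GolayPt | o ∈ octads ∧ invRep • o = o ∧ pt 23 ∈ o ∧ y ∈ o} =
        (((centOcts.filter fun o => o.testBit 23 && o.testBit (idx y)).toFinset.image toSet :
          Finset _) : Set (Finset GolayPt)) := by
      ext s
      simp only [Set.mem_ofPred_eq, Finset.coe_image, Set.mem_image, Finset.mem_coe,
        List.mem_toFinset, List.mem_filter, Bool.and_eq_true]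
      constructor
      · rintro ⟨hs, hfix, h1, h2⟩
        obtain ⟨k, hk, rfl⟩ := octad_iff.1 hs
        have := List.all_eq_true.1 cent_octs_complete k (List.mem_range.2 hk)
        have hm : maps inv0Tab (lane octP k) (lane octP k) = true := by
          simp only [maps, List.all_eq_true, List.mem_range, beq_iff_eq]
          intro i hi
          have h' := Finset.ext_iff.1 hfix (invRep (pt i))
          rw [← Finset.inv_smul_mem_iff, Equiv.Perm.smul_def, Equiv.Perm.coe_inv,
            Equiv.symm_apply_apply, Golay.mem_toSet, Golay.mem_toSet, Golay.idx_pt hi,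
            tab_invRep i hi] at h'
          exact (Bool.eq_iff_iff.2 h').symm
        rw [hm] at this
        simp only [Bool.not_true, Bool.false_or, List.contains_iff_mem] at this
        rw [Golay.mem_toSet, Golay.idx_pt (by norm_num)] at h1
        exact ⟨_, ⟨this, h1, Golay.mem_toSet.1 h2⟩, rfl⟩
      · rintro ⟨n, ⟨hn, h1, h2⟩, rfl⟩
        obtain ⟨⟨hcode, h8⟩, hm⟩ := hocts n hn
        refine ⟨Golay.octad_mem_iff.2 ⟨n, hcode, h8, rfl⟩, tab_invRep.smul_toSet hm, ?_,
          Golay.mem_toSet.2 h2⟩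
        rw [Golay.mem_toSet, Golay.idx_pt (by norm_num)]
        exact h1
    have hnd : (centOcts.filter fun o => o.testBit 23 && o.testBit (idx y)).Nodup :=
      (show centOcts.Nodup by decide +kernel).filter _
    rw [e, Set.ncard_coe_finset, Finset.card_image_of_injOn, List.toFinset_card_of_nodup hnd]
    · rfl
    intro a ha b hb hab
    simp only [Finset.mem_coe, List.mem_toFinset, List.mem_filter] at ha hb
    exact Golay.toSet_injOn (Golay.inCode_lt (hocts a ha.1).1.1)
      (Golay.inCode_lt (hocts b hb.1).1.1) hab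
  rw [hN, hN, eq_comm, ← Set.ncard_smul_set c]
  congr 1
  ext o
  rw [Set.mem_smul_set_iff_inv_smul_mem]
  simp only [Set.mem_ofPred_eq]
  have hci : invRep * c⁻¹ = c⁻¹ * invRep := by
    rw [eq_inv_mul_iff_mul_eq, ← mul_assoc, hcomm, mul_inv_cancel_right]
  have hmem : ∀ p, p ∈ c⁻¹ • o ↔ c p ∈ o := fun p => by
    rw [← Finset.inv_smul_mem_iff, inv_inv, Equiv.Perm.smul_def]
  rw [hmem, hmem, h23, ← mul_smul, hci, mul_smul, smul_left_cancel_iff]
  refine ⟨fun ⟨h1, h2⟩ => ⟨?_, h2⟩, fun ⟨h1, h2⟩ => ⟨?_, h2⟩⟩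
  · have := smul_octad ⟨c, hcM⟩ h1
    rwa [show (⟨c, hcM⟩ : ↥Cfsg.M24) • c⁻¹ • o = o from smul_inv_smul c o] at this
  · exact smul_octad ⟨c⁻¹, Cfsg.M24.inv_mem hcM⟩ h1

theorem apply_pt_of_tab {g : Equiv.Perm GolayPt} {l : List ℕ} (t : Tab g l) {i : ℕ} (hi : i < 24) :
    g (pt i) = pt (l.getD i 0) := by
  rw [t.apply, Golay.idx_pt hi]

/-- Elements of the centraliser fixing 23 and 1 are in the list. -/
theorem cent_fix_four {c : Equiv.Perm GolayPt} (hc : c ∈ centInvRep) (h23 : c (pt 23) = pt 23)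
    (h1 : c (pt 1) = pt 1) : ∃ l ∈ centTabK, Tab c l := by
  obtain ⟨hcM, hcomm⟩ := mem_centInvRep.1 hc
  obtain ⟨-, -, -, -, -, -, ⟨t0, t1⟩, -⟩ := cent_facts
  have hswap : ∀ p, c (invRep p) = invRep (c p) := fun p => DFunLike.congr_fun hcomm p
  have h0 : c (pt 0) = pt 0 := by
    rw [← t0, ← apply_pt_of_tab tab_invRep (by norm_num : 23 < 24), hswap, h23]
  have h2 : c (pt 2) = pt 2 := by
    rw [← t1, ← apply_pt_of_tab tab_invRep (by norm_num : 1 < 24), hswap, h1]
  have hbp : ∀ j < 4, c (bp j) = bp j := by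
    intro j hj
    have hb : bp 0 = pt 23 ∧ bp 1 = pt 0 ∧ bp 2 = pt 1 ∧ bp 3 = pt 2 := by decide +kernel
    interval_cases j
    · rw [hb.1, h23]
    · rw [hb.2.1, h0]
    · rw [hb.2.2.1, h1]
    · rw [hb.2.2.2, h2]
  obtain ⟨a, ha, b, hb, d, hd, t⟩ := exists_decomp_four (Golay.mem_fixUpTo.2 ⟨hcM, hbp⟩)
  have hk := cent_K_complete
  simp only [List.all_eq_true, Bool.or_eq_true, Bool.not_eq_true', List.contains_iff_mem] at hk
  refine ⟨_, (hk a ha b hb d hd).resolve_left ?_, t⟩
  rw [Bool.not_eq_false]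
  simp only [commutes3, List.all_eq_true, List.mem_range, Nat.beq_eq]
  intro i hi
  have hcomp : ∀ j < 24, (comp a (comp b d)).getD j 0 = a.getD (b.getD (d.getD j 0) 0) 0 := by
    intro j hj
    rw [comp, Golay.getD_map_range _ hj, comp, Golay.getD_map_range _ hj]
  rw [← hcomp _ (tab_invRep.lt hi), ← hcomp _ hi, ← t _ (tab_invRep.lt hi),
    ← apply_pt_of_tab tab_invRep hi, hswap, ← tab_invRep _ (t.lt hi), ← t i hi,
    Golay.pt_idx]

/-- Normal form of the elements of the centraliser. -/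
theorem cent_decomp {c : Equiv.Perm GolayPt} (hc : c ∈ centInvRep) :
    ∃ a ∈ centInvRep, ∃ b ∈ centInvRep, ∃ k ∈ centInvRep,
      (∃ l ∈ centTabA, Tab a l) ∧ (∃ l ∈ centTabB, Tab b l) ∧ (∃ l ∈ centTabK, Tab k l) ∧
      c = a * b * k := by
  obtain ⟨-, hA, hB, hB1, -⟩ := cent_facts
  obtain ⟨la, hla, ea⟩ : ∃ l ∈ centTabA, l.getD 23 0 = idx (c (pt 23)) := by
    have : idx (c (pt 23)) ∈ centTabA.map fun l => l.getD 23 0 := by
      rw [hA, List.mem_range]; exact Golay.idx_lt _
    exact List.mem_map.1 this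
  obtain ⟨a, ha, ta, -⟩ := tab_of_mem (List.mem_append_left _ (List.mem_append_left _ hla))
  have hx : a⁻¹ * c ∈ centInvRep := centInvRep.mul_mem (centInvRep.inv_mem ha) hc
  have hx23 : (a⁻¹ * c) (pt 23) = pt 23 := by
    rw [Equiv.Perm.mul_apply, Equiv.Perm.coe_inv, Equiv.symm_apply_eq,
      apply_pt_of_tab ta (by norm_num), ea, Golay.pt_idx]
  have hy : idx ((a⁻¹ * c) (pt 1)) ∈ centTabB.map fun l => l.getD 1 0 := by
    rw [hB1, List.mem_filter, List.mem_range, Nat.beq_eq, centInv_apply hx hx23]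
    exact ⟨Golay.idx_lt _, by decide +kernel⟩
  obtain ⟨lb, hlb, eb⟩ := List.mem_map.1 hy
  obtain ⟨b, hb, tb, -⟩ := tab_of_mem (List.mem_append_left _ (List.mem_append_right _ hlb))
  simp only [List.all_eq_true, Bool.and_eq_true, Nat.beq_eq] at hB
  have hz : b⁻¹ * (a⁻¹ * c) ∈ centInvRep := centInvRep.mul_mem (centInvRep.inv_mem hb) hx
  have hb23 : b (pt 23) = pt 23 := by rw [apply_pt_of_tab tb (by norm_num), (hB lb hlb).1]
  obtain ⟨lk, hlk, tk⟩ := cent_fix_four hz
    (by rw [Equiv.Perm.mul_apply, hx23, Equiv.Perm.coe_inv, Equiv.symm_apply_eq, hb23])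
    (by rw [Equiv.Perm.mul_apply, Equiv.Perm.coe_inv b, Equiv.symm_apply_eq,
      apply_pt_of_tab tb (by norm_num), eb, Golay.pt_idx])
  exact ⟨a, ha, b, hb, _, hz, ⟨la, hla, ta⟩, ⟨lb, hlb, tb⟩, ⟨lk, hlk, tk⟩, by group⟩

theorem card_centInvRep : Nat.card ↥centInvRep = 7680 := by
  obtain ⟨⟨la, lb, lk⟩, hA, hB, hB1, hK, hKnd, -⟩ := cent_facts
  simp only [List.all_eq_true, Bool.and_eq_true, Nat.beq_eq] at hB hK
  have hmem : ∀ {l}, l ∈ centTabA ++ centTabB ++ centTabK → ∃ g : ↥centInvRep,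
      Tab (g : Equiv.Perm GolayPt) l := fun h => by
    obtain ⟨g, hg, t, -⟩ := tab_of_mem h
    exact ⟨⟨g, hg⟩, t⟩
  have hfa : ∀ i : Fin centTabA.length, ∃ g : ↥centInvRep, Tab (g : Equiv.Perm GolayPt) centTabA[i] :=
    fun i => hmem (List.mem_append_left _ (List.mem_append_left _ (List.getElem_mem i.isLt)))
  have hfb : ∀ i : Fin centTabB.length, ∃ g : ↥centInvRep, Tab (g : Equiv.Perm GolayPt) centTabB[i] :=
    fun i => hmem (List.mem_append_left _ (List.mem_append_right _ (List.getElem_mem i.isLt)))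
  have hfk : ∀ i : Fin centTabK.length, ∃ g : ↥centInvRep, Tab (g : Equiv.Perm GolayPt) centTabK[i] :=
    fun i => hmem (List.mem_append_right _ (List.getElem_mem i.isLt))
  choose fa hfa using hfa
  choose fb hfb using hfb
  choose fk hfk using hfk
  let f : Fin centTabA.length × Fin centTabB.length × Fin centTabK.length → ↥centInvRep :=
    fun x => fa x.1 * fb x.2.1 * fk x.2.2
  have hk23 : ∀ i, ((fk i : ↥centInvRep) : Equiv.Perm GolayPt) (pt 23) = pt 23 ∧
      ((fk i : ↥centInvRep) : Equiv.Perm GolayPt) (pt 1) = pt 1 := fun i =>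
    ⟨(apply_pt_of_tab (hfk i) (by norm_num)).trans
        (congrArg pt (hK _ (List.getElem_mem i.isLt) 23 (by simp))),
      (apply_pt_of_tab (hfk i) (by norm_num)).trans
        (congrArg pt (hK _ (List.getElem_mem i.isLt) 1 (by simp)))⟩
  have hb23 : ∀ i, ((fb i : ↥centInvRep) : Equiv.Perm GolayPt) (pt 23) = pt 23 := fun i => by
    rw [apply_pt_of_tab (hfb i) (by norm_num)]
    exact congrArg pt (hB _ (List.getElem_mem i.isLt)).1
  have hf : Function.Bijective f := by
    refine ⟨?_, fun c => ?_⟩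
    · rintro ⟨i, j, l⟩ ⟨i', j', l'⟩ e
      have e' := congrArg (Subtype.val) e
      simp only [f, Subgroup.coe_mul] at e'
      have hA' : (centTabA.map fun l => l.getD 23 0).Nodup := by rw [hA]; exact List.nodup_range
      have hi : i = i' := by
        have h := DFunLike.congr_fun e' (pt 23)
        simp only [Equiv.Perm.mul_apply, (hk23 _).1, hb23] at h
        have h2 := congrArg idx h
        rw [hfa i 23 (by norm_num), hfa i' 23 (by norm_num)] at h2
        refine Fin.ext ((hA'.getElem_inj_iff (i := i.1) (j := i'.1) (hi := by simp)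
          (hj := by simp)).1 ?_)
        simpa using h2
      subst hi
      have e2 := mul_left_cancel (by simpa only [mul_assoc] using e' :
        ((fa i : ↥centInvRep) : Equiv.Perm GolayPt) * (_ * _) = _ * (_ * _))
      have hB' : (centTabB.map fun l => l.getD 1 0).Nodup := by
        rw [hB1]; exact List.nodup_range.filter _
      have hj : j = j' := by
        have h := DFunLike.congr_fun e2 (pt 1)
        simp only [Equiv.Perm.mul_apply, (hk23 _).2] at h
        have h2 := congrArg idx h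
        rw [hfb j 1 (by norm_num), hfb j' 1 (by norm_num)] at h2
        refine Fin.ext ((hB'.getElem_inj_iff (i := j.1) (j := j'.1) (hi := by simp)
          (hj := by simp)).1 ?_)
        simpa using h2
      subst hj
      have hl : l = l' := by
        have e3 := mul_left_cancel e2
        refine Fin.ext ((hKnd.getElem_inj_iff (i := l.1) (j := l'.1) (hi := l.isLt)
          (hj := l'.isLt)).1 ?_)
        have hlen : ∀ x ∈ centTabK, x.length = 24 := by decide +kernel
        refine List.ext_getElem (by rw [hlen _ (List.getElem_mem _), hlen _ (List.getElem_mem _)])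
          fun n hn hn' => ?_
        have hn24 : n < 24 := hlen centTabK[l.1] (List.getElem_mem _) ▸ hn
        rw [← List.getD_eq_getElem _ 0 hn, ← List.getD_eq_getElem _ 0 hn']
        exact (hfk l n hn24).symm.trans ((by rw [e3] : idx _ = idx _).trans (hfk l' n hn24))
      rw [hl]
    · obtain ⟨a, -, b, -, k, -, ⟨_, hla, ta⟩, ⟨_, hlb, tb⟩, ⟨_, hlk, tk⟩, e⟩ := cent_decomp c.2
      obtain ⟨i, hi, rfl⟩ := List.getElem_of_mem hla
      obtain ⟨j, hj, rfl⟩ := List.getElem_of_mem hlb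
      obtain ⟨l, hl, rfl⟩ := List.getElem_of_mem hlk
      refine ⟨(⟨i, hi⟩, ⟨j, hj⟩, ⟨l, hl⟩), Subtype.ext ?_⟩
      rw [e, Golay.tab_unique ta (hfa ⟨i, hi⟩), Golay.tab_unique tb (hfb ⟨j, hj⟩),
        Golay.tab_unique tk (hfk ⟨l, hl⟩)]
      rfl
  rw [← Nat.card_congr (Equiv.ofBijective f hf), Nat.card_prod, Nat.card_prod, Nat.card_fin,
    Nat.card_fin, Nat.card_fin, la, lb, lk]

theorem cent_sextet {c : Equiv.Perm GolayPt} (hc : c ∈ centInvRep) :
    c • toFam centSextet = toFam centSextet := by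
  obtain ⟨a, -, b, -, k, -, ⟨_, hla, ta⟩, ⟨_, hlb, tb⟩, ⟨_, hlk, tk⟩, rfl⟩ := cent_decomp hc
  obtain ⟨a', -, ta', sa⟩ := tab_of_mem (List.mem_append_left _ (List.mem_append_left _ hla))
  obtain ⟨b', -, tb', sb⟩ := tab_of_mem (List.mem_append_left _ (List.mem_append_right _ hlb))
  obtain ⟨k', -, tk', sk⟩ := tab_of_mem (List.mem_append_right _ hlk)
  rw [Golay.tab_unique ta ta', Golay.tab_unique tb tb', Golay.tab_unique tk tk', mul_smul, mul_smul,
    sk, sb, sa]

set_option maxRecDepth 40000 in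
theorem centSextet_mem : toFam centSextet ∈ sextets := by
  refine sextet_iff.2 ⟨centSextetIdx, by decide +kernel, ?_⟩
  have h : (List.range 6).map (fun r => lane sextP (6 * centSextetIdx + r)) = centSextet := by
    decide +kernel
  rw [fam, h]

theorem centraliser_fpf {t : Equiv.Perm GolayPt} (ht : t ∈ Cfsg.M24) (h₂ : orderOf t = 2)
    (h₀ : ∀ p, t p ≠ p) :
    Nat.card {c : Equiv.Perm GolayPt // c ∈ Cfsg.M24 ∧ c * t = t * c} = 7680 ∧
      (∀ p q : GolayPt, ∃ c ∈ Cfsg.M24, c * t = t * c ∧ c p = q) ∧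
      ∃ S ∈ sextets, t • S = S ∧ ∀ c ∈ Cfsg.M24, c * t = t * c → c • S = S := by
  obtain ⟨u, hu, r, tr, rfl⟩ : ∃ k ∈ Cfsg.M24, ∃ r, Tab r inv0Tab ∧ k * r * k⁻¹ = t := by
    rcases exists_rep_two ht h₂ with ⟨h8, -⟩ | ⟨-, h⟩
    · rw [card_fixedPts_zero_iff.2 h₀] at h8; omega
    · exact h
  obtain rfl := Golay.tab_unique tr tab_invRep
  have hconj : ∀ c, (c ∈ Cfsg.M24 ∧ c * (u * invRep * u⁻¹) = u * invRep * u⁻¹ * c) ↔
      u⁻¹ * c * u ∈ centInvRep := by
    intro c
    rw [mem_centInvRep]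
    constructor
    · rintro ⟨hc, e⟩
      refine ⟨Cfsg.M24.mul_mem (Cfsg.M24.mul_mem (Cfsg.M24.inv_mem hu) hc) hu, ?_⟩
      calc u⁻¹ * c * u * invRep = u⁻¹ * (c * (u * invRep * u⁻¹)) * u := by group
        _ = invRep * (u⁻¹ * c * u) := by rw [e]; group
    · rintro ⟨hc, e⟩
      refine ⟨?_, ?_⟩
      · have := Cfsg.M24.mul_mem (Cfsg.M24.mul_mem hu hc) (Cfsg.M24.inv_mem hu)
        rwa [show u * (u⁻¹ * c * u) * u⁻¹ = c by group] at this
      · calc c * (u * invRep * u⁻¹) = u * (u⁻¹ * c * u * invRep) * u⁻¹ := by group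
          _ = _ := by rw [e]; group
  refine ⟨?_, fun p q => ?_, u • toFam centSextet, smul_sextet ⟨u, hu⟩ centSextet_mem, ?_, ?_⟩
  · rw [← card_centInvRep]
    exact Nat.card_congr ((MulAut.conj u⁻¹).toEquiv.subtypeEquiv fun c => by
      rw [hconj c]; simp [MulAut.conj_apply])
  · obtain ⟨-, hA, -⟩ := cent_facts
    have hgo : ∀ x : GolayPt, ∃ a ∈ centInvRep, a (pt 23) = x := by
      intro x
      have : idx x ∈ centTabA.map fun l => l.getD 23 0 := by
        rw [hA, List.mem_range]; exact Golay.idx_lt _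
      obtain ⟨l, hl, e⟩ := List.mem_map.1 this
      obtain ⟨a, ha, ta, -⟩ := tab_of_mem (List.mem_append_left _ (List.mem_append_left _ hl))
      exact ⟨a, ha, by rw [apply_pt_of_tab ta (by norm_num), e, Golay.pt_idx]⟩
    obtain ⟨a, ha, hap⟩ := hgo (u⁻¹ p)
    obtain ⟨b, hb, hbq⟩ := hgo (u⁻¹ q)
    obtain ⟨h1, h2⟩ := (hconj (u * (b * a⁻¹) * u⁻¹)).2 (by
      rw [show u⁻¹ * (u * (b * a⁻¹) * u⁻¹) * u = b * a⁻¹ by group]
      exact centInvRep.mul_mem hb (centInvRep.inv_mem ha))
    refine ⟨_, h1, h2, ?_⟩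
    simp only [Equiv.Perm.mul_apply, ← hap, Equiv.Perm.coe_inv, Equiv.symm_apply_apply, hbq,
      Equiv.apply_symm_apply]
  · rw [mul_smul, mul_smul, inv_smul_smul,
      cent_sextet (mem_centInvRep.2 ⟨invRep_facts.1, rfl⟩)]
  · intro c hc e
    have := cent_sextet ((hconj c).1 ⟨hc, e⟩)
    rwa [mul_smul, mul_smul, inv_smul_eq_iff] at this

set_option maxRecDepth 40000 in
theorem centThree_facts : (isPermTab centThreeTab && checkAut centThreeTab &&
    (comp centThreeTab inv0Tab == comp inv0Tab centThreeTab) &&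
    (comp centThreeTab (comp centThreeTab centThreeTab) == idTab) &&
    decide (Golay.fixCount centThreeTab = 0)) = true := by
  decide +kernel

theorem fixedPts_conj_card_eq {G : Subgroup (Equiv.Perm GolayPt)} {c x y : ↥G}
    (h : c * x * c⁻¹ = y) :
    (fixedPts (x : Equiv.Perm GolayPt)).card = (fixedPts (y : Equiv.Perm GolayPt)).card := by
  rw [← h, Subgroup.coe_mul, Subgroup.coe_mul, Subgroup.coe_inv, Golay.card_fixedPts_conj]

theorem three_fpf_of_mem_centInvRep {x : Equiv.Perm GolayPt} (hx : x ∈ centInvRep)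
    (h₃ : orderOf x = 3) : (fixedPts x).card = 0 := by
  haveI : Fact (Nat.Prime 3) := ⟨Nat.prime_three⟩
  have h := centThree_facts
  simp only [Bool.and_eq_true, beq_iff_eq, decide_eq_true_eq] at h
  obtain ⟨⟨⟨⟨hp, hc⟩, hcomm⟩, hcube⟩, hfix⟩ := h
  have t := Golay.tab_permOf hp
  set y := Golay.permOf centThreeTab hp
  have hy : y ∈ centInvRep := mem_centInvRep.2 ⟨t.mem_M24 hc,
    Golay.tab_unique (t.mul tab_invRep) (hcomm.symm ▸ tab_invRep.mul t)⟩
  have hy0 : (fixedPts y).card = 0 := t.card_fixedPts.trans hfix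
  have hyo : orderOf y = 3 := by
    refine orderOf_eq_prime ?_ fun e => ?_
    · rw [pow_three]; exact Golay.tab_unique (hcube ▸ t.mul (t.mul t)) Golay.tab_one
    · rw [e, show fixedPts 1 = Finset.univ by ext; simp, Finset.card_univ,
        Golay.card_golayPt] at hy0
      omega
  set X : ↥centInvRep := ⟨x, hx⟩
  set Y : ↥centInvRep := ⟨y, hy⟩
  have hX : orderOf X = 3 := by rw [← Subgroup.orderOf_coe]; exact h₃
  have hY : orderOf Y = 3 := by rw [← Subgroup.orderOf_coe]; exact hyo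
  have hP : ∀ Z : ↥centInvRep, orderOf Z = 3 →
      ∃ P : Sylow 3 ↥centInvRep, (P : Subgroup ↥centInvRep) = Subgroup.zpowers Z := by
    intro Z hZ
    have hz : IsPGroup 3 ↥(Subgroup.zpowers Z) :=
      IsPGroup.of_card (n := 1) (by rw [Nat.card_zpowers, hZ, pow_one])
    obtain ⟨P, hle⟩ := hz.exists_le_sylow
    refine ⟨P, (Subgroup.eq_of_le_of_card_ge hle ?_).symm⟩
    obtain ⟨n, hn⟩ := P.isPGroup'.exists_card_eq
    have hdvd := (P : Subgroup ↥centInvRep).card_subgroup_dvd_card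
    rw [card_centInvRep, hn] at hdvd
    rw [Nat.card_zpowers, hZ, hn]
    by_contra hlt
    have h2 : 2 ≤ n := by
      by_contra h'
      have : 3 ^ n ≤ 3 ^ 1 := Nat.pow_le_pow_right (by norm_num) (by omega)
      omega
    have := (pow_dvd_pow 3 h2).trans hdvd
    norm_num at this
  obtain ⟨P, hPX⟩ := hP X hX
  obtain ⟨Q, hQY⟩ := hP Y hY
  obtain ⟨c, hcPQ⟩ := MulAction.exists_smul_eq ↥centInvRep P Q
  have hmem : c * X * c⁻¹ ∈ Subgroup.zpowers Y := by
    rw [← hQY, ← hcPQ]
    exact ⟨X, hPX ▸ Subgroup.mem_zpowers X, rfl⟩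
  obtain ⟨n, hn⟩ := Subgroup.mem_zpowers_iff.1 hmem
  have hsub : fixedPts (Y : Equiv.Perm GolayPt) ⊆
      fixedPts ((c * X * c⁻¹ : ↥centInvRep) : Equiv.Perm GolayPt) := by
    intro p hp
    rw [Golay.mem_fixedPts] at hp ⊢
    rw [← hn, Subgroup.coe_zpow]
    exact Equiv.Perm.zpow_apply_eq_self_of_apply_eq_self hp n
  have hZ : orderOf (c * X * c⁻¹) = 3 := by
    rw [← hX]; exact (MulEquiv.orderOf_eq (MulAut.conj c) X)
  have hzY : Subgroup.zpowers (c * X * c⁻¹) = Subgroup.zpowers Y :=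
    Subgroup.eq_of_le_of_card_ge (Subgroup.zpowers_le.2 hmem)
      (by rw [Nat.card_zpowers, Nat.card_zpowers, hZ, hY])
  obtain ⟨m, hm⟩ := Subgroup.mem_zpowers_iff.1 (hzY ▸ Subgroup.mem_zpowers Y)
  have hsup : fixedPts ((c * X * c⁻¹ : ↥centInvRep) : Equiv.Perm GolayPt) ⊆
      fixedPts (Y : Equiv.Perm GolayPt) := by
    intro p hp
    rw [Golay.mem_fixedPts] at hp ⊢
    rw [← hm, Subgroup.coe_zpow]
    exact Equiv.Perm.zpow_apply_eq_self_of_apply_eq_self hp m
  rw [show (fixedPts x).card = _ from fixedPts_conj_card_eq (c := c) (x := X) rfl,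
    Finset.Subset.antisymm hsup hsub]
  exact hy0

/-- Commuting elements of orders 3 and 2. -/
theorem commuting_three_two {x s : Equiv.Perm GolayPt} (hx : x ∈ Cfsg.M24) (hs : s ∈ Cfsg.M24)
    (h₃ : orderOf x = 3) (h₂ : orderOf s = 2) (hc : Commute x s) :
    ((fixedPts x).card = 6 ∧ (fixedPts s).card = 8) ∨
      ((fixedPts x).card = 0 ∧ (fixedPts s).card = 0) := by
  rcases exists_rep_two hs h₂ with ⟨h8, -⟩ | ⟨h0, u, hu, r, tr, rfl⟩
  · refine Or.inl ⟨(card_fixedPts_three hx h₃).resolve_right fun hx0 => ?_, h8⟩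
    have hmap : ∀ p, p ∈ fixedPts s ↔ x p ∈ fixedPts s := by
      intro p
      rw [Golay.mem_fixedPts, Golay.mem_fixedPts, ← Equiv.Perm.mul_apply s x, ← hc.eq,
        Equiv.Perm.mul_apply, EmbeddingLike.apply_eq_iff_eq]
    haveI : Fact (Nat.Prime 3) := ⟨Nat.prime_three⟩
    set y := x.subtypePerm (p := fun p => p ∈ fixedPts s) fun p => (hmap p).symm
    have hy3 : y ^ (3 ^ 1) = 1 := by
      refine Equiv.ext fun p => Subtype.ext ?_
      rw [pow_one, pow_three]
      exact DFunLike.congr_fun (by rw [← pow_three, ← h₃, pow_orderOf_eq_one] :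
        x * (x * x) = 1) p.1
    have hfix := Equiv.Perm.exists_fixed_point_of_prime (p := 3) (n := 1) (σ := y)
      (by rw [Fintype.card_coe, h8]; norm_num) hy3
    obtain ⟨⟨p, hp⟩, e⟩ := hfix
    exact card_fixedPts_zero_iff.1 hx0 p (congrArg Subtype.val e)
  · obtain rfl := Golay.tab_unique tr tab_invRep
    refine Or.inr ⟨?_, h0⟩
    have hmem : u⁻¹ * x * u ∈ centInvRep := by
      refine mem_centInvRep.2 ⟨Cfsg.M24.mul_mem (Cfsg.M24.mul_mem (Cfsg.M24.inv_mem hu) hx) hu, ?_⟩
      calc u⁻¹ * x * u * invRep = u⁻¹ * (x * (u * invRep * u⁻¹)) * u := by group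
        _ = invRep * (u⁻¹ * x * u) := by rw [hc.eq]; group
    have ho : orderOf (u⁻¹ * x * u) = 3 := by
      rw [show u⁻¹ * x * u = MulAut.conj u⁻¹ x by simp [MulAut.conj_apply],
        MulEquiv.orderOf_eq, h₃]
    have := three_fpf_of_mem_centInvRep hmem ho
    rwa [show u⁻¹ * x * u = u⁻¹ * x * u⁻¹⁻¹ by rw [inv_inv], Golay.card_fixedPts_conj] at this

end Cfsg.Agent.Sporadic96
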