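import Cfsg.Agent.Sporadic96.M24.CertOct
import Cfsg.Agent.Sporadic96.M24.CertTrio
import Cfsg.Agent.Sporadic96.M24.CertSext

/-!
`M24` is transitive on octads, trios and sextets, and base objects for the stabiliser certificates.
-/

set_option autoImplicit false

namespace Cfsg.Agent.Sporadic96

open scoped Pointwise
open Cfsg.Agent.Golay (toSet)

theorem transitive_of_table {P m : ℕ} {F : Set (Finset (Finset GolayPt))} {reps : List (ℕ × ℕ)}
    (hlen : reps.length = 1) {q : ℕ} (hq : reps.map Prod.fst = [q])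
    (h : ∀ T ∈ F, ∃ j, ∃ hj : j < reps.length,
      T ∈ MulAction.orbit ↥(⊤ : Subgroup ↥Cfsg.M24) (fam m P reps[j].1)) :
    ∀ T ∈ F, ∃ g : ↥Cfsg.M24, g • fam m P q = T := by
  intro T hT
  obtain ⟨j, hj, hTj⟩ := h T hT
  obtain ⟨g, hg⟩ := MulAction.mem_orbit_iff.mp hTj
  obtain ⟨p, rfl⟩ := List.length_eq_one_iff.mp hlen
  simp only [List.map_cons, List.map_nil, List.cons.injEq, and_true] at hq
  obtain rfl : j = 0 := by simpa using hj
  exact ⟨g, by rw [← hq]; exact hg⟩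

set_option maxRecDepth 40000 in
theorem exists_smul_baseTrio {T : Finset (Finset GolayPt)} (hT : T ∈ trios) :
    ∃ g : ↥Cfsg.M24, g • toFam baseT = T := by
  rw [baseT_eq]
  exact transitive_of_table rfl rfl (tableTrio 0 (by decide)).2.2 T hT

set_option maxRecDepth 40000 in
theorem exists_smul_baseSextet {T : Finset (Finset GolayPt)} (hT : T ∈ sextets) :
    ∃ g : ↥Cfsg.M24, g • toFam baseS = T := by
  rw [baseS_eq]
  exact transitive_of_table rfl rfl (tableSext 0 (by decide)).2.2 T hT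

set_option maxRecDepth 40000 in
theorem exists_smul_baseOctad {o : Finset GolayPt} (ho : o ∈ octads) :
    ∃ g : ↥Cfsg.M24, g • toFam baseO = {o} := by
  rw [baseO_eq]
  exact transitive_of_table rfl rfl (tableOct 0 (by decide)).2.2 _ ⟨o, ho, rfl⟩

theorem trios_transitive {T T' : Finset (Finset GolayPt)} (hT : T ∈ trios) (hT' : T' ∈ trios) :
    ∃ g : ↥Cfsg.M24, g • T = T' := by
  obtain ⟨a, rfl⟩ := exists_smul_baseTrio hT
  obtain ⟨b, rfl⟩ := exists_smul_baseTrio hT'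
  exact ⟨b * a⁻¹, by rw [smul_smul, inv_mul_cancel_right]⟩

theorem sextets_transitive {S S' : Finset (Finset GolayPt)} (hS : S ∈ sextets)
    (hS' : S' ∈ sextets) : ∃ g : ↥Cfsg.M24, g • S = S' := by
  obtain ⟨a, rfl⟩ := exists_smul_baseSextet hS
  obtain ⟨b, rfl⟩ := exists_smul_baseSextet hS'
  exact ⟨b * a⁻¹, by rw [smul_smul, inv_mul_cancel_right]⟩

/-- Moving an orbit table from the fixed object to a conjugate one. -/
theorem transport_table {α : Type} [MulAction ↥Cfsg.M24 α] {Y : Finset (Finset GolayPt)}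
    {F : Set α} {reps : List (ℕ × ℕ)} {sizes : List ℕ} {f : ℕ → α}
    (h : ∀ i (hi : i < reps.length), f reps[i].1 ∈ F ∧
      (MulAction.orbit ↥(MulAction.stabilizer ↥Cfsg.M24 Y) (f reps[i].1)).ncard = sizes.getD i 0 ∧
      ∀ T ∈ F, ∃ j, ∃ hj : j < reps.length,
        T ∈ MulAction.orbit ↥(MulAction.stabilizer ↥Cfsg.M24 Y) (f reps[j].1))
    (hclosed : ∀ g : ↥Cfsg.M24, ∀ T ∈ F, g • T ∈ F) (g : ↥Cfsg.M24) :
    ∀ i (hi : i < reps.length), g • f reps[i].1 ∈ F ∧
      (MulAction.orbit ↥(MulAction.stabilizer ↥Cfsg.M24 (g • Y)) (g • f reps[i].1)).ncard =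
        sizes.getD i 0 ∧
      ∀ T, T ∈ F ↔ ∃ j, ∃ hj : j < reps.length,
        T ∈ MulAction.orbit ↥(MulAction.stabilizer ↥Cfsg.M24 (g • Y)) (g • f reps[j].1) := by
  intro i hi
  obtain ⟨h1, h2, h3⟩ := h i hi
  refine ⟨hclosed g _ h1, by rw [ncard_orbit_stabilizer_smul, h2], fun T => ⟨fun hT => ?_, ?_⟩⟩
  · obtain ⟨j, hj, hT'⟩ := h3 (g⁻¹ • T) (hclosed g⁻¹ T hT)
    refine ⟨j, hj, ?_⟩
    rw [orbit_stabilizer_smul, Set.mem_smul_set_iff_inv_smul_mem]
    exact hT'
  · rintro ⟨j, hj, hT⟩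
    obtain ⟨k, rfl⟩ := MulAction.mem_orbit_iff.mp hT
    exact hclosed (k : ↥Cfsg.M24) _ (hclosed g _ (h j hj).1)

/-- A table about one-member families is a table about octads. -/
theorem octad_table {Y : Finset (Finset GolayPt)} {reps : List (ℕ × ℕ)} {sizes : List ℕ}
    (h : ∀ i (hi : i < reps.length),
      fam 1 octP reps[i].1 ∈ (fun o => ({o} : Finset (Finset GolayPt))) '' octads ∧
      (MulAction.orbit ↥(MulAction.stabilizer ↥Cfsg.M24 Y) (fam 1 octP reps[i].1)).ncard =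
        sizes.getD i 0 ∧
      ∀ T ∈ (fun o => ({o} : Finset (Finset GolayPt))) '' octads, ∃ j, ∃ hj : j < reps.length,
        T ∈ MulAction.orbit ↥(MulAction.stabilizer ↥Cfsg.M24 Y) (fam 1 octP reps[j].1)) :
    ∀ i (hi : i < reps.length), toSet (lane octP reps[i].1) ∈ octads ∧
      (MulAction.orbit ↥(MulAction.stabilizer ↥Cfsg.M24 Y) (toSet (lane octP reps[i].1))).ncard =
        sizes.getD i 0 ∧
      ∀ o ∈ octads, ∃ j, ∃ hj : j < reps.length,
        o ∈ MulAction.orbit ↥(MulAction.stabilizer ↥Cfsg.M24 Y) (toSet (lane octP reps[j].1)) := by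
  intro i hi
  obtain ⟨h1, h2, h3⟩ := h i hi
  rw [fam_one] at h1 h2
  refine ⟨?_, ?_, fun o ho => ?_⟩
  · obtain ⟨o, ho, e⟩ := h1
    simp only [Finset.singleton_inj] at e
    exact e ▸ ho
  · rw [← h2, orbit_singleton, Set.ncard_image_of_injective _ Finset.singleton_injective]
  · obtain ⟨j, hj, hm⟩ := h3 _ ⟨o, ho, rfl⟩
    refine ⟨j, hj, ?_⟩
    rw [fam_one, orbit_singleton] at hm
    obtain ⟨b, hb, e⟩ := hm
    simp only [Finset.singleton_inj] at e
    exact e ▸ hb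

end Cfsg.Agent.Sporadic96
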