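import Cfsg.Agent.Sporadic96.M24.ThroughData
import Cfsg.Agent.Sporadic96.M24.OctadPair
import Cfsg.Agent.Sporadic96.M24.Stab

/-!
The fifteen trios through an octad.

Main result: `trios_through_octad`.
-/

set_option autoImplicit false

namespace Cfsg.Agent.Sporadic96

open scoped Pointwise
open Cfsg.Agent.Golay (idx pt toSet Tab isPermTab checkAut maps)
open Cfsg.Agent.SporStruct.M24 (setStab pointFix mem_setStab mem_pointFix octadHom)

/-- The trios through the base octad. -/
noncomputable def throughTrio (i : ℕ) : Finset (Finset GolayPt) :=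
  fam 3 trioP (throughIdx.getD i 0)

/-- The table maps one trio into the other. -/
def mapsTrio (l : List ℕ) (j k : ℕ) : Bool :=
  (List.range 3).all fun r => (List.range 3).any fun s =>
    maps l (lane trioP (3 * j + r)) (lane trioP (3 * k + s))

set_option maxRecDepth 40000 in
theorem through_facts :
    (throughIdx.length = 15 ∧ throughTabA.length = 15 ∧ throughTabB.length = 14 ∧
      throughTabP.length = 16) ∧
    ((throughTabA ++ throughTabB ++ throughTabP).all fun l =>
      isPermTab l && checkAut l && maps l 5279 5279) = true ∧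
    ((List.range 15).all fun i =>
      mapsTrio (throughTabA.getD i []) (throughIdx.getD 0 0) (throughIdx.getD i 0)) = true ∧
    ((List.range 14).all fun i =>
      mapsTrio (throughTabB.getD i []) (throughIdx.getD 0 0) (throughIdx.getD 0 0) &&
      mapsTrio (throughTabB.getD i []) (throughIdx.getD 1 0) (throughIdx.getD (i + 1) 0)) = true ∧
    (throughTabP.all fun l => (List.range 15).all fun i =>
      mapsTrio l (throughIdx.getD i 0) (throughIdx.getD i 0)) = true ∧
    (throughTabP.all fun l => (List.range 24).all fun i =>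
      !(Nat.testBit 5279 i) || (l.getD i 0).beq i) = true ∧
    (List.range 24).all (fun i => Nat.testBit 5279 i ||
      throughTabP.any fun l => (l.getD 6 0).beq i) = true ∧
    Nat.testBit 5279 6 = false ∧ throughIdx.Nodup ∧ (throughIdx.all fun k => k.blt 3795) = true := by
  decide +kernel

set_option maxRecDepth 40000 in
theorem through_complete : (List.range 3795).all (fun k =>
    if (List.range 3).any (fun r => (lane trioP (3 * k + r)).beq 5279) then throughIdx.contains k
    else true) = true ∧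
    (List.range 15).all (fun i =>
      (List.range 3).any fun r => (lane trioP (3 * throughIdx.getD i 0 + r)).beq 5279) = true := by
  decide +kernel

theorem smul_trio_of_tab {σ : Equiv.Perm GolayPt} {l : List ℕ} (h : Tab σ l) {j k : ℕ}
    (hj : j < 3795) (hk : k < 3795) (hm : mapsTrio l j k = true) :
    σ • fam 3 trioP j = fam 3 trioP k := by
  have h3 : ∀ i < 3795, (fam 3 trioP i).card = 3 := fun i hi => (trio_iff.2 ⟨i, hi, rfl⟩).1
  refine Finset.eq_of_subset_of_card_le ?_ (by rw [Finset.card_smul_finset, h3 j hj, h3 k hk])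
  intro x hx
  obtain ⟨a, ha, rfl⟩ := Finset.mem_smul_finset.1 hx
  obtain ⟨r, hr, rfl⟩ := mem_fam.1 ha
  simp only [mapsTrio, List.all_eq_true, List.any_eq_true, List.mem_range] at hm
  obtain ⟨s, hs, hms⟩ := hm r hr
  exact mem_fam.2 ⟨s, hs, (h.smul_toSet hms).symm⟩

theorem throughIdx_lt {i : ℕ} (hi : i < 15) : throughIdx.getD i 0 < 3795 := by
  obtain ⟨⟨hl, -⟩, -, -, -, -, -, -, -, -, hlt⟩ := through_facts
  have := List.all_eq_true.1 hlt (throughIdx[i]'(hl ▸ hi)) (List.getElem_mem _)
  rw [List.getD_eq_getElem _ _ (hl ▸ hi)]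
  simpa [Nat.blt_eq] using this

theorem throughTrio_injective {i j : ℕ} (hi : i < 15) (hj : j < 15)
    (h : throughTrio i = throughTrio j) : i = j := by
  have e := fam_trio_injective (throughIdx_lt hi) (throughIdx_lt hj) h
  obtain ⟨⟨hl, -⟩, -, -, -, -, -, -, -, hnd, -⟩ := through_facts
  rw [List.getD_eq_getElem _ _ (hl ▸ hi), List.getD_eq_getElem _ _ (hl ▸ hj)] at e
  exact hnd.getElem_inj_iff.1 e

theorem mem_through {T : Finset (Finset GolayPt)} :
    (T ∈ trios ∧ pairBase ∈ T) ↔ ∃ i < 15, throughTrio i = T := by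
  have hc := through_complete
  simp only [List.all_eq_true, List.mem_range, List.any_eq_true, Nat.beq_eq] at hc
  constructor
  · rintro ⟨hT, ho⟩
    obtain ⟨k, hk, rfl⟩ := trio_iff.1 hT
    obtain ⟨r, hr, e⟩ := mem_fam.1 ho
    have e' : lane trioP (3 * k + r) = 5279 :=
      Golay.toSet_injOn (lane_lt _ _) (by norm_num) e
    have := hc.1 k hk
    rw [if_pos (by
      exact ⟨r, hr, e'⟩)] at this
    obtain ⟨i, hi, rfl⟩ := List.getElem_of_mem (List.contains_iff_mem.1 this)
    refine ⟨i, through_facts.1.1 ▸ hi, ?_⟩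
    rw [throughTrio, List.getD_eq_getElem]
  · rintro ⟨i, hi, rfl⟩
    refine ⟨trio_iff.2 ⟨_, throughIdx_lt hi, rfl⟩, ?_⟩
    obtain ⟨r, hr, e⟩ := hc.2 i hi
    exact mem_fam.2 ⟨r, hr, by rw [e]; rfl⟩

theorem through_perm {l : List ℕ} (h : l ∈ throughTabA ++ throughTabB ++ throughTabP) :
    ∃ g ∈ setStab pairBase, Tab g l := by
  have hl := List.all_eq_true.1 through_facts.2.1 l h
  simp only [Bool.and_eq_true] at hl
  exact ⟨_, mem_setStab.2 ⟨(Golay.tab_permOf hl.1.1).mem_M24 hl.1.2,
    (Golay.tab_permOf hl.1.1).smul_toSet hl.2⟩, Golay.tab_permOf hl.1.1⟩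

theorem smul_through {g : Equiv.Perm GolayPt} (hg : g ∈ setStab pairBase) {i : ℕ} (hi : i < 15) :
    ∃ j < 15, g • throughTrio i = throughTrio j := by
  obtain ⟨hT, ho⟩ := mem_through.2 ⟨i, hi, rfl⟩
  obtain ⟨hgM, hgo⟩ := mem_setStab.1 hg
  obtain ⟨j, hj, e⟩ := (mem_through (T := g • throughTrio i)).1
    ⟨smul_trio ⟨g, hgM⟩ hT, hgo ▸ Finset.smul_mem_smul_finset ho⟩
  exact ⟨j, hj, e.symm⟩

theorem through_two_transitive {i j i' j' : ℕ} (hi : i < 15) (hj : j < 15) (hi' : i' < 15)
    (hj' : j' < 15) (hne : i ≠ j) (hne' : i' ≠ j') :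
    ∃ g ∈ setStab pairBase, g • throughTrio i = throughTrio i' ∧
      g • throughTrio j = throughTrio j' := by
  obtain ⟨⟨-, hla, hlb, -⟩, -, hA, hB, -⟩ := through_facts
  simp only [List.all_eq_true, List.mem_range, Bool.and_eq_true] at hA hB
  have key : ∀ i j, i < 15 → j < 15 → i ≠ j → ∃ g ∈ setStab pairBase,
      g • throughTrio 0 = throughTrio i ∧ g • throughTrio 1 = throughTrio j := by
    intro i j hi hj hne
    obtain ⟨a, ha, ta⟩ := through_perm (List.mem_append_left _ (List.mem_append_left _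
      (List.getElem_mem (show i < throughTabA.length by omega))))
    rw [← List.getD_eq_getElem _ []] at ta
    have ea : a • throughTrio 0 = throughTrio i :=
      smul_trio_of_tab ta (throughIdx_lt (by norm_num)) (throughIdx_lt hi) (hA i hi)
    obtain ⟨k, hk, ek⟩ := smul_through ((setStab pairBase).inv_mem ha) hj
    have hk0 : k ≠ 0 := by
      rintro rfl
      rw [inv_smul_eq_iff, ea] at ek
      exact hne (throughTrio_injective hi hj ek.symm)
    obtain ⟨b, hb, tb⟩ := through_perm (List.mem_append_left _ (List.mem_append_right _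
      (List.getElem_mem (show k - 1 < throughTabB.length by omega))))
    rw [← List.getD_eq_getElem _ []] at tb
    have hB' := hB (k - 1) (by omega)
    rw [Nat.sub_add_cancel (Nat.pos_of_ne_zero hk0)] at hB'
    have e0 : b • throughTrio 0 = throughTrio 0 :=
      smul_trio_of_tab tb (throughIdx_lt (by norm_num)) (throughIdx_lt (by norm_num)) hB'.1
    have e1 : b • throughTrio 1 = throughTrio k :=
      smul_trio_of_tab tb (throughIdx_lt (by norm_num)) (throughIdx_lt hk) hB'.2
    exact ⟨a * b, (setStab pairBase).mul_mem ha hb, by rw [mul_smul, e0, ea],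
      by rw [mul_smul, e1, ← ek, smul_inv_smul]⟩
  obtain ⟨g, hg, g0, g1⟩ := key i j hi hj hne
  obtain ⟨g', hg', g0', g1'⟩ := key i' j' hi' hj' hne'
  exact ⟨g' * g⁻¹, (setStab pairBase).mul_mem hg' ((setStab pairBase).inv_mem hg),
    by rw [mul_smul, ← g0, inv_smul_smul, g0'], by rw [mul_smul, ← g1, inv_smul_smul, g1']⟩

theorem pointFix_fixes {g : Equiv.Perm GolayPt} (hg : g ∈ pointFix pairBase) {i : ℕ} (hi : i < 15) :
    g • throughTrio i = throughTrio i := by
  obtain ⟨-, -, -, -, hP, hPfix, hcover, h6, -⟩ := through_facts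
  simp only [List.all_eq_true, List.mem_range, Bool.or_eq_true, Bool.not_eq_true',
    List.any_eq_true, Nat.beq_eq] at hP hPfix hcover
  have hp : pt 6 ∉ pairBase := by
    simp [pairBase, Golay.mem_toSet, Golay.idx_pt (by norm_num : 6 < 24), h6]
  have hgp : g (pt 6) ∉ pairBase := by
    rw [← (mem_setStab.1 (SporStruct.M24.pointFix_le_setStab hg)).2,
      SporStruct.M24.apply_mem_smul]
    exact hp
  rcases hcover (idx (g (pt 6))) (Golay.idx_lt _) with h | ⟨l, hl, hli⟩
  · exact absurd (Golay.mem_toSet.2 h) hgp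
  obtain ⟨p, hp', tp⟩ := through_perm (List.mem_append_right _ hl)
  have hpf : p ∈ pointFix pairBase := by
    refine mem_pointFix.2 ⟨(mem_setStab.1 hp').1, fun x hx => ?_⟩
    rw [pairBase, Golay.mem_toSet] at hx
    rcases hPfix l hl (idx x) (Golay.idx_lt x) with h | h
    · rw [hx] at h; simp at h
    · rw [tp.apply, h, Golay.pt_idx]
  have hgp' : p (pt 6) = g (pt 6) := by
    rw [tp.apply, Golay.idx_pt (by norm_num), hli, Golay.pt_idx]
  have e : g = p := by
    have := SporStruct.M24.eq_one_of_fix pair_facts.1.1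
      ((pointFix pairBase).mul_mem ((pointFix pairBase).inv_mem hpf) hg) hp
      (by rw [Equiv.Perm.mul_apply, ← hgp', Equiv.Perm.coe_inv, Equiv.symm_apply_apply])
    rwa [inv_mul_eq_one, eq_comm] at this
  rw [e]
  exact smul_trio_of_tab tp (throughIdx_lt hi) (throughIdx_lt hi) (hP l hl i hi)

/-- The subgroup fixing every trio through the base octad. -/
def throughKernel : Subgroup ↥(setStab pairBase) where
  carrier := {g | ∀ i < 15, (g : Equiv.Perm GolayPt) • throughTrio i = throughTrio i}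
  mul_mem' := fun {a b} ha hb i hi => by rw [Subgroup.coe_mul, mul_smul, hb i hi, ha i hi]
  one_mem' := fun i _ => by rw [Subgroup.coe_one, one_smul]
  inv_mem' := fun {a} ha i hi => by rw [Subgroup.coe_inv, inv_smul_eq_iff, ha i hi]

theorem throughKernel_normal : throughKernel.Normal := by
  refine ⟨fun n hn g i hi => ?_⟩
  obtain ⟨j, hj, e⟩ := smul_through ((setStab pairBase).inv_mem g.2) hi
  rw [Subgroup.coe_mul, Subgroup.coe_mul, Subgroup.coe_inv, mul_smul, mul_smul, e, hn j hj, ← e,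
    smul_inv_smul]

theorem through_kernel {g : Equiv.Perm GolayPt} (hg : g ∈ setStab pairBase)
    (h : ∀ i < 15, g • throughTrio i = throughTrio i) : ∀ p ∈ pairBase, g p = p := by
  have hrange := SporStruct.M24.range_octadHom pair_facts.1.1
  haveI : IsSimpleGroup ↥(alternatingGroup ↥pairBase) :=
    alternatingGroup.isSimpleGroup (by
      rw [Nat.card_eq_fintype_card, Fintype.card_coe, Golay.card_of_mem_octads pair_facts.1.1]
      norm_num)
  let f : ↥(setStab pairBase) →* ↥(alternatingGroup ↥pairBase) :=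
    (octadHom pairBase).codRestrict _ fun x => hrange ▸ ⟨x, rfl⟩
  have hf : Function.Surjective f := by
    rintro ⟨y, hy⟩
    rw [← hrange] at hy
    obtain ⟨x, hx⟩ := hy
    exact ⟨x, Subtype.ext hx⟩
  haveI := throughKernel_normal
  rcases (Subgroup.Normal.map throughKernel_normal f hf).eq_bot_or_eq_top with
    hb | ht
  · intro p hp
    have : f ⟨g, hg⟩ ∈ throughKernel.map f := ⟨⟨g, hg⟩, h, rfl⟩
    rw [hb, Subgroup.mem_bot] at this
    exact (SporStruct.M24.octadHom_eq_one_iff _).1 (congrArg Subtype.val this) p hp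
  · exfalso
    obtain ⟨x, hx, e0, -⟩ := through_two_transitive (i := 0) (j := 1) (i' := 1) (j' := 0)
      (by norm_num) (by norm_num) (by norm_num) (by norm_num) (by norm_num) (by norm_num)
    have hfx : f ⟨x, hx⟩ ∈ throughKernel.map f := by rw [ht]; exact Subgroup.mem_top _
    obtain ⟨n, hn, e⟩ := hfx
    have hker : (n : Equiv.Perm GolayPt)⁻¹ * x ∈ pointFix pairBase := by
      have h1 : octadHom pairBase (n⁻¹ * ⟨x, hx⟩) = 1 := by
        rw [map_mul, map_inv, inv_mul_eq_one]
        exact congrArg Subtype.val e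
      refine mem_pointFix.2 ⟨(mem_setStab.1 (n⁻¹ * ⟨x, hx⟩ : ↥(setStab pairBase)).2).1, ?_⟩
      exact (SporStruct.M24.octadHom_eq_one_iff _).1 h1
    have := pointFix_fixes hker (show 0 < 15 by norm_num)
    rw [mul_smul, e0, inv_smul_eq_iff, hn 0 (by norm_num)] at this
    exact absurd (throughTrio_injective (by norm_num) (by norm_num) this) (by norm_num)

theorem trios_through_octad {o : Finset GolayPt} (ho : o ∈ octads) :
    {T : Finset (Finset GolayPt) | T ∈ trios ∧ o ∈ T}.ncard = 15 ∧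
    (∀ T₁ T₂ T₁' T₂' : Finset (Finset GolayPt), T₁ ∈ trios → T₂ ∈ trios → T₁' ∈ trios →
      T₂' ∈ trios → o ∈ T₁ → o ∈ T₂ → o ∈ T₁' → o ∈ T₂' → T₁ ≠ T₂ → T₁' ≠ T₂' →
      ∃ g ∈ Cfsg.M24, g • o = o ∧ g • T₁ = T₁' ∧ g • T₂ = T₂') ∧
    ∀ g ∈ Cfsg.M24, g • o = o →
      ((∀ T ∈ trios, o ∈ T → g • T = T) ↔ ∀ p ∈ o, g p = p) := by
  obtain ⟨c, hc, rfl⟩ := Golay.octad_transitive pair_facts.1.1 ho
  have hmem : ∀ {T}, (T ∈ trios ∧ c • pairBase ∈ T) ↔ ∃ i < 15, c • throughTrio i = T := by
    intro T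
    constructor
    · rintro ⟨hT, hoT⟩
      obtain ⟨i, hi, e⟩ := (mem_through (T := c⁻¹ • T)).1
        ⟨smul_trio ⟨c⁻¹, Cfsg.M24.inv_mem hc⟩ hT, by
          have h' := Finset.smul_mem_smul_finset (a := c⁻¹) hoT
          rwa [inv_smul_smul] at h'⟩
      exact ⟨i, hi, by rw [e, smul_inv_smul]⟩
    · rintro ⟨i, hi, rfl⟩
      obtain ⟨hT, h'⟩ := mem_through.2 ⟨i, hi, rfl⟩
      exact ⟨smul_trio ⟨c, hc⟩ hT, Finset.smul_mem_smul_finset h'⟩
  refine ⟨?_, ?_, fun g hg hgo => ?_⟩
  · have e : {T : Finset (Finset GolayPt) | T ∈ trios ∧ c • pairBase ∈ T} =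
        (((Finset.range 15).image fun i => c • throughTrio i : Finset _) :
          Set (Finset (Finset GolayPt))) := by
      ext T
      simp only [Set.mem_ofPred_eq, hmem, Finset.coe_image, Set.mem_image, Finset.mem_coe,
        Finset.mem_range]
    rw [e, Set.ncard_coe_finset, Finset.card_image_of_injOn, Finset.card_range]
    intro i hi j hj hij
    simp only [Finset.coe_range, Set.mem_Iio] at hi hj
    exact throughTrio_injective hi hj (smul_left_cancel c hij)
  · intro T₁ T₂ T₁' T₂' h1 h2 h1' h2' o1 o2 o1' o2' hne hne'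
    obtain ⟨i, hi, rfl⟩ := hmem.1 ⟨h1, o1⟩
    obtain ⟨j, hj, rfl⟩ := hmem.1 ⟨h2, o2⟩
    obtain ⟨i', hi', rfl⟩ := hmem.1 ⟨h1', o1'⟩
    obtain ⟨j', hj', rfl⟩ := hmem.1 ⟨h2', o2'⟩
    obtain ⟨g, hg, e1, e2⟩ := through_two_transitive hi hj hi' hj'
      (fun e => hne (by rw [e])) (fun e => hne' (by rw [e]))
    obtain ⟨hgM, hgo⟩ := mem_setStab.1 hg
    refine ⟨c * g * c⁻¹, Cfsg.M24.mul_mem (Cfsg.M24.mul_mem hc hgM) (Cfsg.M24.inv_mem hc),
      ?_, ?_, ?_⟩ <;> rw [mul_smul, mul_smul, inv_smul_smul]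
    · rw [hgo]
    · rw [e1]
    · rw [e2]
  · have hg' : c⁻¹ * g * c ∈ setStab pairBase := mem_setStab.2
      ⟨Cfsg.M24.mul_mem (Cfsg.M24.mul_mem (Cfsg.M24.inv_mem hc) hg) hc,
        by rw [mul_smul, mul_smul, hgo, inv_smul_smul]⟩
    constructor
    · intro h p hp
      have hk := through_kernel hg' (fun i hi => by
        obtain ⟨hT, hoT⟩ := hmem.2 ⟨i, hi, rfl⟩
        rw [mul_smul, mul_smul, h _ hT hoT, inv_smul_smul]) (c⁻¹ p) (by
        rw [← SporStruct.M24.mem_smul_iff]; exact hp)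
      simpa using hk
    · intro h T hT hoT
      obtain ⟨i, hi, rfl⟩ := hmem.1 ⟨hT, hoT⟩
      have hpf : c⁻¹ * g * c ∈ pointFix pairBase := by
        refine mem_pointFix.2 ⟨(mem_setStab.1 hg').1, fun x hx => ?_⟩
        rw [Equiv.Perm.mul_apply, Equiv.Perm.mul_apply,
          h _ (SporStruct.M24.apply_mem_smul.2 hx)]
        simp
      have := pointFix_fixes hpf hi
      rwa [mul_smul, mul_smul, inv_smul_eq_iff] at this

end Cfsg.Agent.Sporadic96
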