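import Cfsg.Agent.Sporadic96.M24.CertTripleSext
import Cfsg.Agent.Sporadic96.M24.CertDodSext
import Cfsg.Agent.Sporadic96.M24.Transitive
import Cfsg.Agent.Lib.Golay.Transitive

/-!
Orbits on sextets of the stabilisers of three points and of a pair of complementary dodecads.

Main results: `triple_sextets`, `dodecad_sextets`.
-/

set_option autoImplicit false

namespace Cfsg.Agent.Sporadic96

open scoped Pointwise
open Cfsg.Agent.Golay (pt toSet)

theorem exists_smul_baseY {Y : Finset GolayPt} (hY : Y.card = 3) :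
    ∃ g : ↥Cfsg.M24, g • baseY = Y := by
  have hb : baseY.card = 3 ∧ baseY = {pt 23, pt 0, pt 1} := by decide +kernel
  obtain ⟨a, b, c, hab, hac, hbc, rfl⟩ := Finset.card_eq_three.1 hY
  obtain ⟨g, hg, hgj⟩ := Golay.exists_map_base
    (fun j => if j = 0 then a else if j = 1 then b else c) 3 (by norm_num)
    (fun j k hj hk h => by
      interval_cases j <;> interval_cases k <;> simp at h ⊢ <;>
        first
          | exact absurd h hab | exact absurd h hac | exact absurd h hbc
          | exact absurd h.symm hab | exact absurd h.symm hac | exact absurd h.symm hbc)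
  refine ⟨⟨g, hg⟩, ?_⟩
  have hbp : Golay.bp 0 = pt 23 ∧ Golay.bp 1 = pt 0 ∧ Golay.bp 2 = pt 1 := by decide +kernel
  have e0 := hgj 0 (by norm_num)
  have e1 := hgj 1 (by norm_num)
  have e2 := hgj 2 (by norm_num)
  simp only [hbp.1, hbp.2.1, hbp.2.2] at e0 e1 e2
  rw [hb.2]
  show g • ({pt 23, pt 0, pt 1} : Finset GolayPt) = _
  simp only [Finset.smul_finset_insert, Finset.smul_finset_singleton, Equiv.Perm.smul_def]
  simp [e0, e1, e2]

/-- Sextets sorted by the number of tetrads meeting three given points. -/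
theorem triple_sextets {Y : Finset GolayPt} (hY : Y.card = 3) :
    {S : Finset (Finset GolayPt) | S ∈ sextets ∧
      (S.filter fun t => (t ∩ Y).Nonempty).card = 1}.ncard = 21 ∧
    {S : Finset (Finset GolayPt) | S ∈ sextets ∧
      (S.filter fun t => (t ∩ Y).Nonempty).card = 2}.ncard = 630 ∧
    {S : Finset (Finset GolayPt) | S ∈ sextets ∧
      (S.filter fun t => (t ∩ Y).Nonempty).card = 3}.ncard = 1120 ∧
    ∀ S S' : Finset (Finset GolayPt), S ∈ sextets → S' ∈ sextets →
      (S.filter fun t => (t ∩ Y).Nonempty).card = (S'.filter fun t => (t ∩ Y).Nonempty).card →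
        ∃ g ∈ Cfsg.M24, g • Y = Y ∧ g • S = S' := by
  obtain ⟨g, rfl⟩ := exists_smul_baseY hY
  have hmet : ∀ S : Finset (Finset GolayPt),
      (S.filter fun t => (t ∩ g • baseY).Nonempty).card = metY (g⁻¹ • S) := by
    intro S
    rw [metY, ← Finset.card_smul_finset g ((g⁻¹ • S).filter fun t => (t ∩ baseY).Nonempty)]
    congr 1
    ext t
    simp only [← Finset.inv_smul_mem_iff, Finset.mem_filter, inv_inv, smul_inv_smul]
    refine and_congr_right fun _ => ?_
    constructor <;> intro hne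
    · have h2 := hne.smul_finset (a := g⁻¹)
      rwa [Finset.smul_finset_inter, inv_smul_smul] at h2
    · have h2 := hne.smul_finset (a := g)
      rwa [Finset.smul_finset_inter, smul_inv_smul] at h2
  have hreps : ∀ i (hi : i < repsTripleSext.length),
      metY (fam 6 sextP repsTripleSext[i].1) = i + 1 := by
    have h : repsTripleSext.map (fun p => metY (fam 6 sextP p.1)) = [1, 2, 3] := by decide +kernel
    intro i hi
    have hi3 : i < 3 := by
      have := congrArg List.length h
      simp at this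
      omega
    have e := congrArg (fun l => l.getD i 0) h
    rw [List.getD_eq_getElem _ _ (by simpa using hi), List.getElem_map] at e
    rw [e]
    interval_cases i <;> rfl
  have hlen : repsTripleSext.length = 3 := rfl
  have hcls : ∀ S ∈ sextets, ∀ i (hi : i < repsTripleSext.length), metY S = i + 1 →
      S ∈ MulAction.orbit ↥(MulAction.stabilizer ↥Cfsg.M24 baseY)
        (fam 6 sextP repsTripleSext[i].1) := by
    intro S hS i hi e
    obtain ⟨j, hj, hm⟩ := (tableTripleSext i hi).2.2 S hS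
    obtain ⟨k, rfl⟩ := MulAction.mem_orbit_iff.1 hm
    rw [metY_invariant, hreps j hj] at e
    obtain rfl : j = i := by omega
    exact hm
  have hcount : ∀ i (hi : i < repsTripleSext.length),
      {S : Finset (Finset GolayPt) | S ∈ sextets ∧
        (S.filter fun t => (t ∩ g • baseY).Nonempty).card = i + 1}.ncard =
        [21, 630, 1120].getD i 0 := by
    intro i hi
    rw [← (tableTripleSext i hi).2.1, ← Set.ncard_smul_set g
      (MulAction.orbit ↥(MulAction.stabilizer ↥Cfsg.M24 baseY) (fam 6 sextP repsTripleSext[i].1))]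
    congr 1
    ext S
    rw [Set.mem_smul_set_iff_inv_smul_mem]
    simp only [Set.mem_ofPred_eq, hmet]
    constructor
    · rintro ⟨hS, e⟩
      exact hcls _ (smul_sextet g⁻¹ hS) i hi e
    · intro h
      obtain ⟨k, hk⟩ := MulAction.mem_orbit_iff.1 h
      refine ⟨?_, by rw [← hk, metY_invariant, hreps i hi]⟩
      have := smul_sextet g (smul_sextet (k : ↥Cfsg.M24) (tableTripleSext i hi).1)
      rwa [show (k : ↥Cfsg.M24) • fam 6 sextP repsTripleSext[i].1 = g⁻¹ • S from hk,
        smul_inv_smul] at this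
  refine ⟨hcount 0 (by decide), hcount 1 (by decide), hcount 2 (by decide),
    fun S S' hS hS' e => ?_⟩
  rw [hmet, hmet] at e
  obtain ⟨j, hj, hm⟩ := (tableTripleSext 0 (by decide)).2.2 (g⁻¹ • S) (smul_sextet g⁻¹ hS)
  have ej : metY (g⁻¹ • S) = j + 1 := by
    obtain ⟨k, hk⟩ := MulAction.mem_orbit_iff.1 hm
    rw [← hk, metY_invariant, hreps j hj]
  have hm' := hcls _ (smul_sextet g⁻¹ hS') j hj (e ▸ ej)
  obtain ⟨k, hk⟩ := MulAction.mem_orbit_iff.1 hm
  obtain ⟨k', hk'⟩ := MulAction.mem_orbit_iff.1 hm'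
  refine ⟨((g * (k' * k⁻¹ : ↥(MulAction.stabilizer ↥Cfsg.M24 baseY)) * g⁻¹ : ↥Cfsg.M24) :
    Equiv.Perm GolayPt), Subtype.coe_prop _, ?_, ?_⟩
  · show (g * ((k' * k⁻¹ : ↥(MulAction.stabilizer ↥Cfsg.M24 baseY)) : ↥Cfsg.M24) * g⁻¹) •
      (g • baseY) = g • baseY
    rw [mul_smul, mul_smul, inv_smul_smul, MulAction.mem_stabilizer_iff.1 (Subtype.coe_prop _)]
  · show (g * ((k' * k⁻¹ : ↥(MulAction.stabilizer ↥Cfsg.M24 baseY)) : ↥Cfsg.M24) * g⁻¹) • S = S'
    rw [mul_smul, mul_smul, ← hk, Subgroup.coe_mul, Subgroup.coe_inv, mul_smul]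
    simp only [Subgroup.smul_def] at hk' ⊢
    simp [inv_smul_smul, hk', smul_inv_smul]

set_option maxRecDepth 40000 in
theorem baseD_eq : ∃ n, toFam baseD = {toSet n, Finset.univ \ toSet n} ∧ toSet n ∈ dodecads := by
  refine ⟨baseD.getD 0 0, ?_, ?_⟩
  · decide +kernel
  · exact Golay.mem_wordsOfWeight_iff.2 ⟨_, by decide +kernel, by decide +kernel, rfl⟩

/-- The three orbits of a dodecad pair's stabiliser on sextets. -/
theorem dodecad_sextets {d : Finset GolayPt} (hd : d ∈ dodecads) :
    ∃ X₁ ∈ sextets, ∃ X₂ ∈ sextets, ∃ X₃ ∈ sextets,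
      (MulAction.orbit ↥(MulAction.stabilizer ↥Cfsg.M24
        ({d, Finset.univ \ d} : Finset (Finset GolayPt))) X₁).ncard = 396 ∧
      (MulAction.orbit ↥(MulAction.stabilizer ↥Cfsg.M24
        ({d, Finset.univ \ d} : Finset (Finset GolayPt))) X₂).ncard = 495 ∧
      (MulAction.orbit ↥(MulAction.stabilizer ↥Cfsg.M24
        ({d, Finset.univ \ d} : Finset (Finset GolayPt))) X₃).ncard = 880 ∧
      sextets = MulAction.orbit ↥(MulAction.stabilizer ↥Cfsg.M24
          ({d, Finset.univ \ d} : Finset (Finset GolayPt))) X₁ ∪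
        MulAction.orbit ↥(MulAction.stabilizer ↥Cfsg.M24
          ({d, Finset.univ \ d} : Finset (Finset GolayPt))) X₂ ∪
        MulAction.orbit ↥(MulAction.stabilizer ↥Cfsg.M24
          ({d, Finset.univ \ d} : Finset (Finset GolayPt))) X₃ := by
  obtain ⟨n, hn, hnd⟩ := baseD_eq
  obtain ⟨a, ha, hd'⟩ := Golay.dodecad_transitive hnd hd
  set g : ↥Cfsg.M24 := ⟨a, ha⟩
  have hg : g • toFam baseD = ({d, Finset.univ \ d} : Finset (Finset GolayPt)) := by
    show a • toFam baseD = _
    rw [hn, Finset.smul_finset_insert, Finset.smul_finset_singleton, Finset.smul_finset_sdiff,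
      Finset.smul_finset_univ, hd']
  rw [← hg]
  have h := transport_table (f := fun q => fam 6 sextP q) tableDodSext
    (fun g _ => smul_sextet g) g
  obtain ⟨m0, c0, -⟩ := h 2 (by decide)
  obtain ⟨m1, c1, -⟩ := h 0 (by decide)
  obtain ⟨m2, c2, -⟩ := h 1 (by decide)
  refine ⟨_, m0, _, m1, _, m2, c0, c1, c2, ?_⟩
  ext T
  simp only [Set.mem_union, (h 0 (by decide)).2.2 T]
  constructor
  · rintro ⟨j, hj, hT⟩
    change j < 3 at hj
    interval_cases j
    · exact Or.inl (Or.inr hT)
    · exact Or.inr hT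
    · exact Or.inl (Or.inl hT)
  · rintro ((hT | hT) | hT)
    · exact ⟨2, by decide, hT⟩
    · exact ⟨0, by decide, hT⟩
    · exact ⟨1, by decide, hT⟩

end Cfsg.Agent.Sporadic96
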