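import Cfsg.Agent.Sporadic96.M24.DodPointsData
import Cfsg.Agent.Lib.Golay.M12
import Cfsg.Prelude.Def_SporadicCombinatorics
import Mathlib.GroupTheory.SpecificGroups.Quaternion

/-!
Stabilisers in `Cfsg.M24` of a dodecad with three of its points, or with a hexad on it.

Main results: `dodecad_points_stabilizer`, `dodecad_hexad_stabilizer`.
-/

set_option autoImplicit false

namespace Cfsg.Agent.Sporadic96

open scoped Pointwise
open Cfsg.Agent.Golay (Tab comp idTab pt fix12 mem_fix12 ok12 isPermTab)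

theorem card_fix12_three : Nat.card ↥(fix12 3) = 72 := by
  rw [Golay.card_fix12 (by norm_num : 3 < 5), Golay.card_fix12 (by norm_num : 4 < 5),
    Golay.fix12_five, Subgroup.card_bot]

/-- The table attached to a quaternion. -/
def quatTab : QuaternionGroup 2 → List ℕ
  | .a i => quatTabA.getD i.val []
  | .xa i => quatTabX.getD i.val []

set_option maxRecDepth 40000 in
theorem nine_facts :
    ((nineTabs ++ quatTabA ++ quatTabX).all fun l =>
      ok12 l && l.length.beq 24 && (List.range 3).all fun j => (l.getD j 0).beq j) = true ∧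
    (nineTabs.all fun a => nineTabs.all fun b => nineTabs.contains (comp a b)) = true ∧
    (nineTabs.all fun a => comp a (comp a a) == idTab) = true ∧
    nineTabs.contains idTab = true ∧ nineTabs.Nodup ∧ nineTabs.length = 9 ∧
    ((quatTabA ++ quatTabX).all fun q => nineTabs.all fun a =>
      nineTabs.any fun b => comp q a == comp b q) = true ∧
    (∀ x : QuaternionGroup 2, quatTab x ∈ quatTabA ++ quatTabX) := by
  refine ⟨?_, ?_, ?_, ?_, ?_, ?_, ?_, ?_⟩ <;> decide +kernel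

set_option maxRecDepth 40000 in
theorem quat_facts :
    (∀ x y : QuaternionGroup 2, comp (quatTab x) (quatTab y) = quatTab (x * y)) ∧
    (∀ x y : QuaternionGroup 2, quatTab x = quatTab y → x = y) ∧
    quatTab 1 = idTab := by
  refine ⟨?_, ?_, ?_⟩ <;> decide +kernel

theorem exists_fix12_three {l : List ℕ} (h : l ∈ nineTabs ++ quatTabA ++ quatTabX) :
    ∃ g : ↥(fix12 3), Tab (g : Equiv.Perm GolayPt) l := by
  have hl := List.all_eq_true.1 nine_facts.1 l h
  simp only [Bool.and_eq_true, List.all_eq_true, List.mem_range, Nat.beq_eq] at hl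
  obtain ⟨g, hg, t⟩ := Golay.exists_M12 hl.1.1
  exact ⟨⟨g, mem_fix12.2 ⟨hg, fun j hj => t.apply_pt (by omega) (hl.2 j hj)⟩⟩, t⟩

/-- The normal subgroup of order 9. -/
def nineGroup : Subgroup ↥(fix12 3) where
  carrier := {g | ∃ l ∈ nineTabs, Tab (g : Equiv.Perm GolayPt) l}
  mul_mem' := by
    rintro a b ⟨la, hla, ta⟩ ⟨lb, hlb, tb⟩
    have h := nine_facts.2.1
    simp only [List.all_eq_true, List.contains_iff_mem] at h
    exact ⟨_, h la hla lb hlb, ta.mul tb⟩
  one_mem' := ⟨idTab, List.contains_iff_mem.1 nine_facts.2.2.2.1, Golay.tab_one⟩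
  inv_mem' := by
    rintro a ⟨la, hla, ta⟩
    have h := nine_facts.2.1
    simp only [List.all_eq_true, List.contains_iff_mem] at h
    refine ⟨_, h la hla la hla, ?_⟩
    have h3 := List.all_eq_true.1 nine_facts.2.2.1 la hla
    rw [beq_iff_eq] at h3
    have e : a * (a * a) = 1 := Subtype.ext (Golay.tab_unique (h3 ▸ ta.mul (ta.mul ta)) Golay.tab_one)
    rw [inv_eq_of_mul_eq_one_right e]
    exact ta.mul ta

theorem card_nineGroup : Nat.card ↥nineGroup = 9 := by
  obtain ⟨hall, -, -, -, hnd, hlen, -⟩ := nine_facts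
  have hf : ∀ l : {l // l ∈ nineTabs.toFinset}, ∃ g : ↥nineGroup,
      Tab ((g : ↥(fix12 3)) : Equiv.Perm GolayPt) l.1 := by
    rintro ⟨l, hl⟩
    rw [List.mem_toFinset] at hl
    obtain ⟨g, t⟩ := exists_fix12_three (List.mem_append_left _ (List.mem_append_left _ hl))
    exact ⟨⟨g, l, hl, t⟩, t⟩
  choose f hf using hf
  rw [← hlen, ← List.toFinset_card_of_nodup hnd, ← Fintype.card_coe, ← Nat.card_eq_fintype_card]
  refine (Nat.card_congr (Equiv.ofBijective f ⟨?_, ?_⟩)).symm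
  · rintro ⟨a, ha⟩ ⟨b, hb⟩ e
    have ta := hf ⟨a, ha⟩
    have tb := hf ⟨b, hb⟩
    rw [e] at ta
    refine Subtype.ext ?_
    rw [List.mem_toFinset] at ha hb
    simp only [List.all_eq_true, Bool.and_eq_true, Nat.beq_eq] at hall
    have la := (hall a (List.mem_append_left _ (List.mem_append_left _ ha))).1.2
    have lb := (hall b (List.mem_append_left _ (List.mem_append_left _ hb))).1.2
    refine List.ext_getElem (la.trans lb.symm) fun i hi hi' => ?_
    rw [← List.getD_eq_getElem _ 0 hi, ← List.getD_eq_getElem _ 0 hi', ← ta i (la ▸ hi),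
      ← tb i (la ▸ hi)]
  · rintro ⟨g, l, hl, t⟩
    exact ⟨⟨l, List.mem_toFinset.2 hl⟩,
      Subtype.ext (Subtype.ext (Golay.tab_unique (hf ⟨l, List.mem_toFinset.2 hl⟩) t))⟩

theorem quatTab_mem (x : QuaternionGroup 2) : quatTab x ∈ nineTabs ++ quatTabA ++ quatTabX := by
  rw [List.append_assoc]
  exact List.mem_append_right _ (nine_facts.2.2.2.2.2.2.2 x)

/-- The element with the table of a quaternion. -/
noncomputable def quatEl (x : QuaternionGroup 2) : ↥(fix12 3) :=
  (exists_fix12_three (quatTab_mem x)).choose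

theorem tab_quatEl (x : QuaternionGroup 2) : Tab (quatEl x : Equiv.Perm GolayPt) (quatTab x) :=
  (exists_fix12_three (quatTab_mem x)).choose_spec

/-- The quaternion group inside. -/
noncomputable def quatHom : QuaternionGroup 2 →* ↥(fix12 3) :=
  MonoidHom.mk' quatEl fun x y =>
    Subtype.ext (Golay.tab_unique (tab_quatEl _) (quat_facts.1 x y ▸ (tab_quatEl x).mul (tab_quatEl y)))

theorem tab_quatHom (x : QuaternionGroup 2) :
    Tab (quatHom x : Equiv.Perm GolayPt) (quatTab x) :=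
  tab_quatEl x

theorem quatHom_injective : Function.Injective quatHom := by
  intro x y e
  have tx := tab_quatHom x
  have ty := tab_quatHom y
  rw [e] at tx
  refine quat_facts.2.1 x y ?_
  have hl : ∀ x : QuaternionGroup 2, (quatTab x).length = 24 := by decide +kernel
  refine List.ext_getElem ((hl x).trans (hl y).symm) fun i hi hi' => ?_
  rw [← List.getD_eq_getElem _ 0 hi, ← List.getD_eq_getElem _ 0 hi', ← tx i (hl x ▸ hi),
    ← ty i (hl x ▸ hi)]

theorem card_quat_range : Nat.card ↥quatHom.range = 8 := by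
  rw [← Nat.card_congr (MonoidHom.ofInjective quatHom_injective).toEquiv,
    Nat.card_eq_fintype_card, QuaternionGroup.card]

theorem nineGroup_normal : nineGroup.Normal := by
  haveI : Finite ↥(fix12 3) := Subtype.finite
  have hcompl : Subgroup.IsComplement' nineGroup quatHom.range :=
    Subgroup.isComplement'_of_coprime
      (by rw [card_nineGroup, card_quat_range, card_fix12_three])
      (by rw [card_nineGroup, card_quat_range]; decide)
  rw [← Subgroup.normalizer_eq_top_iff, eq_top_iff, ← hcompl.sup_eq_top]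
  refine sup_le Subgroup.le_normalizer ?_
  rintro _ ⟨x, rfl⟩
  have hconj : ∀ x, ∀ n ∈ nineGroup, quatHom x * n * (quatHom x)⁻¹ ∈ nineGroup := by
    intro x n hn
    obtain ⟨l, hl, t⟩ := hn
    have h := nine_facts.2.2.2.2.2.2.1
    simp only [List.all_eq_true, List.any_eq_true, beq_iff_eq] at h
    obtain ⟨b, hb, e⟩ := h _ (nine_facts.2.2.2.2.2.2.2 x) l hl
    obtain ⟨k, tk⟩ := exists_fix12_three (List.mem_append_left _ (List.mem_append_left _ hb))
    have key : quatHom x * n = k * quatHom x :=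
      Subtype.ext (Golay.tab_unique ((tab_quatHom x).mul t) (e ▸ tk.mul (tab_quatHom x)))
    refine ⟨b, hb, ?_⟩
    rw [key, mul_inv_cancel_right]
    exact tk
  refine Subgroup.mem_normalizer_iff.2 fun n => ⟨hconj x n, fun hn => ?_⟩
  have h := hconj x⁻¹ _ hn
  rwa [map_inv, inv_inv, ← mul_assoc, ← mul_assoc, inv_mul_cancel, one_mul,
    inv_mul_cancel_right] at h

theorem fix12_three_sylows :
    (∀ Q : Sylow 3 ↥(fix12 3), (Q : Subgroup ↥(fix12 3)).Normal ∧ Nat.card ↥Q = 9 ∧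
      ∀ x ∈ (Q : Subgroup ↥(fix12 3)), x ^ 3 = 1) ∧
    ∀ P : Sylow 2 ↥(fix12 3), Nonempty (↥P ≃* QuaternionGroup 2) := by
  haveI : Finite ↥(fix12 3) := Subtype.finite
  haveI : Fact (Nat.Prime 3) := ⟨Nat.prime_three⟩
  haveI : Fact (Nat.Prime 2) := ⟨Nat.prime_two⟩
  have f72 : (72 : ℕ).factorization 3 = 2 ∧ (72 : ℕ).factorization 2 = 3 := by
    have e : (72 : ℕ) = 2 ^ 3 * 3 ^ 2 := by norm_num
    constructor <;>
      rw [e, Nat.factorization_mul (by norm_num) (by norm_num),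
        Nat.Prime.factorization_pow Nat.prime_two, Nat.Prime.factorization_pow Nat.prime_three] <;>
      simp
  set N : Sylow 3 ↥(fix12 3) := Sylow.ofCard nineGroup (by
    rw [card_fix12_three, card_nineGroup, f72.1]; norm_num)
  have hN : (N : Subgroup ↥(fix12 3)) = nineGroup := rfl
  haveI hNn : (N : Subgroup ↥(fix12 3)).Normal := hN ▸ nineGroup_normal
  haveI := Sylow.unique_of_normal N hNn
  refine ⟨fun Q => ?_, fun P => ?_⟩
  · have hQ : (Q : Subgroup ↥(fix12 3)) = nineGroup := by rw [Subsingleton.elim Q N, hN]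
    refine ⟨hQ ▸ nineGroup_normal, ?_, ?_⟩
    · show Nat.card ↥(Q : Subgroup ↥(fix12 3)) = 9
      rw [hQ, card_nineGroup]
    · intro x hx
      rw [hQ] at hx
      obtain ⟨l, hl, t⟩ := hx
      have h3 := List.all_eq_true.1 nine_facts.2.2.1 l hl
      rw [beq_iff_eq] at h3
      refine Subtype.ext ?_
      rw [Subgroup.coe_pow, pow_three]
      exact Golay.tab_unique (h3 ▸ t.mul (t.mul t)) Golay.tab_one
  · set R : Sylow 2 ↥(fix12 3) := Sylow.ofCard quatHom.range (by
      rw [card_fix12_three, card_quat_range, f72.2]; norm_num)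
    exact ⟨(P.equiv R).trans (MonoidHom.ofInjective quatHom_injective).symm⟩

theorem smul_squareDodecad_points {d : Finset GolayPt} (hd : d ∈ dodecads) {p q r : GolayPt}
    (hp : p ∈ d) (hq : q ∈ d) (hr : r ∈ d) (hpq : p ≠ q) (hpr : p ≠ r) (hqr : q ≠ r) :
    ∃ a ∈ Cfsg.M24, a • Spor.squareDodecad = d ∧ a (pt 0) = p ∧ a (pt 1) = q ∧ a (pt 2) = r := by
  obtain ⟨a, ha, had⟩ := Golay.exists_conj12 hd
  have hmem : ∀ {x}, x ∈ d → a⁻¹ x ∈ Spor.squareDodecad := by
    intro x hx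
    rw [← Equiv.Perm.smul_def, Finset.inv_smul_mem_iff, had]
    exact hx
  obtain ⟨b, hb, hbj⟩ := Golay.exists_map12
    (fun j => if j = 0 then a⁻¹ p else if j = 1 then a⁻¹ q else a⁻¹ r) 3 (by norm_num)
    (fun j _ => by split_ifs; exacts [hmem hp, hmem hq, hmem hr])
    (fun j k hj hk h => by
      interval_cases j <;> interval_cases k <;> simp at h ⊢ <;>
        first
          | exact absurd h hpq | exact absurd h hpr | exact absurd h hqr
          | exact absurd h.symm hpq | exact absurd h.symm hpr | exact absurd h.symm hqr)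
  obtain ⟨hb24, hbD⟩ := Golay.mem_M12_iff.1 hb
  refine ⟨a * b, Cfsg.M24.mul_mem ha hb24, by rw [mul_smul, hbD, had], ?_, ?_, ?_⟩ <;>
    rw [Equiv.Perm.mul_apply]
  · rw [hbj 0 (by norm_num)]; simp
  · rw [hbj 1 (by norm_num)]; simp
  · rw [hbj 2 (by norm_num)]; simp

theorem mem_points_iff {d : Finset GolayPt} {p q r : GolayPt} {g : ↥Cfsg.M24} :
    g ∈ MulAction.stabilizer ↥Cfsg.M24 d ⊓ MulAction.stabilizer ↥Cfsg.M24 p ⊓
        MulAction.stabilizer ↥Cfsg.M24 q ⊓ MulAction.stabilizer ↥Cfsg.M24 r ↔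
      (g : Equiv.Perm GolayPt) • d = d ∧ (g : Equiv.Perm GolayPt) p = p ∧
        (g : Equiv.Perm GolayPt) q = q ∧ (g : Equiv.Perm GolayPt) r = r := by
  simp only [Subgroup.mem_inf, MulAction.mem_stabilizer_iff]
  exact ⟨fun h => ⟨h.1.1.1, h.1.1.2, h.1.2, h.2⟩, fun h => ⟨⟨⟨h.1, h.2.1⟩, h.2.2.1⟩, h.2.2.2⟩⟩

theorem conj_mem_fix12_three {a g : Equiv.Perm GolayPt} (ha : a ∈ Cfsg.M24) (hg : g ∈ Cfsg.M24)
    {p q r : GolayPt} (hp : a (pt 0) = p) (hq : a (pt 1) = q) (hr : a (pt 2) = r) :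
    a⁻¹ * g * a ∈ fix12 3 ↔
      g • (a • Spor.squareDodecad) = a • Spor.squareDodecad ∧ g p = p ∧ g q = q ∧ g r = r := by
  rw [mem_fix12, Golay.mem_M12_iff, mul_smul, mul_smul, inv_smul_eq_iff,
    and_iff_right (Cfsg.M24.mul_mem (Cfsg.M24.mul_mem (Cfsg.M24.inv_mem ha) hg) ha)]
  refine and_congr_right fun _ => ?_
  subst hp hq hr
  simp only [Equiv.Perm.mul_apply, Equiv.Perm.coe_inv, Equiv.symm_apply_eq]
  refine ⟨fun h => ⟨h 0 (by norm_num), h 1 (by norm_num), h 2 (by norm_num)⟩,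
    fun ⟨h0, h1, h2⟩ j hj => ?_⟩
  interval_cases j <;> assumption

/-- The stabiliser of a dodecad and three of its points is `3^2 : Q_8`. -/
theorem dodecad_points_stabilizer {d : Finset GolayPt} (hd : d ∈ dodecads) {p q r : GolayPt}
    (hp : p ∈ d) (hq : q ∈ d) (hr : r ∈ d) (hpq : p ≠ q) (hpr : p ≠ r) (hqr : q ≠ r)
    (H : Subgroup ↥Cfsg.M24) (hH : H = MulAction.stabilizer ↥Cfsg.M24 d ⊓
      MulAction.stabilizer ↥Cfsg.M24 p ⊓ MulAction.stabilizer ↥Cfsg.M24 q ⊓
      MulAction.stabilizer ↥Cfsg.M24 r) :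
    (∀ Q : Sylow 3 ↥H, (Q : Subgroup ↥H).Normal ∧ Nat.card ↥Q = 9 ∧
      ∀ x ∈ (Q : Subgroup ↥H), x ^ 3 = 1) ∧
    ∀ P : Sylow 2 ↥H, Nonempty (↥P ≃* QuaternionGroup 2) := by
  obtain ⟨a, ha, rfl, h0, h1, h2⟩ := smul_squareDodecad_points hd hp hq hr hpq hpr hqr
  let e : ↥H ≃* ↥(fix12 3) :=
    { toFun := fun g => ⟨a⁻¹ * g.1.1 * a, (conj_mem_fix12_three ha g.1.2 h0 h1 h2).2
        (mem_points_iff.1 (hH ▸ g.2 :
          (g.1 : ↥Cfsg.M24) ∈ MulAction.stabilizer ↥Cfsg.M24 (a • Spor.squareDodecad) ⊓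
            MulAction.stabilizer ↥Cfsg.M24 p ⊓ MulAction.stabilizer ↥Cfsg.M24 q ⊓
            MulAction.stabilizer ↥Cfsg.M24 r))⟩
      invFun := fun h => ⟨⟨a * h.1 * a⁻¹, Cfsg.M24.mul_mem (Cfsg.M24.mul_mem ha
          (Golay.mem_M12_iff.1 (mem_fix12.1 h.2).1).1) (Cfsg.M24.inv_mem ha)⟩, by
        rw [hH]
        refine mem_points_iff.2 ((conj_mem_fix12_three ha (g := a * h.1 * a⁻¹)
          (Cfsg.M24.mul_mem (Cfsg.M24.mul_mem ha (Golay.mem_M12_iff.1 (mem_fix12.1 h.2).1).1)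
            (Cfsg.M24.inv_mem ha)) h0 h1 h2).1 ?_)
        rw [show a⁻¹ * (a * h.1 * a⁻¹) * a = h.1 by group]
        exact h.2⟩
      left_inv := fun g => by ext1; ext1; simp only; group
      right_inv := fun h => by ext1; simp only; group
      map_mul' := fun g g' => by ext1; simp only [Subgroup.coe_mul]; group }
  haveI : Finite ↥(fix12 3) := Subtype.finite
  haveI : Fact (Nat.Prime 3) := ⟨Nat.prime_three⟩
  haveI : Fact (Nat.Prime 2) := ⟨Nat.prime_two⟩
  obtain ⟨h3, h2'⟩ := fix12_three_sylows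
  let f : ↥H →* ↥(fix12 3) := e.toMonoidHom
  have hfs : Function.Surjective f := e.surjective
  have hfi : Function.Injective f := e.injective
  refine ⟨fun Q => ?_, fun P => ?_⟩
  · obtain ⟨hn, hc, hx⟩ := h3 (Q.mapSurjective (f := f) hfs)
    rw [Sylow.coe_mapSurjective] at hn
    have hcard : Nat.card ↥(Q : Subgroup ↥H) =
        Nat.card ↥((Q : Subgroup ↥H).map f) :=
      Nat.card_congr ((Q : Subgroup ↥H).equivMapOfInjective f hfi).toEquiv
    refine ⟨?_, ?_, fun x hxQ => hfi ?_⟩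
    · have := Subgroup.Normal.comap hn f
      rwa [Subgroup.comap_map_eq_self_of_injective hfi] at this
    · show Nat.card ↥(Q : Subgroup ↥H) = 9
      rw [hcard, ← hc]
      show _ = Nat.card ↥((Q.mapSurjective (f := f) hfs :
        Sylow 3 ↥(fix12 3)) : Subgroup ↥(fix12 3))
      rw [Sylow.coe_mapSurjective]
    · rw [map_pow, map_one]
      refine hx _ ?_
      rw [Sylow.coe_mapSurjective]
      exact ⟨x, hxQ, rfl⟩
  · obtain ⟨i⟩ := h2' (P.mapSurjective (f := f) hfs)
    refine ⟨(((P : Subgroup ↥H).equivMapOfInjective f hfi).trans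
      (MulEquiv.subgroupCongr ?_)).trans i⟩
    rw [Sylow.coe_mapSurjective]

/-! ### A hexad on a dodecad -/

theorem dodecad_hexad_stabilizer {d : Finset GolayPt} (hd : d ∈ dodecads) {C : Finset GolayPt}
    (hC : C ∈ hexadsOn d) :
    Nonempty (↥(MulAction.stabilizer ↥Cfsg.M24 d ⊓ MulAction.stabilizer ↥Cfsg.M24 C) ≃*
      Equiv.Perm (Fin 6)) ∧
    (∀ g ∈ MulAction.stabilizer ↥Cfsg.M24 d ⊓ MulAction.stabilizer ↥Cfsg.M24 C,
      (∀ p ∈ C, ((g : ↥Cfsg.M24) : Equiv.Perm GolayPt) p = p) → g = 1) ∧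
    ∀ g ∈ MulAction.stabilizer ↥Cfsg.M24 d ⊓ MulAction.stabilizer ↥Cfsg.M24 C,
      (∀ p ∈ d \ C, ((g : ↥Cfsg.M24) : Equiv.Perm GolayPt) p = p) → g = 1 := by
  obtain ⟨hC6, o, ho, hoC⟩ := hC
  obtain ⟨a, ha, rfl⟩ := Golay.exists_conj12 hd
  set D := Spor.squareDodecad
  have hCd : C ⊆ a • D := hoC ▸ Finset.inter_subset_right
  have faithful : ∀ g ∈ MulAction.stabilizer ↥Cfsg.M24 (a • D), ∀ s : Finset GolayPt,
      s ⊆ a • D → 5 ≤ s.card → (∀ p ∈ s, ((g : ↥Cfsg.M24) : Equiv.Perm GolayPt) p = p) →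
      g = 1 := by
    intro g hg s hs h5 hfix
    have h12 : a⁻¹ * (g : Equiv.Perm GolayPt) * a ∈ Spor.M12 :=
      (Golay.mem_stab_dodecad_iff ha rfl g).1 hg
    have h := Golay.eq12_of_five h12 Spor.M12.one_mem (s := a⁻¹ • s)
      (by
        intro x hx
        have := Finset.smul_finset_subset_smul_finset (a := a⁻¹) hs hx
        rwa [inv_smul_smul] at this)
      (by rw [Finset.card_smul_finset]; exact h5)
      (fun p hp => by
        rw [← Finset.inv_smul_mem_iff, inv_inv, Equiv.Perm.smul_def] at hp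
        simp only [Equiv.Perm.mul_apply, hfix _ hp, Equiv.Perm.coe_inv, Equiv.symm_apply_apply,
          Equiv.Perm.coe_one, id])
    refine Subtype.ext ?_
    calc ((g : ↥Cfsg.M24) : Equiv.Perm GolayPt) = a * (a⁻¹ * g * a) * a⁻¹ := by group
      _ = 1 := by rw [h]; group
  refine ⟨?_, fun g hg hfix => faithful g hg.1 C hCd (by omega) hfix,
    fun g hg hfix => faithful g hg.1 ((a • D) \ C) Finset.sdiff_subset (by
      rw [Finset.card_sdiff_of_subset hCd, Finset.card_smul_finset, Golay.card_squareDodecad,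
        hC6]
      norm_num) hfix⟩
  set H := MulAction.stabilizer ↥Cfsg.M24 (a • D) ⊓ MulAction.stabilizer ↥Cfsg.M24 C
  have hmaps : ∀ (g : ↥H) (x : GolayPt),
      (x ∈ C ↔ ((g : ↥Cfsg.M24) : Equiv.Perm GolayPt) x ∈ C) := by
    intro g x
    have hgC : ((g : ↥Cfsg.M24) : Equiv.Perm GolayPt) • C = C := g.2.2
    have hiff : ((g : ↥Cfsg.M24) : Equiv.Perm GolayPt) x ∈
        ((g : ↥Cfsg.M24) : Equiv.Perm GolayPt) • C ↔ x ∈ C := Finset.smul_mem_smul_finset_iff _
    exact hiff.symm.trans (Finset.ext_iff.1 hgC _)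
  let f : ↥H →* Equiv.Perm ↥C :=
    MonoidHom.mk' (fun g => ((g : ↥Cfsg.M24) : Equiv.Perm GolayPt).subtypePerm
      fun x => (hmaps g x).symm) fun a b => by ext x; rfl
  have hinj : Function.Injective f := by
    rw [← MonoidHom.ker_eq_bot_iff, eq_bot_iff]
    intro g hg
    exact Subgroup.mem_bot.2 (Subtype.ext (faithful _ g.2.1 C hCd (by omega)
      fun p hp => congrArg Subtype.val (Equiv.Perm.ext_iff.1 (MonoidHom.mem_ker.1 hg) ⟨p, hp⟩)))
  have hsurj : Function.Surjective f := by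
    intro σ
    obtain ⟨c, hc⟩ : ∃ c : Fin 6 → ↥C, Function.Bijective c :=
      ⟨_, (C.equivFinOfCardEq hC6).symm.bijective⟩
    have hmemD : ∀ x : ↥C, a⁻¹ (x : GolayPt) ∈ D := fun x => by
      rw [← Equiv.Perm.smul_def, Finset.inv_smul_mem_iff]
      exact hCd x.2
    obtain ⟨b, hb, hbi⟩ := Golay.exists_map12' (n := 5) le_rfl
      (fun i => a⁻¹ (c i.castSucc : GolayPt)) (fun i => a⁻¹ (σ (c i.castSucc) : GolayPt))
      (fun i j e => Fin.castSucc_injective _ (hc.1 (Subtype.ext (a⁻¹.injective e))))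
      (fun i j e =>
        Fin.castSucc_injective _ (hc.1 (σ.injective (Subtype.ext (a⁻¹.injective e)))))
      (fun i => hmemD _) (fun i => hmemD _)
    set g := a * b * a⁻¹
    have hgM : g ∈ Cfsg.M24 :=
      Cfsg.M24.mul_mem (Cfsg.M24.mul_mem ha (Golay.mem_M12_iff.1 hb).1) (Cfsg.M24.inv_mem ha)
    have hgi : ∀ i : Fin 5, g (c i.castSucc : GolayPt) = (σ (c i.castSucc) : GolayPt) := fun i => by
      simp only [g, Equiv.Perm.mul_apply, hbi i]
      simp
    have hgD : g • (a • D) = a • D := by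
      rw [mul_smul, mul_smul, inv_smul_smul, (Golay.mem_M12_iff.1 hb).2]
    set s := Finset.univ.image fun i : Fin 5 => (σ (c i.castSucc) : GolayPt)
    have hs : s.card = 5 := by
      rw [Finset.card_image_of_injective _
        (fun i j e => Fin.castSucc_injective _ (hc.1 (σ.injective (Subtype.ext e))))]
      simp
    have hgo : g • o = o := by
      refine Golay.octad_unique (Golay.smul_mem_octads hgM ho) ho hs.ge ?_ ?_
      · intro x hx
        obtain ⟨i, -, rfl⟩ := Finset.mem_image.1 hx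
        rw [← hgi i, ← Equiv.Perm.smul_def]
        exact Finset.smul_mem_smul_finset (Finset.mem_inter.1 ((Finset.ext_iff.1 hoC _).2 (c i.castSucc).2)).1
      · intro x hx
        obtain ⟨i, -, rfl⟩ := Finset.mem_image.1 hx
        exact (Finset.mem_inter.1 ((Finset.ext_iff.1 hoC _).2 (σ (c i.castSucc)).2)).1
    have hgC : g • C = C := by rw [← hoC, Finset.smul_finset_inter, hgo, hgD]
    refine ⟨⟨⟨g, hgM⟩, hgD, hgC⟩, ?_⟩
    have hval : ∀ i : Fin 5, f ⟨⟨g, hgM⟩, hgD, hgC⟩ (c i.castSucc) = σ (c i.castSucc) :=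
      fun i => Subtype.ext (hgi i)
    refine Equiv.ext fun x => ?_
    obtain ⟨i, rfl⟩ := hc.2 x
    induction i using Fin.lastCases with
    | cast i => exact hval i
    | last =>
      obtain ⟨y, hy⟩ := hc.2 (σ.symm (f ⟨⟨g, hgM⟩, hgD, hgC⟩ (c (Fin.last 5))))
      induction y using Fin.lastCases with
      | last => exact (Equiv.apply_symm_apply σ _).symm.trans (congrArg σ hy.symm)
      | cast y =>
        exfalso
        have h1 : σ (c y.castSucc) = f ⟨⟨g, hgM⟩, hgD, hgC⟩ (c (Fin.last 5)) :=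
          (congrArg σ hy).trans (Equiv.apply_symm_apply σ _)
        exact (Fin.castSucc_lt_last y).ne (hc.1 ((Equiv.injective _) ((hval y).trans h1)))
  exact ⟨(MulEquiv.ofBijective f ⟨hinj, hsurj⟩).trans (C.equivFinOfCardEq hC6).permCongrHom⟩

end Cfsg.Agent.Sporadic96
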