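import Cfsg.Agent.Sporadic96.M24.Stab
import Cfsg.Agent.Lib.Golay.Fixed

/-!
Number of octads, trios, sextets and dodecads preserved by the permutation with a given table.

Main results: `ncard_fixed_octads`, `ncard_fixed_trios`, `ncard_fixed_sextets`,
`ncard_fixed_dodecads`, `ncard_fixed_conj`.
-/

set_option autoImplicit false

namespace Cfsg.Agent.Sporadic96

open scoped Pointwise
open Cfsg.Agent.Golay (idx pt toSet popc inCode Tab)

/-- Each member of the `k`-th object of `Y` is a member of that of `P`. -/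
def sameFam (m Y P k : ℕ) : Bool :=
  (List.range m).all fun r => (List.range m).any fun s =>
    (lane Y (m * k + r)).beq (lane P (m * k + s))

/-- The number of objects preserved by the table. -/
def fixedCount (m n P : ℕ) (l : List ℕ) : ℕ :=
  ((List.range n).filter fun k => sameFam m (tabLanes (unitMask 1 (m * n)) l P) P k).length

theorem smul_fam_eq_iff {σ : Equiv.Perm GolayPt} {l : List ℕ} (hσ : Tab σ l) (hlen : l.length = 24)
    {m n k : ℕ} (hk : k < n) (P : ℕ) :
    σ • fam m P k = fam m P k ↔ sameFam m (tabLanes (unitMask 1 (m * n)) l P) P k = true := by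
  set Y := tabLanes (unitMask 1 (m * n)) l P
  have hlt : ∀ r < m, m * k + r < m * n := fun r hr => by
    have : m * (k + 1) ≤ m * n := Nat.mul_le_mul_left m hk
    rw [Nat.mul_succ] at this; omega
  have hY : ∀ r < m, toSet (lane Y (m * k + r)) = σ • toSet (lane P (m * k + r)) := fun r hr =>
    toSet_tabLanes hσ hlen (hlt r hr) P
  simp only [sameFam, List.all_eq_true, List.any_eq_true, List.mem_range, Nat.beq_eq]
  constructor
  · intro h r hr
    have hmem : σ • toSet (lane P (m * k + r)) ∈ fam m P k := by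
      rw [← h]
      exact Finset.smul_mem_smul_finset (mem_fam.2 ⟨r, hr, rfl⟩)
    obtain ⟨s, hs, e⟩ := mem_fam.1 hmem
    exact ⟨s, hs, Golay.toSet_injOn (lane_lt _ _) (lane_lt _ _) (by rw [e, hY r hr])⟩
  · intro h
    refine Finset.eq_of_subset_of_card_le ?_ (by rw [Finset.card_smul_finset])
    intro x hx
    obtain ⟨a, ha, rfl⟩ := Finset.mem_smul_finset.1 hx
    obtain ⟨r, hr, rfl⟩ := mem_fam.1 ha
    obtain ⟨s, hs, e⟩ := h r hr
    exact mem_fam.2 ⟨s, hs, by rw [← e, hY r hr]⟩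

theorem ncard_fixed_fam {σ : Equiv.Perm GolayPt} {l : List ℕ} (hσ : Tab σ l)
    (hlen : l.length = 24) {m n P : ℕ} {F : Set (Finset (Finset GolayPt))}
    (hF : ∀ T, T ∈ F ↔ ∃ k < n, fam m P k = T)
    (hinj : ∀ j k, j < n → k < n → fam m P j = fam m P k → j = k) :
    {T | T ∈ F ∧ σ • T = T}.ncard = fixedCount m n P l := by
  set L := (List.range n).filter fun k => sameFam m (tabLanes (unitMask 1 (m * n)) l P) P k
  have e : {T | T ∈ F ∧ σ • T = T} =
      ((L.toFinset.image (fam m P) : Finset _) : Set (Finset (Finset GolayPt))) := by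
    ext T
    simp only [L, Set.mem_ofPred_eq, Finset.coe_image, Set.mem_image, Finset.mem_coe,
      List.mem_toFinset, List.mem_filter, List.mem_range]
    constructor
    · rintro ⟨hT, hs⟩
      obtain ⟨k, hk, rfl⟩ := (hF T).1 hT
      exact ⟨k, ⟨hk, (smul_fam_eq_iff hσ hlen hk P).1 hs⟩, rfl⟩
    · rintro ⟨k, ⟨hk, hs⟩, rfl⟩
      exact ⟨(hF _).2 ⟨k, hk, rfl⟩, (smul_fam_eq_iff hσ hlen hk P).2 hs⟩
  rw [e, Set.ncard_coe_finset, Finset.card_image_of_injOn,
    List.toFinset_card_of_nodup (List.nodup_range.filter _)]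
  · rfl
  intro a ha b hb hab
  simp only [L, Finset.mem_coe, List.mem_toFinset, List.mem_filter, List.mem_range] at ha hb
  exact hinj a b ha.1 hb.1 hab

theorem ncard_fixed_octads {σ : Equiv.Perm GolayPt} {l : List ℕ} (hσ : Tab σ l)
    (hlen : l.length = 24) :
    {o | o ∈ octads ∧ σ • o = o}.ncard = fixedCount 1 759 octP l := by
  rw [← ncard_fixed_fam hσ hlen (fun _ => octFam_iff) (fun _ _ => octFam_injective),
    ← Set.ncard_image_of_injective {o | o ∈ octads ∧ σ • o = o}
      (Finset.singleton_injective (α := Finset GolayPt))]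
  congr 1
  ext T
  simp only [Set.mem_image, Set.mem_ofPred_eq]
  constructor
  · rintro ⟨o, ⟨ho, hs⟩, rfl⟩
    exact ⟨⟨o, ho, rfl⟩, by rw [Finset.smul_finset_singleton, hs]⟩
  · rintro ⟨⟨o, ho, rfl⟩, hs⟩
    rw [Finset.smul_finset_singleton, Finset.singleton_inj] at hs
    exact ⟨o, ⟨ho, hs⟩, rfl⟩

theorem ncard_fixed_trios {σ : Equiv.Perm GolayPt} {l : List ℕ} (hσ : Tab σ l)
    (hlen : l.length = 24) :
    {T | T ∈ trios ∧ σ • T = T}.ncard = fixedCount 3 3795 trioP l :=
  ncard_fixed_fam hσ hlen (fun _ => trio_iff) (fun _ _ => fam_trio_injective)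

theorem ncard_fixed_sextets {σ : Equiv.Perm GolayPt} {l : List ℕ} (hσ : Tab σ l)
    (hlen : l.length = 24) :
    {S | S ∈ sextets ∧ σ • S = S}.ncard = fixedCount 6 1771 sextP l :=
  ncard_fixed_fam hσ hlen (fun _ => sextet_iff) (fun _ _ => fam_sext_injective)

/-- The dodecad masks. -/
def dodL : List ℕ := ((List.range 4096).map Golay.comb).filter fun n => (popc n).beq 12

/-- The number of dodecads preserved by the table. -/
def fixedDodCount (l : List ℕ) : ℕ := (dodL.filter fun n => Golay.maps l n n).length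

theorem ncard_fixed_dodecads {σ : Equiv.Perm GolayPt} {l : List ℕ} (hσ : Tab σ l) :
    {d | d ∈ dodecads ∧ σ • d = d}.ncard = fixedDodCount l := by
  have hd : ∀ {s : Finset GolayPt}, s ∈ dodecads ↔ ∃ n ∈ dodL, toSet n = s := by
    intro s
    simp only [dodL, List.mem_filter, List.mem_map, List.mem_range, Nat.beq_eq]
    constructor
    · intro hs
      obtain ⟨n, hn, hw, rfl⟩ := Golay.mem_wordsOfWeight_iff.1 hs
      exact ⟨n, ⟨⟨n % 4096, Nat.mod_lt _ (by norm_num), beq_iff_eq.1 hn⟩, hw⟩, rfl⟩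
    · rintro ⟨n, ⟨⟨j, hj, rfl⟩, hw⟩, rfl⟩
      exact Golay.mem_wordsOfWeight_iff.2 ⟨_, Golay.inCode_comb hj, hw, rfl⟩
  have hlt : ∀ n ∈ dodL, n < 2 ^ 24 := by
    intro n hn
    obtain ⟨j, hj, rfl⟩ := List.mem_map.1 (List.mem_filter.1 hn).1
    exact Golay.comb_lt (List.mem_range.1 hj)
  have hnd : dodL.Nodup := by
    refine (List.Nodup.map_on ?_ List.nodup_range).filter _
    intro x hx y hy hxy
    rw [← Golay.comb_mod (List.mem_range.1 hx), hxy, Golay.comb_mod (List.mem_range.1 hy)]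
  have hmaps : ∀ n ∈ dodL, (σ • toSet n = toSet n ↔ Golay.maps l n n = true) := by
    intro n _
    refine ⟨fun h => ?_, fun h => hσ.smul_toSet h⟩
    simp only [Golay.maps, List.all_eq_true, List.mem_range, beq_iff_eq]
    intro i hi
    have h1 := Finset.ext_iff.1 h (σ (pt i))
    rw [← Finset.inv_smul_mem_iff, Equiv.Perm.smul_def, Equiv.Perm.coe_inv, Equiv.symm_apply_apply,
      Golay.mem_toSet, Golay.mem_toSet, Golay.idx_pt hi, hσ i hi] at h1
    exact (Bool.eq_iff_iff.2 h1).symm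
  have e : {d | d ∈ dodecads ∧ σ • d = d} = (((dodL.filter fun n => Golay.maps l n n).toFinset.image
      toSet : Finset _) : Set (Finset GolayPt)) := by
    ext s
    simp only [Set.mem_ofPred_eq, Finset.coe_image, Set.mem_image, Finset.mem_coe,
      List.mem_toFinset, List.mem_filter]
    constructor
    · rintro ⟨hs, hfix⟩
      obtain ⟨n, hn, rfl⟩ := hd.1 hs
      exact ⟨n, ⟨hn, (hmaps n hn).1 hfix⟩, rfl⟩
    · rintro ⟨n, ⟨hn, hm⟩, rfl⟩
      exact ⟨hd.2 ⟨n, hn, rfl⟩, (hmaps n hn).2 hm⟩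
  rw [e, Set.ncard_coe_finset, Finset.card_image_of_injOn,
    List.toFinset_card_of_nodup (hnd.filter _)]
  · rfl
  intro x hx y hy hxy
  simp only [Finset.mem_coe, List.mem_toFinset, List.mem_filter] at hx hy
  exact Golay.toSet_injOn (hlt x hx.1) (hlt y hy.1) hxy

/-- Conjugate elements preserve equally many members of an invariant family. -/
theorem ncard_fixed_conj {α : Type*} [MulAction (Equiv.Perm GolayPt) α] {F : Set α}
    {k r : Equiv.Perm GolayPt} (hk : k ∈ Cfsg.M24)
    (hclosed : ∀ g : ↥Cfsg.M24, ∀ x ∈ F, (g : Equiv.Perm GolayPt) • x ∈ F) :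
    {x | x ∈ F ∧ (k * r * k⁻¹) • x = x}.ncard = {x | x ∈ F ∧ r • x = x}.ncard := by
  rw [← Set.ncard_smul_set k {x | x ∈ F ∧ r • x = x}]
  congr 1
  ext y
  simp only [Set.mem_ofPred_eq, Set.mem_smul_set_iff_inv_smul_mem, mul_smul]
  constructor
  · rintro ⟨hy, he⟩
    refine ⟨hclosed ⟨k⁻¹, Cfsg.M24.inv_mem hk⟩ y hy, ?_⟩
    conv_rhs => rw [← he]
    rw [inv_smul_smul]
  · rintro ⟨hy, he⟩
    refine ⟨?_, by rw [he, smul_inv_smul]⟩
    have := hclosed ⟨k, hk⟩ _ hy
    rwa [smul_inv_smul] at this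

end Cfsg.Agent.Sporadic96
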