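import Cfsg.Agent.Sporadic96.M24.Stab

/-!
Generators of the stabilisers of a fixed octad, sextet and trio.
-/

set_option autoImplicit false

namespace Cfsg.Agent.Sporadic96

open scoped Pointwise

/-- Tables for the certificates, case M. -/
def gensM : List (List ℕ) := [
    [1, 2, 3, 4, 5, 6, 7, 8, 9, 10, 11, 12, 13, 14, 15, 16, 17, 18, 19, 20, 21, 22, 0, 23],
    [23, 22, 11, 15, 17, 9, 19, 13, 20, 5, 16, 2, 21, 7, 18, 3, 10, 4, 14, 6, 8, 12, 1, 0],
    [0, 18, 6, 3, 2, 21, 1, 5, 16, 12, 7, 19, 8, 9, 17, 15, 13, 11, 4, 22, 10, 20, 14, 23]]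

/-- Tables for the certificates, case O. -/
def gensO : List (List ℕ) := [
    [2, 3, 10, 4, 7, 20, 11, 1, 22, 15, 12, 19, 0, 17, 14, 8, 6, 13, 18, 16, 5, 21, 9, 23],
    [12, 1, 2, 3, 0, 18, 6, 10, 13, 8, 4, 21, 7, 20, 5, 9, 19, 16, 11, 23, 15, 14, 17, 22]]

/-- The fixed object, case O. -/
def baseO : List ℕ := [5279]

/-- Tables for the certificates, case S. -/
def gensS : List (List ℕ) := [
    [5, 17, 3, 1, 13, 23, 8, 18, 21, 10, 9, 7, 6, 4, 0, 20, 22, 2, 19, 11, 15, 12, 16, 14],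
    [9, 15, 10, 22, 6, 13, 23, 2, 8, 17, 5, 12, 18, 21, 4, 3, 7, 16, 11, 0, 14, 1, 19, 20]]

/-- The fixed object, case S. -/
def baseS : List ℕ := [8388615, 147496, 268544, 1082880, 2621632, 4268048]

/-- Tables for the certificates, case T. -/
def gensT : List (List ℕ) := [
    [1, 5, 18, 23, 13, 12, 8, 2, 0, 19, 7, 3, 10, 4, 14, 6, 22, 9, 11, 20, 16, 17, 21, 15],
    [15, 10, 13, 11, 12, 7, 3, 23, 0, 14, 1, 8, 4, 5, 19, 6, 17, 22, 2, 9, 20, 21, 16, 18],
    [4, 19, 6, 17, 10, 11, 0, 16, 22, 13, 5, 2, 9, 21, 15, 14, 12, 7, 20, 8, 1, 18, 3, 23]]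

/-- The fixed object, case T. -/
def baseT : List ℕ := [8391797, 307594, 8077824]

set_option maxRecDepth 40000 in
theorem gensM_in : GensIn ⊤ gensM := gensIn_top (by decide +kernel)

set_option maxRecDepth 40000 in
theorem gensO_in : GensIn (MulAction.stabilizer ↥Cfsg.M24 (toFam baseO)) gensO :=
  gensIn_stabilizer (by decide +kernel)

set_option maxRecDepth 40000 in
theorem baseO_eq : toFam baseO = fam 1 octP 0 := by
  have h : (List.range 1).map (fun r => lane octP (1 * 0 + r)) = baseO := by decide +kernel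
  rw [fam, h]

set_option maxRecDepth 40000 in
theorem gensS_in : GensIn (MulAction.stabilizer ↥Cfsg.M24 (toFam baseS)) gensS :=
  gensIn_stabilizer (by decide +kernel)

set_option maxRecDepth 40000 in
theorem baseS_eq : toFam baseS = fam 6 sextP 0 := by
  have h : (List.range 6).map (fun r => lane sextP (6 * 0 + r)) = baseS := by decide +kernel
  rw [fam, h]

set_option maxRecDepth 40000 in
theorem gensT_in : GensIn (MulAction.stabilizer ↥Cfsg.M24 (toFam baseT)) gensT :=
  gensIn_stabilizer (by decide +kernel)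

set_option maxRecDepth 40000 in
theorem baseT_eq : toFam baseT = fam 3 trioP 0 := by
  have h : (List.range 3).map (fun r => lane trioP (3 * 0 + r)) = baseT := by decide +kernel
  rw [fam, h]

end Cfsg.Agent.Sporadic96
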