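import Cfsg.Agent.Sporadic96.M24.Objects
import Cfsg.Agent.Lib.Golay.Generators

/-!
Orbit certificates on packed vectors of objects.

A certificate starts every lane group at one of a few representatives, applies tables to selected
objects, reorders members, and must end at the packed vector of all objects.  With an invariant
separating the representatives this gives every orbit and its length (`orbit_table`).
-/

set_option autoImplicit false

namespace Cfsg.Agent.Sporadic96

open scoped Pointwise
open Cfsg.Agent.Golay (idx pt toSet popc inCode Tab)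

/-- The selection vector encoded by `x`. -/
def units (m n x : ℕ) : ℕ := Nat.land (spread (24 * m) 12 x) (unitMask m n)

/-- Is the `k`-th object selected? -/
def bsel (m n x k : ℕ) : Bool := (units m n x).testBit (24 * m * k)

theorem units_and {m n x : ℕ} : units m n x &&& unitMask m n = units m n x := by
  show ((spread (24 * m) 12 x) &&& unitMask m n) &&& unitMask m n = _
  rw [Nat.and_assoc, Nat.and_self]; rfl

/-- All lanes of the selected objects. -/
def selMask (m n x : ℕ) : ℕ := smear (24 * m) (units m n x)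

theorem lane_selMask {m n x k r : ℕ} (hm : 0 < m) (hk : k < n) (hn : n ≤ 4096) (hr : r < m) :
    lane (selMask m n x) (m * k + r) = if bsel m n x k then allN else 0 := by
  rw [selMask, ← units_and, lane_smear hm k r hr]
  by_cases h : (units m n x).testBit (24 * m * k) = true <;> simp [hk, bsel, h]

/-- Apply the table `l` to the selected objects. -/
def genStep (m n : ℕ) (l : List ℕ) (x Y : ℕ) : ℕ :=
  selBlend (selMask m n x) (tabLanes (unitMask 1 (m * n)) l Y) Y

/-- Exchange members `r` and `r + 1` of the selected objects. -/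
def swapStep (m n r x Y : ℕ) : ℕ :=
  swapLanes (Nat.shiftLeft (smear 24 (units m n x)) (24 * r)) Y

theorem lane_shiftLeft (X r j : ℕ) :
    lane (Nat.shiftLeft X (24 * r)) j = if r ≤ j then lane X (j - r) else 0 := by
  refine Nat.eq_of_testBit_eq fun i => ?_
  rw [testBit_lane]
  show (decide (i < 24) && (X <<< (24 * r)).testBit (24 * j + i)) = _
  rw [Nat.testBit_shiftLeft]
  by_cases hr : r ≤ j
  · rw [if_pos hr, testBit_lane, decide_eq_true (show 24 * r ≤ 24 * j + i by omega), Bool.true_and,
      show 24 * j + i - 24 * r = 24 * (j - r) + i by omega]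
  · rw [if_neg hr, Nat.zero_testBit]
    by_cases hi : i < 24
    · rw [decide_eq_false (show ¬ 24 * r ≤ 24 * j + i by omega)]; simp
    · simp [hi]

theorem lane_smear_first {m n x k r : ℕ} (hm : 0 < m) (hk : k < n) (hn : n ≤ 4096) (hr : r < m) :
    lane (smear 24 (units m n x)) (m * k + r) = if r = 0 ∧ bsel m n x k then allN else 0 := by
  refine Nat.eq_of_testBit_eq fun i => ?_
  rw [testBit_lane]
  by_cases hi : i < 24
  swap
  · rw [decide_eq_false hi, Bool.false_and]
    split <;> simp [testBit_allN_nat, hi]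
  rw [decide_eq_true hi, Bool.true_and, Bool.eq_iff_iff, testBit_smear]
  constructor
  · rintro ⟨a, ha, hle, hbit⟩
    have hbit' := hbit
    rw [← units_and, Nat.testBit_and, Bool.and_eq_true, testBit_unitMask hm] at hbit'
    obtain ⟨hU, k', hk', he⟩ := hbit'
    have hkk : r = 0 ∧ k' = k := by
      have h1 : 24 * (m * k + r) + i = 24 * (m * k') + a := by
        rw [← Nat.mul_assoc]; omega
      have h2 : m * k + r = m * k' := by omega
      rcases lt_trichotomy k k' with h | h | h
      · have : m * (k + 1) ≤ m * k' := Nat.mul_le_mul_left m h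
        rw [Nat.mul_succ] at this; omega
      · subst h; omega
      · have : m * (k' + 1) ≤ m * k := Nat.mul_le_mul_left m h
        rw [Nat.mul_succ] at this; omega
    obtain ⟨rfl, rfl⟩ := hkk
    rw [he] at hU
    change bsel m n x k' = true at hU
    rw [if_pos ⟨rfl, hU⟩, testBit_allN_nat, decide_eq_true hi]
  · intro h
    by_cases hc : r = 0 ∧ bsel m n x k = true
    · obtain ⟨rfl, hx⟩ := hc
      refine ⟨i, hi, by omega, ?_⟩
      rw [show 24 * (m * k + 0) + i - i = 24 * m * k by rw [Nat.mul_assoc]; omega]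
      exact hx
    · rw [if_neg hc] at h; simp at h

theorem lane_swapMask {m n x k r i : ℕ} (hm : 0 < m) (hk : k < n) (hn : n ≤ 4096) (hr : r < m)
    (hi : i < m) :
    lane (Nat.shiftLeft (smear 24 (units m n x)) (24 * r)) (m * k + i) =
      if i = r ∧ bsel m n x k then allN else 0 := by
  rw [lane_shiftLeft]
  by_cases hle : r ≤ m * k + i
  · rw [if_pos hle]
    rcases le_or_gt r i with h | h
    · rw [show m * k + i - r = m * k + (i - r) by omega, lane_smear_first hm hk hn (by omega)]
      simp [show i - r = 0 ↔ i = r by omega]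
    · -- a lane of the previous object
      have hk0 : 0 < k := by
        rcases Nat.eq_zero_or_pos k with rfl | h0
        · simp at hle; omega
        · exact h0
      have e : m * k + i - r = m * (k - 1) + (m - (r - i)) := by
        rw [Nat.mul_sub, Nat.mul_one]
        have : m * 1 ≤ m * k := Nat.mul_le_mul_left m hk0
        omega
      rw [e, lane_smear_first hm (show k - 1 < n by omega) hn (by omega),
        if_neg (fun hc => by omega), if_neg (fun hc => by omega)]
  · rw [if_neg hle, if_neg (fun hc => hle (by omega))]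

/-- The members of the `k`-th object. -/
theorem fam_congr {m X Y k : ℕ} (h : ∀ r < m, lane X (m * k + r) = lane Y (m * k + r)) :
    fam m X k = fam m Y k := by
  unfold fam
  congr 1
  exact List.map_congr_left fun r hr => h r (List.mem_range.mp hr)

theorem toSet_tabLanes {σ : Equiv.Perm GolayPt} {l : List ℕ} (hσ : Tab σ l) (hlen : l.length = 24)
    {N j : ℕ} (hj : j < N) (X : ℕ) :
    toSet (lane (tabLanes (unitMask 1 N) l X) j) = σ • toSet (lane X j) := by
  ext p
  rw [Golay.mem_toSet, testBit_lane_tabLanes hlen (fun i hi => hσ.lt hi) X j (idx p) hj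
    (Golay.idx_lt p), ← Finset.inv_smul_mem_iff, Golay.mem_toSet, Equiv.Perm.smul_def]
  constructor
  · rintro ⟨i, hi, hli, hbit⟩
    have : σ (pt i) = p := Golay.idx_injective (by rw [hσ i hi, hli])
    rw [← this, Equiv.Perm.coe_inv, Equiv.symm_apply_apply, Golay.idx_pt hi]
    exact hbit
  · intro h
    refine ⟨idx (σ⁻¹ p), Golay.idx_lt _, ?_, h⟩
    rw [← hσ _ (Golay.idx_lt _), Golay.pt_idx, Equiv.Perm.coe_inv, Equiv.apply_symm_apply]

theorem fam_genStep {σ : Equiv.Perm GolayPt} {l : List ℕ} (hσ : Tab σ l) (hlen : l.length = 24)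
    {m n x k : ℕ} (hm : 0 < m) (hk : k < n) (hn : n ≤ 4096) (Y : ℕ) :
    fam m (genStep m n l x Y) k = if bsel m n x k then σ • fam m Y k else fam m Y k := by
  have hl : ∀ r < m, lane (genStep m n l x Y) (m * k + r) =
      if bsel m n x k then lane (tabLanes (unitMask 1 (m * n)) l Y) (m * k + r)
        else lane Y (m * k + r) := fun r hr =>
    lane_selBlend _ _ _ _ _ (lane_selMask hm hk hn hr)
  by_cases hx : bsel m n x k = true
  · rw [if_pos hx]
    ext s
    rw [mem_fam, ← Finset.inv_smul_mem_iff, mem_fam]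
    have hlt : ∀ r < m, m * k + r < m * n := fun r hr => by
      have : m * (k + 1) ≤ m * n := Nat.mul_le_mul_left m hk
      rw [Nat.mul_succ] at this; omega
    constructor
    · rintro ⟨r, hr, rfl⟩
      refine ⟨r, hr, ?_⟩
      rw [hl r hr, if_pos hx, toSet_tabLanes hσ hlen (hlt r hr), inv_smul_smul]
    · rintro ⟨r, hr, e⟩
      refine ⟨r, hr, ?_⟩
      rw [hl r hr, if_pos hx, toSet_tabLanes hσ hlen (hlt r hr), e, smul_inv_smul]
  · rw [if_neg hx]
    exact fam_congr fun r hr => by rw [hl r hr, if_neg hx]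

theorem fam_swapStep {m n r x k : ℕ} (hr : r + 1 < m) (hk : k < n) (hn : n ≤ 4096) (Y : ℕ) :
    fam m (swapStep m n r x Y) k = fam m Y k := by
  have hm : 0 < m := by omega
  set Z := swapStep m n r x Y
  have hl : ∀ i < m, lane Z (m * k + i) =
      if bsel m n x k ∧ i = r then lane Y (m * k + i + 1)
      else if bsel m n x k ∧ i = r + 1 then lane Y (m * k + i - 1) else lane Y (m * k + i) := by
    intro i hi
    show lane (swapLanes _ Y) _ = _
    rw [lane_swapLanes, lane_swapMask hm hk hn (by omega) hi]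
    have hprev : (if m * k + i = 0 then (0 : ℕ) else (lane Y (m * k + i) ^^^ lane Y (m * k + i - 1)) &&&
        lane (Nat.shiftLeft (smear 24 (units m n x)) (24 * r)) (m * k + i - 1)) =
        if bsel m n x k ∧ i = r + 1 then lane Y (m * k + i) ^^^ lane Y (m * k + i - 1) else 0 := by
      have hmask : ∀ a b : ℕ, (a ^^^ b) < 2 ^ 24 → (a ^^^ b) &&& allN = a ^^^ b := fun a b h => by
        rw [show allN = 2 ^ 24 - 1 from rfl, Nat.and_two_pow_sub_one_eq_mod, Nat.mod_eq_of_lt h]
      rcases Nat.eq_zero_or_pos i with rfl | hi0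
      · by_cases h0 : m * k + 0 = 0
        · rw [if_pos h0]; simp
        · have hk0 : 0 < k := by
            rcases Nat.eq_zero_or_pos k with rfl | h'
            · simp at h0
            · exact h'
          have e : m * k + 0 - 1 = m * (k - 1) + (m - 1) := by
            rw [Nat.mul_sub, Nat.mul_one]
            have : m * 1 ≤ m * k := Nat.mul_le_mul_left m hk0
            omega
          rw [if_neg h0, e, lane_swapMask hm (by omega) hn (by omega) (by omega),
            if_neg (fun hc => by omega), if_neg (fun hc => by omega)]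
          simp
      · rw [if_neg (by omega), show m * k + i - 1 = m * k + (i - 1) by omega,
          lane_swapMask hm hk hn (by omega) (show i - 1 < m by omega)]
        by_cases hc : bsel m n x k ∧ i = r + 1
        · rw [if_pos hc, if_pos ⟨by omega, hc.1⟩,
            hmask _ _ (Nat.xor_lt_two_pow (lane_lt _ _) (lane_lt _ _))]
        · rw [if_neg hc, if_neg (fun h' => hc ⟨h'.2, by omega⟩)]
          simp
    have hmask : ∀ a b : ℕ, (a ^^^ b) < 2 ^ 24 → (a ^^^ b) &&& allN = a ^^^ b := fun a b h => by
      rw [show allN = 2 ^ 24 - 1 from rfl, Nat.and_two_pow_sub_one_eq_mod, Nat.mod_eq_of_lt h]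
    rw [hprev]
    by_cases hx : bsel m n x k = true
    · by_cases h1 : i = r
      · subst h1
        simp only [hx, and_true, true_and, and_self, ↓reduceIte, if_neg (show ¬ i = i + 1 by omega)]
        rw [
          hmask _ _ (Nat.xor_lt_two_pow (lane_lt _ _) (lane_lt _ _)), Nat.xor_zero,
          Nat.xor_comm (lane Y (m * k + i + 1)), ← Nat.xor_assoc, Nat.xor_self, Nat.zero_xor]
      · by_cases h2 : i = r + 1
        · rw [if_neg (fun hc => h1 hc.1), if_pos ⟨hx, h2⟩, if_neg (fun hc => h1 hc.2),
            if_pos ⟨hx, h2⟩, Nat.and_zero, Nat.xor_zero, ← Nat.xor_assoc, Nat.xor_self,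
            Nat.zero_xor]
        · simp [h1, h2]
    · simp [hx]
  ext s
  simp only [mem_fam]
  by_cases hx : bsel m n x k = true
  · constructor
    · rintro ⟨i, hi, rfl⟩
      rw [hl i hi]
      by_cases h1 : i = r
      · exact ⟨r + 1, hr, by rw [if_pos ⟨hx, h1⟩, h1, Nat.add_assoc]⟩
      · by_cases h2 : i = r + 1
        · exact ⟨r, by omega, by rw [if_neg (fun hc => h1 hc.2), if_pos ⟨hx, h2⟩, h2]; simp⟩
        · exact ⟨i, hi, by rw [if_neg (fun hc => h1 hc.2), if_neg (fun hc => h2 hc.2)]⟩
    · rintro ⟨i, hi, rfl⟩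
      by_cases h1 : i = r
      · refine ⟨r + 1, hr, ?_⟩
        rw [hl _ hr, if_neg (fun hc => by omega), if_pos ⟨hx, rfl⟩, h1]; simp
      · by_cases h2 : i = r + 1
        · refine ⟨r, by omega, ?_⟩
          rw [hl _ (by omega), if_pos ⟨hx, rfl⟩, h2, Nat.add_assoc]
        · refine ⟨i, hi, ?_⟩
          rw [hl _ hi, if_neg (fun hc => h1 hc.2), if_neg (fun hc => h2 hc.2)]
  · refine exists_congr fun i => and_congr_right fun hi => ?_
    rw [hl i hi, if_neg (fun hc => hx hc.1), if_neg (fun hc => hx hc.1)]

/-! ### Programs -/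

/-- Run table steps `(index, selection)`. -/
def runGens (m n : ℕ) (gens : List (List ℕ)) : List (ℕ × ℕ) → ℕ → ℕ
  | [], Y => Y
  | q :: gs, Y => runGens m n gens gs (genStep m n (gens.getD q.1 Golay.idTab) q.2 Y)

/-- Run member exchanges `(position, selection)`. -/
def runSwaps (m n : ℕ) : List (ℕ × ℕ) → ℕ → ℕ
  | [], Y => Y
  | q :: ss, Y => runSwaps m n ss (swapStep m n q.1 q.2 Y)

/-- Run table steps, then member exchanges. -/
def runProg (m n : ℕ) (gens : List (List ℕ)) (gs ss : List (ℕ × ℕ)) (Y : ℕ) : ℕ :=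
  runSwaps m n ss (runGens m n gens gs Y)

/-- Every table is a permutation table of an element of `H`. -/
def GensIn (H : Subgroup ↥Cfsg.M24) (gens : List (List ℕ)) : Prop :=
  ∀ l ∈ gens, l.length = 24 ∧ ∃ g ∈ H, Tab ((g : ↥Cfsg.M24) : Equiv.Perm GolayPt) l

theorem runProg_mem_orbit {H : Subgroup ↥Cfsg.M24} {m n : ℕ} {gens : List (List ℕ)}
    (hgens : GensIn H gens) (hm : 0 < m) (hn : n ≤ 4096) :
    ∀ (gs ss : List (ℕ × ℕ)) (Y : ℕ), (∀ q ∈ ss, q.1 + 1 < m) → ∀ k < n,
      fam m (runProg m n gens gs ss Y) k ∈ MulAction.orbit ↥H (fam m Y k)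
  | [], [], Y, _, k, _ => MulAction.mem_orbit_self _
  | [], (r, x) :: ss, Y, hss, k, hk => by
    rw [show runProg m n gens [] ((r, x) :: ss) Y = runProg m n gens [] ss (swapStep m n r x Y)
      from rfl, ← fam_swapStep (hss (r, x) List.mem_cons_self) hk hn Y (x := x)]
    exact runProg_mem_orbit hgens hm hn [] ss _ (fun q hq => hss q (List.mem_cons_of_mem _ hq)) k hk
  | (g, x) :: gs, ss, Y, hss, k, hk => by
    rw [show runProg m n gens ((g, x) :: gs) ss Y =
      runProg m n gens gs ss (genStep m n (gens.getD g Golay.idTab) x Y) from rfl]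
    have hgen : ∃ σ ∈ H, Tab ((σ : ↥Cfsg.M24) : Equiv.Perm GolayPt) (gens.getD g Golay.idTab) ∧
        (gens.getD g Golay.idTab).length = 24 := by
      rcases lt_or_ge g gens.length with hg | hg
      · rw [List.getD_eq_getElem _ _ hg]
        obtain ⟨h1, σ, h2, h3⟩ := hgens _ (List.getElem_mem hg)
        exact ⟨σ, h2, h3, h1⟩
      · rw [List.getD_eq_default _ _ hg]
        exact ⟨1, H.one_mem, Golay.tab_one, by simp [Golay.idTab]⟩
    obtain ⟨σ, hσH, hσ, hlen⟩ := hgen
    have ih := runProg_mem_orbit hgens hm hn gs ss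
      (genStep m n (gens.getD g Golay.idTab) x Y) hss k hk
    rw [fam_genStep hσ hlen hm hk hn] at ih
    split at ih
    · have e : MulAction.orbit ↥H ((⟨σ, hσH⟩ : ↥H) • fam m Y k) =
          MulAction.orbit ↥H (fam m Y k) := MulAction.orbit_smul _ _
      exact e ▸ ih
    · exact ih

/-- Copy the object with packed lanes `R` into every position. -/
def bcast (m n R : ℕ) : ℕ := go (24 * m) R
where
  /-- `∨ (unit mask) <<< i` over the set bits `i < w` of `R`. -/
  go : ℕ → ℕ → ℕ
    | 0, _ => 0
    | w + 1, R => Nat.lor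
        (bif (Nat.land (Nat.shiftRight R w) 1).beq 1 then Nat.shiftLeft (unitMask m n) w else 0)
        (go w R)

theorem lane_bcast {m n R k r : ℕ} (hm : 0 < m) (hk : k < n) (hr : r < m) :
    lane (bcast m n R) (m * k + r) = lane R r := by
  have hgo : ∀ (w p : ℕ), (bcast.go m n w R).testBit p = true ↔
      ∃ i < w, i ≤ p ∧ R.testBit i = true ∧ (unitMask m n).testBit (p - i) = true := by
    intro w
    induction w with
    | zero => intro p; simp [bcast.go]
    | succ w ih =>
      intro p
      show ((bif (Nat.land (R >>> w) 1).beq 1 then (unitMask m n) <<< w else 0) |||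
        bcast.go m n w R).testBit p = true ↔ _
      rw [Nat.testBit_or, Bool.or_eq_true, ih]
      have hb : (Nat.land (R >>> w) 1).beq 1 = R.testBit w := by
        rw [show Nat.land (R >>> w) 1 = (R >>> w) &&& 1 from rfl, Nat.and_one_is_mod,
          Bool.eq_iff_iff, Nat.beq_eq, Nat.testBit, Nat.one_and_eq_mod_two]
        simp
      rw [hb]
      cases hRw : R.testBit w
      · simp only [cond_false, Nat.zero_testBit, Bool.false_eq_true, false_or]
        exact ⟨fun ⟨i, hi, h⟩ => ⟨i, by omega, h⟩, fun ⟨i, hi, h1, h2, h3⟩ => ⟨i,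
          (Nat.lt_succ_iff_lt_or_eq.mp hi).resolve_right (fun e => by subst e; rw [hRw] at h2; simp at h2),
          h1, h2, h3⟩⟩
      · simp only [cond_true, Nat.testBit_shiftLeft, Bool.and_eq_true, decide_eq_true_eq]
        constructor
        · rintro (⟨h1, h2⟩ | ⟨i, hi, h⟩)
          · exact ⟨w, by omega, h1, hRw, h2⟩
          · exact ⟨i, by omega, h⟩
        · rintro ⟨i, hi, h1, h2, h3⟩
          rcases Nat.lt_succ_iff_lt_or_eq.mp hi with hi | rfl
          · exact Or.inr ⟨i, hi, h1, h2, h3⟩
          · exact Or.inl ⟨h1, h3⟩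
  refine Nat.eq_of_testBit_eq fun i => ?_
  rw [testBit_lane, testBit_lane]
  by_cases hi : i < 24
  swap
  · simp [hi]
  rw [decide_eq_true hi, Bool.true_and, Bool.true_and, Bool.eq_iff_iff, bcast, hgo]
  constructor
  · rintro ⟨a, ha, hle, hR, hu⟩
    rw [testBit_unitMask hm] at hu
    obtain ⟨k', -, he⟩ := hu
    have hkk : k' = k := by
      rcases lt_trichotomy k k' with h | h | h
      · have : 24 * m * (k + 1) ≤ 24 * m * k' := Nat.mul_le_mul_left _ h
        simp only [Nat.mul_succ, Nat.mul_assoc] at this he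
        omega
      · exact h.symm
      · have : 24 * m * (k' + 1) ≤ 24 * m * k := Nat.mul_le_mul_left _ h
        simp only [Nat.mul_succ, Nat.mul_assoc] at this he
        omega
    subst hkk
    rw [Nat.mul_assoc] at he
    convert hR using 2; omega
  · intro h
    refine ⟨24 * r + i, by omega, by omega, h, ?_⟩
    rw [testBit_unitMask hm]
    exact ⟨k, hk, by rw [Nat.mul_assoc]; omega⟩

theorem fam_bcast {m n P q k : ℕ} (hm : 0 < m) (hk : k < n) :
    fam m (bcast m n (Nat.shiftRight P (24 * m * q))) k = fam m P q := by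
  unfold fam
  congr 1
  refine List.map_congr_left fun r hr => ?_
  rw [lane_bcast hm hk (List.mem_range.mp hr)]
  refine Nat.eq_of_testBit_eq fun i => ?_
  rw [testBit_lane, testBit_lane]
  show (decide (i < 24) && (P >>> (24 * m * q)).testBit (24 * r + i)) = _
  rw [Nat.testBit_shiftRight, show 24 * m * q + (24 * r + i) = 24 * (m * q + r) + i by
    rw [Nat.mul_assoc]; ring]

/-- The starting vector: each object becomes the representative of its label. -/
def startVec (m n P : ℕ) : List (ℕ × ℕ) → ℕ
  | [] => 0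
  | (q, x) :: rest =>
    selBlend (selMask m n x) (bcast m n (Nat.shiftRight P (24 * m * q))) (startVec m n P rest)

theorem fam_startVec {m n P k : ℕ} (hm : 0 < m) (hk : k < n) (hn : n ≤ 4096) :
    ∀ (reps : List (ℕ × ℕ)), (reps.any fun p => bsel m n p.2 k) = true →
      ∃ p ∈ reps, bsel m n p.2 k = true ∧ fam m (startVec m n P reps) k = fam m P p.1
  | [], h => by simp at h
  | (q, x) :: rest, h => by
    rw [startVec]
    by_cases hx : bsel m n x k = true
    · refine ⟨(q, x), List.mem_cons_self, hx, ?_⟩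
      rw [← fam_bcast hm hk (P := P) (q := q)]
      refine fam_congr fun r hr => ?_
      rw [lane_selBlend _ _ _ _ true (by rw [lane_selMask hm hk hn hr, hx])]
      rfl
    · have hx' : bsel m n x k = false := by simpa using hx
      obtain ⟨p, hp, hpk, he⟩ := fam_startVec hm hk hn rest (by simpa [hx'] using h)
      refine ⟨p, List.mem_cons_of_mem _ hp, hpk, he ▸ fam_congr fun r hr => ?_⟩
      rw [lane_selBlend _ _ _ _ false (by rw [lane_selMask hm hk hn hr, hx'])]
      rfl

/-- A full certificate: labelled representatives and the program. -/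
def orbitCheck (m n P : ℕ) (gens : List (List ℕ)) (reps gs ss : List (ℕ × ℕ)) : Bool :=
  (runProg m n gens gs ss (startVec m n P reps)).beq P && ss.all fun q => (q.1 + 1).blt m

/-- The labels partition `0, …, n-1` with the stated class sizes. -/
def labelCheck (m n : ℕ) (reps : List (ℕ × ℕ)) (sizes : List ℕ) : Bool :=
  (List.range n).all (fun k => ((reps.filter fun p => bsel m n p.2 k).length).beq 1) &&
    (reps.map fun p => ((List.range n).filter fun k => bsel m n p.2 k).length) == sizes

theorem exists_rep {H : Subgroup ↥Cfsg.M24} {m n P : ℕ} {gens : List (List ℕ)}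
    {reps gs ss : List (ℕ × ℕ)} {sizes : List ℕ} (hgens : GensIn H gens) (hm : 0 < m)
    (hn : n ≤ 4096) (hc : orbitCheck m n P gens reps gs ss = true)
    (hl : labelCheck m n reps sizes = true) {k : ℕ} (hk : k < n) :
    ∃ p ∈ reps, bsel m n p.2 k = true ∧ fam m P k ∈ MulAction.orbit ↥H (fam m P p.1) := by
  simp only [orbitCheck, Bool.and_eq_true, Nat.beq_eq, List.all_eq_true, Nat.blt_eq] at hc
  obtain ⟨hrun, hss⟩ := hc
  simp only [labelCheck, Bool.and_eq_true, List.all_eq_true, List.mem_range, Nat.beq_eq] at hl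
  have hany : (reps.any fun p => bsel m n p.2 k) = true := by
    have h1 := hl.1 k hk
    cases hf : reps.filter fun p => bsel m n p.2 k with
    | nil => rw [hf] at h1; simp at h1
    | cons a t =>
      have : a ∈ reps.filter fun p => bsel m n p.2 k := by rw [hf]; exact List.mem_cons_self
      exact List.any_eq_true.mpr ⟨a, (List.mem_filter.mp this).1, (List.mem_filter.mp this).2⟩
  obtain ⟨p, hp, hpk, he⟩ := fam_startVec (P := P) hm hk hn reps hany
  refine ⟨p, hp, hpk, ?_⟩
  have h := runProg_mem_orbit hgens hm hn gs ss (startVec m n P reps) hss k hk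
  rwa [hrun, he] at h

/-- Orbit representatives and orbit lengths from a certificate and a separating invariant. -/
theorem orbit_table {H : Subgroup ↥Cfsg.M24} {m n P : ℕ} {F : Set (Finset (Finset GolayPt))}
    {gens : List (List ℕ)} {reps gs ss : List (ℕ × ℕ)} {sizes : List ℕ} {β : Type}
    (inv : Finset (Finset GolayPt) → β)
    (hgens : GensIn H gens) (hm : 0 < m) (hn : n ≤ 4096)
    (hc : orbitCheck m n P gens reps gs ss = true) (hl : labelCheck m n reps sizes = true)
    (hF : ∀ T, T ∈ F ↔ ∃ k < n, fam m P k = T)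
    (hinj : ∀ j k, j < n → k < n → fam m P j = fam m P k → j = k)
    (hclosed : ∀ g : ↥Cfsg.M24, ∀ T ∈ F, g • T ∈ F)
    (hrep : ∀ p ∈ reps, p.1 < n)
    (hinv : ∀ g : ↥H, ∀ T, inv (g • T) = inv T)
    (hsep : (reps.map fun p => inv (fam m P p.1)).Nodup) :
    ∀ i (hi : i < reps.length), fam m P reps[i].1 ∈ F ∧
      (MulAction.orbit ↥H (fam m P reps[i].1)).ncard = sizes.getD i 0 ∧
      ∀ T ∈ F, ∃ j, ∃ hj : j < reps.length, T ∈ MulAction.orbit ↥H (fam m P reps[j].1) := by
  intro i hi
  have hFi : fam m P reps[i].1 ∈ F := (hF _).mpr ⟨_, hrep _ (List.getElem_mem hi), rfl⟩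
  refine ⟨hFi, ?_, fun T hT => ?_⟩
  swap
  · obtain ⟨k, hk, rfl⟩ := (hF T).mp hT
    obtain ⟨p, hp, -, h⟩ := exists_rep hgens hm hn hc hl hk
    obtain ⟨j, hj, rfl⟩ := List.getElem_of_mem hp
    exact ⟨j, hj, h⟩
  have hlab : ∀ k < n, (fam m P k ∈ MulAction.orbit ↥H (fam m P reps[i].1) ↔
      bsel m n reps[i].2 k = true) := by
    intro k hk
    obtain ⟨p, hp, hpk, h⟩ := exists_rep hgens hm hn hc hl hk
    obtain ⟨j, hj, rfl⟩ := List.getElem_of_mem hp
    constructor
    · intro h'
      obtain ⟨g, hg⟩ := MulAction.mem_orbit_iff.mp h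
      obtain ⟨g', hg'⟩ := MulAction.mem_orbit_iff.mp h'
      have e : inv (fam m P reps[j].1) = inv (fam m P reps[i].1) := by
        rw [← hinv g, hg, ← hg', hinv]
      have hij : j = i := by
        have := (hsep.getElem_inj_iff (i := j) (j := i) (hi := by simpa using hj)
          (hj := by simpa using hi)).mp (by simpa using e)
        exact this
      subst hij
      exact hpk
    · intro hik
      have h1 : reps[j] = reps[i] := by
        simp only [labelCheck, Bool.and_eq_true, List.all_eq_true, List.mem_range, Nat.beq_eq]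
          at hl
        obtain ⟨a, ha⟩ := List.length_eq_one_iff.mp (hl.1 k hk)
        have hj' : reps[j] ∈ reps.filter fun p => bsel m n p.2 k :=
          List.mem_filter.mpr ⟨List.getElem_mem hj, hpk⟩
        have hi' : reps[i] ∈ reps.filter fun p => bsel m n p.2 k :=
          List.mem_filter.mpr ⟨List.getElem_mem hi, hik⟩
        rw [ha, List.mem_singleton] at hj' hi'
        rw [hj', hi']
      rwa [h1] at h
  have horb : MulAction.orbit ↥H (fam m P reps[i].1) =
      (((((List.range n).filter fun k => bsel m n reps[i].2 k).toFinset).image (fam m P) :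
        Finset _) : Set (Finset (Finset GolayPt))) := by
    ext T
    simp only [Finset.coe_image, Set.mem_image, Finset.mem_coe, List.mem_toFinset,
      List.mem_filter, List.mem_range]
    constructor
    · intro hT
      obtain ⟨g, rfl⟩ := MulAction.mem_orbit_iff.mp hT
      obtain ⟨k, hk, he⟩ := (hF _).mp (hclosed (g : ↥Cfsg.M24) _ hFi)
      exact ⟨k, ⟨hk, (hlab k hk).mp (he ▸ hT)⟩, he⟩
    · rintro ⟨k, ⟨hk, hik⟩, rfl⟩
      exact (hlab k hk).mpr hik
  rw [horb, Set.ncard_coe_finset, Finset.card_image_of_injOn, List.toFinset_card_of_nodup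
    (List.nodup_range.filter _)]
  · simp only [labelCheck, Bool.and_eq_true, beq_iff_eq] at hl
    rw [← hl.2, List.getD_eq_getElem _ _ (by simpa using hi)]
    simp
  · intro a ha b hb hab
    simp only [Finset.coe_image, Finset.mem_coe, List.mem_toFinset, List.mem_filter,
      List.mem_range] at ha hb
    exact hinj a b ha.1 hb.1 hab

/-! ### The families are closed under `M24` -/

theorem smul_octad (g : ↥Cfsg.M24) {o : Finset GolayPt} (ho : o ∈ octads) : g • o ∈ octads := by
  refine ⟨Golay.mem_setSystemAut_iff.1 g.2 _ ho.1, ?_⟩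
  show ((g : Equiv.Perm GolayPt) • o).card = 8
  rw [Finset.card_smul_finset, ho.2]

theorem smul_dodecad (g : ↥Cfsg.M24) {o : Finset GolayPt} (ho : o ∈ dodecads) :
    g • o ∈ dodecads := by
  refine ⟨Golay.mem_setSystemAut_iff.1 g.2 _ ho.1, ?_⟩
  show ((g : Equiv.Perm GolayPt) • o).card = 12
  rw [Finset.card_smul_finset, ho.2]

theorem smul_trio (g : ↥Cfsg.M24) {T : Finset (Finset GolayPt)} (hT : T ∈ trios) :
    g • T ∈ trios := by
  obtain ⟨h3, ho, hd⟩ := hT
  refine ⟨by rw [Finset.card_smul_finset, h3], ?_, ?_⟩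
  · intro o ho'
    obtain ⟨a, ha, rfl⟩ := Finset.mem_smul_finset.mp ho'
    exact smul_octad g (ho a ha)
  · intro o ho1 o' ho2 hne
    obtain ⟨a, ha, rfl⟩ := Finset.mem_smul_finset.mp ho1
    obtain ⟨b, hb, rfl⟩ := Finset.mem_smul_finset.mp ho2
    have hab := hd a ha b hb (fun e => hne (by rw [e]))
    rw [Finset.disjoint_left] at hab ⊢
    intro p hp hp'
    rw [← Finset.inv_smul_mem_iff] at hp hp'
    exact hab hp hp'

theorem smul_sextet (g : ↥Cfsg.M24) {S : Finset (Finset GolayPt)} (hS : S ∈ sextets) :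
    g • S ∈ sextets := by
  obtain ⟨h6, h4, ho⟩ := hS
  refine ⟨by rw [Finset.card_smul_finset, h6], ?_, ?_⟩
  · intro t ht
    obtain ⟨a, ha, rfl⟩ := Finset.mem_smul_finset.mp ht
    rw [Finset.card_smul_finset, h4 a ha]
  · intro t ht u hu hne
    obtain ⟨a, ha, rfl⟩ := Finset.mem_smul_finset.mp ht
    obtain ⟨b, hb, rfl⟩ := Finset.mem_smul_finset.mp hu
    rw [← Finset.smul_finset_union]
    exact smul_octad g (ho a ha b hb (fun e => hne (by rw [e])))

end Cfsg.Agent.Sporadic96
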